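import Cfsg.Agent.Lib.Presented.Orbit
import Mathlib.GroupTheory.GroupAction.Blocks
import Mathlib.GroupTheory.Subgroup.Simple
import Mathlib.GroupTheory.OrderOfElement

/-!
Simplicity of a group given by checked permutations: the action is primitive, a prime `p` divides the
degree to the same power as the group order, and the group is generated by elements of order `p`.
-/
set_option autoImplicit false

namespace CfsgLib.Presented

open Vec

/-- the possible sums of a sublist -/
def sublistSums : List ℕ → List ℕ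
  | [] => [0]
  | s :: l => (sublistSums l) ++ (sublistSums l).map (s + ·)

/-- An orbit of the point stabiliser: a representative, rounds to grow it, the bit set, its size. -/
structure HOrbit where
  rep : ℕ
  rounds : ℕ
  bits : ℕ
  size : ℕ

/-- disjointness of the orbit bit sets from what has been seen, and full cover at the end -/
noncomputable def coverOK (n : ℕ) : List HOrbit → ℕ → Bool
  | [], acc => Nat.beq acc (ones n)
  | O :: l, acc => Nat.beq (Nat.land O.bits acc) 0 && Nat.beq (bitCount O.bits n) O.size &&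
      force (Nat.lor acc O.bits) (coverOK n l)

/-- no proper nontrivial block size -/
def noBlock (n : ℕ) (sizes : List ℕ) : Bool :=
  (sublistSums sizes).all fun t => Nat.beq t 0 || Nat.beq (t + 1) n || !(Nat.beq (n % (t + 1)) 0)

/-- the words check of generation by conjugates of powers of `u` -/
noncomputable def genOK (R : Rep) (u : List ℕ) (p : ℕ) (conj : List (List (List ℕ × ℕ))) : Bool :=
  R.relsOK [wpow u p] && Nat.beq conj.length R.A.eps &&
    (List.range R.A.eps).all fun x =>
      (conj.getD x []).all (fun d => d.1.all fun y => Nat.blt y R.A.eps) &&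
        R.relsOK [(conj.getD x []).flatMap (fun d => d.1 ++ wpow u d.2 ++ invWord R.A d.1) ++ [R.A.invl x]]

theorem cover_sum {n : ℕ} (B : Finset ℕ) : ∀ (l : List HOrbit) (acc : ℕ), coverOK n l acc = true →
    (∀ O ∈ l, (∀ i, i < n → O.bits.testBit i = true → i ∈ B) ∨ ∀ i, i < n → O.bits.testBit i = true → i ∉ B) →
    ((Finset.range n).filter fun i => i ∈ B ∧ acc.testBit i = false).card ∈ sublistSums (l.map HOrbit.size)
  | [], acc, h, _ => by
    have : ((Finset.range n).filter fun i => i ∈ B ∧ acc.testBit i = false) = ∅ := by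
      ext i
      simp only [Finset.mem_filter, Finset.mem_range, Finset.notMem_empty, iff_false, not_and]
      intro hi _
      rw [Nat.eq_of_beq_eq_true h, testBit_ones]
      simp [hi]
    simp [this, sublistSums]
  | O :: l, acc, h, hB => by
    classical
    simp only [coverOK, force_eq, Bool.and_eq_true] at h
    obtain ⟨⟨hd, hs⟩, hrest⟩ := h
    have ih := cover_sum B l _ hrest (fun Q hQ => hB Q (List.mem_cons_of_mem _ hQ))
    have hdis : ∀ i, O.bits.testBit i = true → acc.testBit i = false := by
      intro i hi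
      have h0 : O.bits &&& acc = 0 := Nat.eq_of_beq_eq_true hd
      have := congrArg (fun x => x.testBit i) h0
      simpa [Nat.testBit_and, hi] using this
    have hsz : O.size = ((Finset.range n).filter fun i => O.bits.testBit i = true).card := by
      rw [← Nat.eq_of_beq_eq_true hs, bitCount_eq]
    have e : ∀ i, (Nat.lor acc O.bits).testBit i = (acc.testBit i || O.bits.testBit i) :=
      fun i => Nat.testBit_or acc O.bits i
    have hsplit : ((Finset.range n).filter fun i => i ∈ B ∧ acc.testBit i = false).card =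
        ((Finset.range n).filter fun i => i ∈ B ∧ O.bits.testBit i = true).card +
          ((Finset.range n).filter fun i => i ∈ B ∧ (Nat.lor acc O.bits).testBit i = false).card := by
      rw [← Finset.card_union_of_disjoint]
      · congr 1
        ext i
        simp only [Finset.mem_union, Finset.mem_filter]
        rw [e i]
        constructor
        · rintro ⟨h1, h2, h3⟩
          cases hb : O.bits.testBit i
          · exact Or.inr ⟨h1, h2, by simp [h3]⟩
          · exact Or.inl ⟨h1, h2, rfl⟩
        · rintro (⟨h1, h2, h3⟩ | ⟨h1, h2, h3⟩)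
          · exact ⟨h1, h2, hdis i h3⟩
          · simp only [Bool.or_eq_false_iff] at h3
            exact ⟨h1, h2, h3.1⟩
      · rw [Finset.disjoint_filter]
        intro i _ h1 h2
        rw [e i, h1.2, Bool.or_true] at h2
        exact absurd h2.2 (by simp)
    rw [List.map_cons, sublistSums, hsplit]
    rcases hB O List.mem_cons_self with hin | hout
    · refine List.mem_append.2 (Or.inr (List.mem_map.2 ⟨_, ih, ?_⟩))
      rw [hsz]
      congr 2
      ext i
      simp only [Finset.mem_filter, Finset.mem_range]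
      exact ⟨fun h => ⟨h.1, hin i h.1 h.2, h.2⟩, fun h => ⟨h.1, h.2.2⟩⟩
    · refine List.mem_append.2 (Or.inl ?_)
      have h0 : ((Finset.range n).filter fun i => i ∈ B ∧ O.bits.testBit i = true).card = 0 := by
        rw [Finset.card_eq_zero, Finset.filter_eq_empty_iff]
        intro i hi h
        exact hout i (Finset.mem_range.1 hi) h.2 h.1
      rwa [h0, zero_add]

/-- The simplicity criterion. -/
theorem isSimpleGroup_of_cert {G : Type*} [Group G] {R : Rep} (hR : R.valid = true) (hN : 0 < R.N)
    {ev : ℕ → G} (φ : G →* Equiv.Perm (Fin R.N)) (hφ : ∀ x, x < R.A.eps → φ (ev x) = R.perm hR x)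
    (hinj : Function.Injective φ) (htr : ∀ j : Fin R.N, ∃ g, φ g ⟨0, hN⟩ = j)
    (hgen : Subgroup.closure (ev '' Set.Iio R.A.eps) = ⊤)
    {H : Subgroup G} {ws : List (List ℕ)} (hH : H = Subgroup.closure ((fun w => evW ev w) '' {w | w ∈ ws}))
    (hfix : ∀ h ∈ H, φ h ⟨0, hN⟩ = ⟨0, hN⟩)
    (Os : List HOrbit) (horb : (Os.all fun O => orbitOK R ws O.rep O.rounds O.bits) = true)
    (hcover : coverOK R.N Os 1 = true) (hblock : noBlock R.N (Os.map HOrbit.size) = true)
    (hcard : 1 < Nat.card G) (p k : ℕ) (hp : p.Prime) (hpk : p ^ k ∣ R.N) (hpk' : ¬ p ^ (k + 1) ∣ Nat.card G)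
    (u : List ℕ) (conj : List (List (List ℕ × ℕ))) (hconj : genOK R u p conj = true) : IsSimpleGroup G := by
  classical
  have : Finite G := Finite.of_injective φ hinj
  have : Nontrivial G := Finite.one_lt_card_iff_nontrivial.1 hcard
  refine ⟨fun N hN' => ?_⟩
  rcases eq_or_ne N ⊥ with h | hne
  · exact Or.inl h
  refine Or.inr ?_
  let inst : MulAction G (Fin R.N) := MulAction.compHom (Fin R.N) φ
  have hsmul : ∀ (g : G) (i : Fin R.N), g • i = φ g i := fun _ _ => rfl
  let z : Fin R.N := ⟨0, hN⟩
  have hpre : MulAction.IsPretransitive G (Fin R.N) := ⟨fun a b => by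
    obtain ⟨g, hg⟩ := htr a
    obtain ⟨h, hh⟩ := htr b
    refine ⟨h * g⁻¹, ?_⟩
    rw [hsmul, map_mul, Equiv.Perm.mul_apply, ← hg, ← Equiv.Perm.mul_apply (φ g⁻¹), ← map_mul,
      inv_mul_cancel, map_one, Equiv.Perm.one_apply, hh]⟩
  let B : Set (Fin R.N) := MulAction.orbit N z
  have hBblock : MulAction.IsBlock G B := MulAction.IsBlock.orbit_of_normal z
  have hzB : z ∈ B := MulAction.mem_orbit_self z
  have hdvd : B.ncard ∣ R.N := by
    have h1 := MulAction.IsBlock.ncard_dvd_card hBblock ⟨z, hzB⟩
    rwa [Nat.card_fin] at h1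
  have hHB : ∀ h ∈ H, ∀ i, i ∈ B → φ h i ∈ B := by
    rintro h hh _ ⟨⟨n, hn⟩, rfl⟩
    refine ⟨⟨h * n * h⁻¹, hN'.conj_mem n hn h⟩, ?_⟩
    show φ (h * n * h⁻¹) z = φ h (φ n z)
    rw [map_mul, map_mul, Equiv.Perm.mul_apply, Equiv.Perm.mul_apply]
    congr 2
    exact hfix h⁻¹ (H.inv_mem hh)
  let BF : Finset ℕ := (Finset.univ.filter fun i => i ∈ B).image Fin.val
  have hBF : ∀ i : Fin R.N, (i : ℕ) ∈ BF ↔ i ∈ B := by
    intro i
    simp [BF, Fin.val_inj]
  have hdich : ∀ O ∈ Os, (∀ i, i < R.N → O.bits.testBit i = true → i ∈ BF) ∨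
      ∀ i, i < R.N → O.bits.testBit i = true → i ∉ BF := by
    intro O hO
    rw [or_iff_not_imp_left]
    intro hnot i hi hb hiB
    apply hnot
    intro j hj hjb
    have hok := List.all_eq_true.1 horb O hO
    have hrep : O.rep < R.N := by
      simp only [orbitOK, Bool.and_eq_true, Nat.blt_eq] at hok
      exact hok.1.1
    obtain ⟨h1, hh1, e1⟩ := (orbit_eq_of_ok hR hok φ hφ hH hrep ⟨i, hi⟩).2 hb
    obtain ⟨h2, hh2, e2⟩ := (orbit_eq_of_ok hR hok φ hφ hH hrep ⟨j, hj⟩).2 hjb
    have hrB : (⟨O.rep, hrep⟩ : Fin R.N) ∈ B := by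
      have := hHB h1⁻¹ (H.inv_mem hh1) _ ((hBF ⟨i, hi⟩).1 hiB)
      rw [← e1, ← Equiv.Perm.mul_apply, ← map_mul, inv_mul_cancel, map_one, Equiv.Perm.one_apply] at this
      exact this
    exact (hBF ⟨j, hj⟩).2 (e2 ▸ hHB h2 hh2 _ hrB)
  have hmem := cover_sum BF Os 1 hcover hdich
  have hcardB : B.ncard = ((Finset.range R.N).filter fun i => i ∈ BF ∧ (1 : ℕ).testBit i = false).card + 1 := by
    have e : B.ncard = BF.card := by
      rw [Finset.card_image_of_injective _ Fin.val_injective]
      rw [← Set.ncard_coe_finset]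
      congr 1
      ext i
      simp
    rw [e]
    have e2 : BF = insert 0 ((Finset.range R.N).filter fun i => i ∈ BF ∧ (1 : ℕ).testBit i = false) := by
      ext i
      simp only [Finset.mem_insert, Finset.mem_filter, Finset.mem_range]
      constructor
      · intro hi
        rcases Nat.eq_zero_or_pos i with h | h
        · exact Or.inl h
        · refine Or.inr ⟨?_, hi, ?_⟩
          · simp only [BF, Finset.mem_image] at hi
            obtain ⟨a, -, rfl⟩ := hi
            exact a.2
          · cases hb : (1 : ℕ).testBit i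
            · rfl
            · exact absurd (VCert.one_bit hb) (by omega)
      · rintro (rfl | ⟨-, h, -⟩)
        · exact (hBF z).2 hzB
        · exact h
    conv_lhs => rw [e2]
    rw [Finset.card_insert_of_notMem (by simp)]
  simp only [noBlock, List.all_eq_true, Bool.or_eq_true, Bool.not_eq_true'] at hblock
  have hB : B.ncard = R.N := by
    rcases hblock _ hmem with (h | h) | h
    · exfalso
      -- B = {z}: then N fixes every point
      rw [Nat.eq_of_beq_eq_true h] at hcardB
      obtain ⟨a, ha⟩ := Set.ncard_eq_one.1 hcardB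
      apply hne
      rw [Subgroup.eq_bot_iff_forall]
      intro n hn
      apply hinj
      rw [map_one]
      refine Equiv.ext fun j => ?_
      obtain ⟨g, rfl⟩ := htr j
      have h2 : φ (g⁻¹ * n * g) z ∈ B := ⟨⟨_, hN'.conj_mem' n hn g⟩, rfl⟩
      have haz : z = a := by
        rw [ha] at hzB
        simpa using hzB
      rw [ha, Set.mem_singleton_iff, ← haz] at h2
      rw [map_mul, map_mul, Equiv.Perm.mul_apply, Equiv.Perm.mul_apply, map_inv] at h2
      have h3 := congrArg (φ g) h2
      simpa using h3
    · rw [hcardB, Nat.eq_of_beq_eq_true h]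
    · exfalso
      rw [← hcardB, Nat.mod_eq_zero_of_dvd hdvd] at h
      simp [Nat.beq_refl] at h
  have hNcard : R.N ∣ Nat.card N := by
    rw [← hB, ← MulAction.index_stabilizer N z]
    exact Subgroup.index_dvd_card _
  have hidx : ¬ p ∣ N.index := by
    intro h
    apply hpk'
    rw [← N.card_mul_index, pow_succ]
    exact Nat.mul_dvd_mul (hpk.trans hNcard) h
  simp only [genOK, Bool.and_eq_true, List.all_eq_true, List.mem_range] at hconj
  obtain ⟨⟨hup, -⟩, hx⟩ := hconj
  have hgood := Rep.perm_good hR
  have hevW : ∀ w : List ℕ, (∀ y ∈ w, y < R.A.eps) → φ (evW ev w) = evW (R.perm hR) w := by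
    intro w hw
    simp only [evW, map_list_prod, List.map_map]
    rw [List.map_congr_left (f := ⇑φ ∘ ev) (g := R.perm hR) fun y hy => hφ y (hw y hy)]
  have hlets : ∀ w, R.relsOK [w] = true → ∀ y ∈ w, y < R.A.eps := by
    intro w h y hy
    simp only [Rep.relsOK, List.all_eq_true, Bool.and_eq_true, List.mem_singleton, forall_eq] at h
    have := h.1 y hy
    rwa [Nat.blt_eq] at this
  have hu : ∀ y ∈ u, y < R.A.eps := by
    intro y hy
    apply hlets _ hup y
    simp only [wpow, List.mem_flatten, List.mem_replicate]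
    exact ⟨u, ⟨hp.ne_zero, rfl⟩, hy⟩
  have hupow : evW ev u ^ p = 1 := by
    apply hinj
    rw [map_pow, hevW u hu, ← evW_wpow, map_one]
    exact Rep.evW_eq_one hR hup (by simp)
  have huN : evW ev u ∈ N := by
    rw [← QuotientGroup.eq_one_iff]
    have h1 : orderOf ((evW ev u : G) : G ⧸ N) ∣ p :=
      orderOf_dvd_of_pow_eq_one (by rw [← QuotientGroup.mk_pow, hupow, QuotientGroup.mk_one])
    have h2 : orderOf ((evW ev u : G) : G ⧸ N) ∣ N.index := by
      rw [Subgroup.index_eq_card]
      exact orderOf_dvd_natCard _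
    rcases (Nat.dvd_prime hp).1 h1 with h | h
    · exact orderOf_eq_one_iff.1 h
    · exact absurd (h ▸ h2) hidx
  rw [eq_top_iff, ← hgen, Subgroup.closure_le]
  rintro _ ⟨x, hxlt, rfl⟩
  obtain ⟨hdl, hrel⟩ := hx x hxlt
  let W := (conj.getD x []).flatMap (fun d => d.1 ++ wpow u d.2 ++ invWord R.A d.1)
  have hW : ∀ y ∈ W, y < R.A.eps := fun y hy => hlets _ hrel y (List.mem_append.2 (Or.inl hy))
  have hex : ev x = evW ev W := by
    apply hinj
    rw [hevW W hW, hφ x hxlt]
    have h1 := Rep.evW_eq_one hR hrel (w := W ++ [R.A.invl x]) (by simp [W])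
    rw [evW_append, evW_cons, evW_nil, mul_one] at h1
    rw [eq_inv_of_mul_eq_one_left h1, eq_inv_of_mul_eq_one_left (hgood.inv x (le_of_lt hxlt)), inv_inv]
  rw [SetLike.mem_coe, hex]
  suffices h : ∀ ds : List (List ℕ × ℕ), (∀ d ∈ ds, ∀ y ∈ d.1, y < R.A.eps) →
      evW ev (ds.flatMap fun d => d.1 ++ wpow u d.2 ++ invWord R.A d.1) ∈ N from
    h _ (fun d hd y hy => by
      have := hdl d hd y hy
      rwa [Nat.blt_eq] at this)
  intro ds
  induction ds with
  | nil => intro _; simpa using N.one_mem
  | cons d ds ih =>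
    intro hd
    rw [List.flatMap_cons, evW_append]
    refine N.mul_mem ?_ (ih fun e he => hd e (List.mem_cons_of_mem _ he))
    have hinvl : ∀ y ∈ invWord R.A d.1, y < R.A.eps := by
      intro y hy
      simp only [invWord, List.mem_reverse, List.mem_map] at hy
      obtain ⟨a, ha, rfl⟩ := hy
      have hA := (Rep.valid_spec hR).1
      simp only [Alphabet.valid, Bool.and_eq_true, List.all_eq_true, List.mem_range] at hA
      have := hA.1 a (hd d List.mem_cons_self a ha)
      rwa [Nat.blt_eq] at this
    have hd1 := hd d List.mem_cons_self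
    have hi : evW ev (invWord R.A d.1) = (evW ev d.1)⁻¹ := by
      apply hinj
      rw [map_inv, hevW _ hinvl, hevW _ hd1, evW_invWord hgood fun y hy => (hd1 y hy).le]
    rw [evW_append, evW_append, hi, evW_wpow]
    exact hN'.conj_mem _ (N.pow_mem huN _) _

end CfsgLib.Presented
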