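import Cfsg.Agent.Lib.Presented.Coset
import Mathlib.Data.Set.Card

/-!
Orbits of a subgroup given by words, computed on bit vectors.
-/
set_option autoImplicit false

namespace CfsgLib.Presented

open Vec

/-- number of set bits below `n` -/
noncomputable def bitCount (v n : ℕ) : ℕ :=
  Nat.rec (motive := fun _ => ℕ) 0
    (fun k ih => force ih fun ih => Nat.add ih (Nat.mod (Nat.shiftRight v k) 2)) n

theorem bitCount_eq (v : ℕ) : ∀ n : ℕ, bitCount v n = ((Finset.range n).filter fun i => v.testBit i = true).card
  | 0 => rfl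
  | n + 1 => by
    have h : bitCount v (n + 1) = bitCount v n + (v >>> n) % 2 := by
      show (force (bitCount v n) fun ih => Nat.add ih (Nat.mod (Nat.shiftRight v n) 2)) = _
      rw [force_eq]
      rfl
    have e : v.testBit n = decide ((v >>> n) % 2 = 1) := by
      rw [Nat.shiftRight_eq_div_pow, Nat.testBit_eq_decide_div_mod_eq]
    rw [h, bitCount_eq v n, Finset.range_add_one, Finset.filter_insert]
    rcases Nat.mod_two_eq_zero_or_one (v >>> n) with u | u
    · simp [e, u]
    · rw [if_pos (by simp [e, u]), Finset.card_insert_of_notMem (by simp), u]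

/-- add the images of `S` under the words of `ws` -/
noncomputable def growStep (R : Rep) : List (List ℕ) → ℕ → ℕ
  | [], S => S
  | w :: ws, S => growStep R ws (Nat.lor S (applyNet (R.netW w) S))

/-- repeat `growStep` -/
noncomputable def grow (R : Rep) (ws : List (List ℕ)) : ℕ → ℕ → ℕ
  | 0, S => S
  | n + 1, S => force (growStep R ws S) fun S => grow R ws n S

/-- `O` is the orbit of the point `i` under the words -/
noncomputable def orbitOK (R : Rep) (ws : List (List ℕ)) (i rounds O : ℕ) : Bool :=
  Nat.blt i R.N && Nat.beq (grow R ws rounds (Nat.shiftLeft 1 i)) O &&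
    ws.all fun w => w.all (fun y => Nat.blt y R.A.eps) && Nat.beq (applyNet (R.netW w) O) O

variable {G : Type*} [Group G] {R : Rep}

theorem orbit_eq_of_ok (hR : R.valid = true) {ws : List (List ℕ)} {i rounds O : ℕ}
    (hok : orbitOK R ws i rounds O = true) {ev : ℕ → G} (φ : G →* Equiv.Perm (Fin R.N))
    (hφ : ∀ x, x < R.A.eps → φ (ev x) = R.perm hR x) {H : Subgroup G}
    (hH : H = Subgroup.closure ((fun w => evW ev w) '' {w | w ∈ ws})) (hi : i < R.N) :
    ∀ j : Fin R.N, ((∃ h ∈ H, φ h ⟨i, hi⟩ = j) ↔ O.testBit j = true) := by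
  simp only [orbitOK, Bool.and_eq_true, List.all_eq_true] at hok
  obtain ⟨⟨-, hgrow⟩, hinv⟩ := hok
  have hw : ∀ w ∈ ws, φ (evW ev w) = evW (R.perm hR) w := by
    intro w hw
    have hl : ∀ y ∈ w, y < R.A.eps := fun y hy => by
      have := (hinv w hw).1 y hy
      rwa [Nat.blt_eq] at this
    simp only [evW, map_list_prod, List.map_map]
    rw [List.map_congr_left (f := ⇑φ ∘ ev) (g := R.perm hR) fun x hx => hφ x (hl x hx)]
  intro j
  constructor
  · rintro ⟨h, hh, rfl⟩
    have h0 : O.testBit i = true := by
      have key : ∀ n S, S.testBit i = true → (grow R ws n S).testBit i = true := by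
        intro n
        induction n with
        | zero => exact fun S h => h
        | succ n ih =>
          intro S hS
          rw [grow, force_eq]
          apply ih
          suffices h : ∀ l S, S.testBit i = true → (growStep R l S).testBit i = true from h ws S hS
          intro l
          induction l with
          | nil => exact fun S h => h
          | cons w l ihl =>
            intro S hS
            refine ihl _ ?_
            change Nat.testBit (S ||| _) i = true
            rw [Nat.testBit_or, hS, Bool.true_or]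
      rw [← Nat.eq_of_beq_eq_true hgrow]
      apply key
      show Nat.testBit (1 <<< i) i = true
      simp [Nat.testBit_shiftLeft]
    have hstab : ∀ h ∈ H, ∀ k : Fin R.N, O.testBit (φ h k : ℕ) = O.testBit (k : ℕ) := by
      rw [hH]
      intro h hh
      induction hh using Subgroup.closure_induction with
      | mem y hy =>
        obtain ⟨w, hwm, rfl⟩ := hy
        intro k
        rw [hw w hwm, Rep.netW_perm hR w k, ← testBit_applyNet (Rep.netOk_netW hR w),
          Nat.eq_of_beq_eq_true (hinv w hwm).2]
      | one => simp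
      | mul y z _ _ ihy ihz => intro k; rw [map_mul, Equiv.Perm.mul_apply, ihy, ihz]
      | inv y _ ih =>
        intro k
        have := ih (φ y⁻¹ k)
        rw [← Equiv.Perm.mul_apply, ← map_mul, mul_inv_cancel, map_one, Equiv.Perm.one_apply] at this
        exact this.symm
    rw [hstab h hh]
    exact h0
  · intro hj
    have key : ∀ n S, (∀ k : Fin R.N, S.testBit k = true → ∃ h ∈ H, φ h ⟨i, hi⟩ = k) →
        ∀ k : Fin R.N, (grow R ws n S).testBit k = true → ∃ h ∈ H, φ h ⟨i, hi⟩ = k := by
      intro n
      induction n with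
      | zero => exact fun S h => h
      | succ n ih =>
        intro S hS
        rw [grow, force_eq]
        apply ih
        suffices h : ∀ l : List (List ℕ), (∀ w ∈ l, w ∈ ws) → ∀ S,
            (∀ k : Fin R.N, S.testBit k = true → ∃ h ∈ H, φ h ⟨i, hi⟩ = k) →
            ∀ k : Fin R.N, (growStep R l S).testBit k = true → ∃ h ∈ H, φ h ⟨i, hi⟩ = k from
          h ws (fun w h => h) S hS
        intro l
        induction l with
        | nil => exact fun _ S h => h
        | cons w l ihl =>
          intro hsub S hS
          refine ihl (fun v hv => hsub v (List.mem_cons_of_mem _ hv)) _ ?_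
          intro k hk
          change Nat.testBit (S ||| _) k = true at hk
          rw [Nat.testBit_or, Bool.or_eq_true] at hk
          refine hk.elim (hS k) fun hk => ?_
          rw [testBit_applyNet (Rep.netOk_netW hR w), ← Rep.netW_perm hR w k] at hk
          obtain ⟨h, hh, he⟩ := hS _ hk
          have hmem : evW ev w ∈ H := hH ▸ Subgroup.subset_closure ⟨w, hsub w List.mem_cons_self, rfl⟩
          refine ⟨(evW ev w)⁻¹ * h, H.mul_mem (H.inv_mem hmem) hh, ?_⟩
          rw [map_mul, Equiv.Perm.mul_apply, he, ← hw w (hsub w List.mem_cons_self), ← Equiv.Perm.mul_apply,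
            ← map_mul, inv_mul_cancel, map_one, Equiv.Perm.one_apply]
    rw [← Nat.eq_of_beq_eq_true hgrow] at hj
    refine key rounds _ (fun k hk => ?_) j hj
    refine ⟨1, H.one_mem, ?_⟩
    change Nat.testBit (1 <<< i) k = true at hk
    rw [Nat.testBit_shiftLeft, Bool.and_eq_true, decide_eq_true_eq] at hk
    apply Fin.ext
    have := VCert.one_bit hk.2
    simp
    omega

/-- The size of an orbit on the cosets, read off the table. -/
theorem orbit_ncard_of_ok {H : Subgroup G} (e : G ⧸ H ≃ Fin R.N) (φ : G →* Equiv.Perm (Fin R.N))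
    (he : ∀ (g : G) (q : G ⧸ H), e (g • q) = φ g (e q))
    (hR : R.valid = true) {ws : List (List ℕ)} {i rounds O : ℕ} (hok : orbitOK R ws i rounds O = true)
    {ev : ℕ → G} (hφ : ∀ x, x < R.A.eps → φ (ev x) = R.perm hR x)
    (hH : H = Subgroup.closure ((fun w => evW ev w) '' {w | w ∈ ws})) (hi : i < R.N) {n : ℕ}
    (hn : Nat.beq (bitCount O R.N) n = true) :
    (∀ q, q ∈ MulAction.orbit H (e.symm ⟨i, hi⟩) ↔ O.testBit (e q : ℕ) = true) ∧
      (MulAction.orbit H (e.symm ⟨i, hi⟩)).ncard = n := by
  have hmem : ∀ q, q ∈ MulAction.orbit H (e.symm ⟨i, hi⟩) ↔ O.testBit (e q : ℕ) = true := by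
    intro q
    rw [← orbit_eq_of_ok hR hok φ hφ hH hi (e q), MulAction.mem_orbit_iff]
    constructor
    · rintro ⟨⟨h, hh⟩, rfl⟩
      exact ⟨h, hh, by
        show φ h ⟨i, hi⟩ = e (h • e.symm ⟨i, hi⟩)
        rw [he, Equiv.apply_symm_apply]⟩
    · rintro ⟨h, hh, hq⟩
      exact ⟨⟨h, hh⟩, e.injective (by
        show e (h • e.symm ⟨i, hi⟩) = e q
        rw [he, Equiv.apply_symm_apply, hq])⟩
  refine ⟨hmem, ?_⟩
  rw [← Nat.eq_of_beq_eq_true hn, bitCount_eq, ← Set.ncard_coe_finset]
  refine Set.ncard_congr (fun q _ => (e q : ℕ)) ?_ ?_ ?_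
  · intro q hq
    simp [(e q).2, (hmem q).1 hq]
  · intro p q _ _ h
    exact e.injective (Fin.ext h)
  · intro k hk
    simp only [Finset.coe_filter, Finset.mem_range] at hk
    exact ⟨e.symm ⟨k, hk.1⟩, (hmem _).2 (by simp [hk.2]), by simp⟩

end CfsgLib.Presented
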