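import Cfsg.Prelude.Def_Spor_Suz
import Cfsg.Agent.Lib.Presented.Orbit
import Cfsg.Agent.Lib.Presented.Cert.SuzCert
import Cfsg.Agent.Lib.Presented.Cert.SuzSeed0
import Cfsg.Agent.Lib.Presented.Cert.SuzSeed1
import Cfsg.Agent.Lib.Presented.Cert.SuzSeed2

/-!
The coset space of a subgroup of a presented sporadic group.
-/
set_option autoImplicit false
set_option maxRecDepth 8000

namespace CfsgLib.Presented.SuzCosets

open Cfsg.Spor

open SuzCert (alphabet rep relWords subWords cert cert_ok)

/-- generator numbering -/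
def idxOf : Suz.Gen → ℕ
  | .a => 0
  | .b => 1
  | .c => 2
  | .d => 3
  | .e => 4
  | .f => 5
  | .g => 6

/-- reading letters back -/
def genOf : ℕ → Suz.Gen × Bool
  | 0 => (.a, true)
  | 1 => (.b, true)
  | 2 => (.c, true)
  | 3 => (.d, true)
  | 4 => (.e, true)
  | 5 => (.f, true)
  | _ => (.g, true)

/-- the letters -/
def letters : Letters Suz.Gen := ⟨alphabet, idxOf, genOf, [.a, .b, .c, .d, .e, .f, .g]⟩

theorem letters_valid : letters.valid = true := by decide +kernel

theorem nodes_valid : letters.nodesValid Suz.edges = true := by decide +kernel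

theorem full : letters.Full := fun g => by cases g <;> decide

/-- values of the letters -/
noncomputable abbrev ev : ℕ → Cfsg.Spor.Suz :=
  letters.ev fun g => PresentedGroup.of g

theorem relWords_eq : relWords = letters.coxWords Suz.edges ++ letters.extraWords Suz.extra := by decide +kernel

theorem rels_hold : ∀ w ∈ relWords, evW ev w = 1 := by
  rw [relWords_eq]
  exact Letters.rels_hold letters_valid nodes_valid full

theorem ev_one : ev alphabet.eps = 1 := Letters.ev_eps (L := letters)

theorem ev_inv : ∀ x, x < alphabet.eps → ev (alphabet.invl x) * ev x = 1 :=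
  Letters.ev_inv letters_valid (Letters.of_sq nodes_valid)

theorem gen_top : Subgroup.closure (ev '' Set.Iio alphabet.eps) = ⊤ :=
  Letters.gen_top letters_valid nodes_valid full

theorem cert_valid : cert.valid = true := (Bool.and_eq_true _ _ ▸ cert_ok).1

theorem cert_R : cert.R = rep := rfl

theorem cert_rels : cert.rels = relWords := rfl

theorem rep_valid : rep.valid = true :=
  Eq.mp (congrArg (fun R : Rep => R.valid = true) cert_R) (VCert.rvalid cert_valid)

theorem rels_ok : rep.relsOK relWords = true := by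
  have h := cert_valid
  simp only [VCert.valid, Bool.and_eq_true] at h
  have h2 := h.1.1.1.2
  rw [cert_R, cert_rels] at h2
  exact h2

theorem exists_phi : ∃ φ : Cfsg.Spor.Suz →* Equiv.Perm (Fin rep.N),
    ∀ x, x < alphabet.eps → φ (ev x) = rep.perm rep_valid x :=
  Letters.exists_rep (L := letters) rfl letters_valid nodes_valid full relWords_eq rep_valid rels_ok

/-- The action on the points of the table. -/
noncomputable def phi : Cfsg.Spor.Suz →* Equiv.Perm (Fin rep.N) := exists_phi.choose

theorem phi_ev : ∀ x, x < alphabet.eps → phi (ev x) = rep.perm rep_valid x := exists_phi.choose_spec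

/-- The subgroup. -/
noncomputable abbrev H : Subgroup Cfsg.Spor.Suz :=
  (((Subgroup.closure ({Cfsg.Spor.Suz.a, Cfsg.Spor.Suz.b, Cfsg.Spor.Suz.c, Cfsg.Spor.Suz.d, Cfsg.Spor.Suz.e, Cfsg.Spor.Suz.f} : Set (FreeGroup Cfsg.Spor.Suz.Gen))).map (PresentedGroup.mk (Cfsg.Spor.coxRelators Cfsg.Spor.Suz.edges ∪ {r | r ∈ Cfsg.Spor.Suz.extra}))))

/-- words of its generators -/
def hWords : List (List ℕ) := [[0],
  [1],
  [2],
  [3],
  [4],
  [5]]

theorem H_eq : H = Subgroup.closure ((fun w => evW ev w) '' {w | w ∈ hWords}) :=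
  Letters.map_closure_eq letters_valid nodes_valid full [Cfsg.Spor.Suz.a, Cfsg.Spor.Suz.b, Cfsg.Spor.Suz.c, Cfsg.Spor.Suz.d, Cfsg.Spor.Suz.e, Cfsg.Spor.Suz.f] (by ext; simp) (by decide +kernel)

theorem mem_H {w : List ℕ} (hw : w ∈ hWords) : evW ev w ∈ H := by
  rw [H_eq]
  exact Subgroup.subset_closure ⟨w, hw, rfl⟩

theorem seed0 : evW ev [6, 1, 2, 3, 2, 4, 3, 2, 1, 5, 1, 0, 1, 2, 1, 4, 2, 1, 5, 0, 1, 2, 3, 4, 1, 2, 3, 2, 1, 0, 1, 6] ∈ H := by
  have hI : SuzSeed0.enum.Interp ev ((1 : Cfsg.Spor.Suz) : Cfsg.Spor.Suz ⧸ H) :=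
    { one := ev_one
      inv := ev_inv
      rels := fun w hw => rels_hold w ((show SuzSeed0.relWords = relWords by decide +kernel) ▸ hw)
      subs := fun w hw => by
        rw [MulAction.Quotient.smul_coe, smul_eq_mul, mul_one, QuotientGroup.eq]
        simp only [inv_mem_iff, mul_one]
        change w ∈ SuzSeed0.subWords at hw
        simp only [SuzSeed0.subWords, List.mem_cons, List.not_mem_nil, or_false] at hw
        rcases hw with rfl | rfl | rfl | rfl | rfl | rfl <;> first | (apply mem_H; decide) }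
  have h := SuzSeed0.loop0 hI
  rw [MulAction.Quotient.smul_coe, smul_eq_mul, mul_one, QuotientGroup.eq, mul_one] at h
  exact (Subgroup.inv_mem_iff _).1 h

theorem seed1 : evW ev [6, 1, 0, 2, 1, 3, 2, 1, 4, 3, 2, 1, 3, 2, 3, 0, 1, 2, 3, 4, 1, 2, 3, 2, 1, 0, 1, 6] ∈ H := by
  have hI : SuzSeed1.enum.Interp ev ((1 : Cfsg.Spor.Suz) : Cfsg.Spor.Suz ⧸ H) :=
    { one := ev_one
      inv := ev_inv
      rels := fun w hw => rels_hold w ((show SuzSeed1.relWords = relWords by decide +kernel) ▸ hw)
      subs := fun w hw => by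
        rw [MulAction.Quotient.smul_coe, smul_eq_mul, mul_one, QuotientGroup.eq]
        simp only [inv_mem_iff, mul_one]
        change w ∈ SuzSeed1.subWords at hw
        simp only [SuzSeed1.subWords, List.mem_cons, List.not_mem_nil, or_false] at hw
        rcases hw with rfl | rfl | rfl | rfl | rfl | rfl <;> first | (apply mem_H; decide) | exact seed0 }
  have h := SuzSeed1.loop0 hI
  rw [MulAction.Quotient.smul_coe, smul_eq_mul, mul_one, QuotientGroup.eq, mul_one] at h
  exact (Subgroup.inv_mem_iff _).1 h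

theorem seed2 : evW ev [6, 1, 0, 1, 2, 3, 2, 4, 3, 2, 1, 5, 6, 1, 2, 1, 4, 3, 2, 1, 5, 3, 4, 1, 2, 3, 1, 2, 0, 1, 6] ∈ H := by
  have hI : SuzSeed2.enum.Interp ev ((1 : Cfsg.Spor.Suz) : Cfsg.Spor.Suz ⧸ H) :=
    { one := ev_one
      inv := ev_inv
      rels := fun w hw => rels_hold w ((show SuzSeed2.relWords = relWords by decide +kernel) ▸ hw)
      subs := fun w hw => by
        rw [MulAction.Quotient.smul_coe, smul_eq_mul, mul_one, QuotientGroup.eq]
        simp only [inv_mem_iff, mul_one]
        change w ∈ SuzSeed2.subWords at hw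
        simp only [SuzSeed2.subWords, List.mem_cons, List.not_mem_nil, or_false] at hw
        rcases hw with rfl | rfl | rfl | rfl | rfl | rfl <;> first | (apply mem_H; decide) | exact seed0 | exact seed1 }
  have h := SuzSeed2.loop0 hI
  rw [MulAction.Quotient.smul_coe, smul_eq_mul, mul_one, QuotientGroup.eq, mul_one] at h
  exact (Subgroup.inv_mem_iff _).1 h

theorem subs_mem : ∀ w ∈ subWords, evW ev w ∈ H := by
  intro w hw
  simp only [subWords, List.mem_cons, List.not_mem_nil, or_false] at hw
  rcases hw with rfl | rfl | rfl | rfl | rfl | rfl | rfl | rfl | rfl <;> first | (apply mem_H; decide) | exact seed0 | exact seed1 | exact seed2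

theorem H_fix : ∀ h ∈ H, phi h ⟨0, VCert.pos cert_ok⟩ = ⟨0, VCert.pos cert_ok⟩ := by
  intro h hh
  rw [H_eq] at hh
  induction hh using Subgroup.closure_induction with
  | mem y hy =>
    obtain ⟨w, hw, rfl⟩ := hy
    have hfix : (hWords.all fun w => w.all (fun y => Nat.blt y alphabet.eps) &&
        (Vec.applyNet (rep.netW w) 1).testBit 0) = true := by decide +kernel
    simp only [List.all_eq_true, Bool.and_eq_true] at hfix
    obtain ⟨hlt, hb⟩ := hfix w hw
    have hw' : phi (evW ev w) = evW (rep.perm rep_valid) w := by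
      simp only [evW, map_list_prod, List.map_map]
      rw [List.map_congr_left (f := ⇑phi ∘ ev) (g := rep.perm rep_valid) fun x hx => phi_ev x (by
        have := hlt x hx
        rwa [Nat.blt_eq] at this)]
    show phi (evW ev w) _ = _
    rw [hw']
    apply Fin.ext
    rw [Rep.netW_perm rep_valid]
    rw [Vec.testBit_applyNet (Rep.netOk_netW rep_valid w)] at hb
    exact VCert.one_bit hb
  | one => simp
  | mul y z _ _ ihy ihz => rw [map_mul, Equiv.Perm.mul_apply, ihz, ihy]
  | inv y _ ih =>
    rw [map_inv]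
    exact (Equiv.symm_apply_eq _).2 ih.symm

theorem exists_equiv : ∃ e : Cfsg.Spor.Suz ⧸ H ≃ Fin rep.N,
    (∀ (g : Cfsg.Spor.Suz) (q : Cfsg.Spor.Suz ⧸ H), e (g • q) = phi g (e q)) ∧
      e ((1 : Cfsg.Spor.Suz) : Cfsg.Spor.Suz ⧸ H) = ⟨0, VCert.pos cert_ok⟩ :=
  VCert.exists_cosetEquiv cert_ok ev_one ev_inv rels_hold subs_mem gen_top phi rep_valid phi_ev H_fix

/-- The coset space as the points of the table. -/
noncomputable def equiv : Cfsg.Spor.Suz ⧸ H ≃ Fin rep.N := exists_equiv.choose

theorem equiv_smul (g : Cfsg.Spor.Suz) (q : Cfsg.Spor.Suz ⧸ H) : equiv (g • q) = phi g (equiv q) :=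
  exists_equiv.choose_spec.1 g q

theorem index_eq : H.index = 1782 := by
  rw [Subgroup.index, Nat.card_congr equiv, Nat.card_fin]
  rfl

theorem orbit0_ok : orbitOK rep hWords 0 0 0x1 = true := by decide +kernel

/-- a point in this orbit -/
noncomputable def orbit0 : Cfsg.Spor.Suz ⧸ H := equiv.symm ⟨0, by decide⟩

theorem orbit0_mem : ∀ q, q ∈ MulAction.orbit H orbit0 ↔ (0x1 : ℕ).testBit (equiv q : ℕ) = true :=
  (orbit_ncard_of_ok (n := 1) equiv phi equiv_smul rep_valid orbit0_ok phi_ev H_eq _ (by decide +kernel)).1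

theorem orbit0_ncard : (MulAction.orbit H orbit0).ncard = 1 :=
  (orbit_ncard_of_ok equiv phi equiv_smul rep_valid orbit0_ok phi_ev H_eq _ (by decide +kernel)).2

theorem orbitA_ok : orbitOK rep hWords 1 5 0xc7ff80df3ffffffffff80ffffffffff7fff7fb1147fdff2ce7fdffffffffffffffffffffffffff987e18dffffbffffffffffffff7fe7e03f27c31757ffb73fff1c01c7dda79bf3ffffffffffffffffffffff8637e19ffeffdffffffffffffff8fc3f01f9ee3b8b1ffebf3bfffc0c03dc6fb2ffd9d7fffffffffffffff867fc5ff9fffffffffff187801fb8b8b9fe33afff30062b8bbdafffffffffe2fcbacfffffffdb8001c51772dafc6002eeeffffffcb96b3ffffe580045bbbbb00777ffffe596b7fffd802eee0effff2dbfff85dc6fff7fff96effffff7ffffffffffe = true := by decide +kernel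

/-- a point in this orbit -/
noncomputable def orbitA : Cfsg.Spor.Suz ⧸ H := equiv.symm ⟨1, by decide⟩

theorem orbitA_mem : ∀ q, q ∈ MulAction.orbit H orbitA ↔ (0xc7ff80df3ffffffffff80ffffffffff7fff7fb1147fdff2ce7fdffffffffffffffffffffffffff987e18dffffbffffffffffffff7fe7e03f27c31757ffb73fff1c01c7dda79bf3ffffffffffffffffffffff8637e19ffeffdffffffffffffff8fc3f01f9ee3b8b1ffebf3bfffc0c03dc6fb2ffd9d7fffffffffffffff867fc5ff9fffffffffff187801fb8b8b9fe33afff30062b8bbdafffffffffe2fcbacfffffffdb8001c51772dafc6002eeeffffffcb96b3ffffe580045bbbbb00777ffffe596b7fffd802eee0effff2dbfff85dc6fff7fff96effffff7ffffffffffe : ℕ).testBit (equiv q : ℕ) = true :=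
  (orbit_ncard_of_ok (n := 1365) equiv phi equiv_smul rep_valid orbitA_ok phi_ev H_eq _ (by decide +kernel)).1

theorem orbitA_ncard : (MulAction.orbit H orbitA).ncard = 1365 :=
  (orbit_ncard_of_ok equiv phi equiv_smul rep_valid orbitA_ok phi_ev H_eq _ (by decide +kernel)).2

theorem orbitB_ok : orbitOK rep hWords 47 5 0x338007f20c00000000007f00000000008000804eeb80200d31802000000000000000000000000006781e72000040000000000000080181fc0d83ce8a80048c000e3fe382258640c000000000000000000000079c81e600100200000000000000703c0fe0611c474e00140c40003f3fc23904d00262800000000000000079803a00600000000000e787fe047474601cc5000cff9d4744250000000001d034530000000247ffe3ae88d25039ffd11100000034694c00001a7ffba44444ff88800001a694800027fd111f10000d240007a2390008000691000000800000000000 = true := by decide +kernel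

/-- a point in this orbit -/
noncomputable def orbitB : Cfsg.Spor.Suz ⧸ H := equiv.symm ⟨47, by decide⟩

theorem orbitB_mem : ∀ q, q ∈ MulAction.orbit H orbitB ↔ (0x338007f20c00000000007f00000000008000804eeb80200d31802000000000000000000000000006781e72000040000000000000080181fc0d83ce8a80048c000e3fe382258640c000000000000000000000079c81e600100200000000000000703c0fe0611c474e00140c40003f3fc23904d00262800000000000000079803a00600000000000e787fe047474601cc5000cff9d4744250000000001d034530000000247ffe3ae88d25039ffd11100000034694c00001a7ffba44444ff88800001a694800027fd111f10000d240007a2390008000691000000800000000000 : ℕ).testBit (equiv q : ℕ) = true :=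
  (orbit_ncard_of_ok (n := 416) equiv phi equiv_smul rep_valid orbitB_ok phi_ev H_eq _ (by decide +kernel)).1

theorem orbitB_ncard : (MulAction.orbit H orbitB).ncard = 416 :=
  (orbit_ncard_of_ok equiv phi equiv_smul rep_valid orbitB_ok phi_ev H_eq _ (by decide +kernel)).2

end CfsgLib.Presented.SuzCosets
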