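import Cfsg.Agent.Lib.Presented.VCert

/-!
Checking relators on a table one bit slice at a time, to keep each kernel computation small.
-/
set_option autoImplicit false

namespace CfsgLib.Presented

open Vec

/-- the word fixes one slice of the identity -/
noncomputable def Rep.sliceOK (R : Rep) (w : List ℕ) (b : ℕ) : Bool :=
  force ((slices R.m).getD b 0) fun s => agreeOn R.N (applyNet (R.netW w) s) s

theorem Rep.relsOK_append {R : Rep} {u v : List (List ℕ)} (hu : R.relsOK u = true) (hv : R.relsOK v = true) :
    R.relsOK (u ++ v) = true := by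
  simp only [Rep.relsOK, List.all_append, Bool.and_eq_true] at hu hv ⊢
  exact ⟨hu, hv⟩

/-- A relator is trivial when all slices are fixed. -/
theorem Rep.relsOK_of_slices {R : Rep} {w : List ℕ} {bs : List ℕ}
    (hlt : (w.all fun y => Nat.blt y R.A.eps) = true)
    (hbs : ((List.range R.m).all fun b => bs.contains b) = true)
    (h : ∀ b ∈ bs, R.sliceOK w b = true) : R.relsOK [w] = true := by
  simp only [Rep.relsOK, List.all_cons, List.all_nil, Bool.and_true, hlt, Bool.true_and, Rep.idOn,
    List.all_eq_true]
  intro s hs
  obtain ⟨b, hb, rfl⟩ := List.mem_iff_getElem.1 hs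
  rw [(slices_spec R.m).1] at hb
  have hmem : b ∈ bs := List.contains_iff_mem.1 (List.all_eq_true.1 hbs b (List.mem_range.2 hb))
  have h1 := h b hmem
  rw [Rep.sliceOK, force_eq, List.getD_eq_getElem _ 0 (by rw [(slices_spec R.m).1]; exact hb)] at h1
  exact h1

end CfsgLib.Presented
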