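import Cfsg.Agent.Lib.Presented.SuzCosets
import Cfsg.Agent.Lib.Presented.Simple
import Cfsg.Agent.Lib.Presented.RelSlices

/-!
The generation check for the simplicity of Suz, one letter at a time.
-/
set_option autoImplicit false
set_option Elab.async false
set_option maxRecDepth 8000

namespace CfsgLib.Presented.SuzSimple

/-- an element of prime order -/
def u : List ℕ := [6, 5, 3, 4, 1, 2]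

/-- the generators as products of conjugates of its powers -/
def conj : List (List (List ℕ × ℕ)) := [[([4], 1), ([5, 6, 2], 1)],
  [([6, 3], 1), ([6, 1, 0, 1, 1], 1), ([6, 3], 1), ([6, 1, 0, 1, 1], 1)],
  [([1, 2, 6, 3], 1), ([1, 2, 6, 1, 0, 1, 1], 1), ([1, 2, 6, 3], 1), ([1, 2, 6, 1, 0, 1, 1], 1)],
  [([2, 1, 4, 4, 0, 4, 2, 1, 4, 3, 5, 6, 4, 2, 1, 4, 3, 5, 6, 2, 1, 4, 3, 5, 6, 4, 2, 1, 4, 3, 5, 6, 4, 2, 1, 4, 3, 5, 6, 2, 1, 4, 3, 5, 6, 4, 2, 1, 4, 3, 5, 6, 4, 2, 1, 4, 3, 5, 6, 2, 1, 4, 3, 5, 6, 0, 4, 4, 1, 2, 3, 2, 1, 4, 4, 0, 4, 2, 1, 4, 3, 5, 6, 4, 2, 1, 4, 3, 5, 6, 2, 1, 4, 3, 5, 6, 4, 2, 1, 4, 3, 5, 6, 4, 2, 1, 4, 3, 5, 6, 2, 1, 4, 3, 5, 6, 4, 2, 1, 4, 3, 5, 6, 4, 2, 1, 4, 3, 5, 6, 2, 1, 4, 3, 5, 6, 0, 4, 4, 1, 2, 3, 2, 1, 4, 4, 0], 2),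 ([2, 1, 4, 4, 0, 4, 2, 1, 4, 3, 5, 6, 4, 2, 1, 4, 3, 5, 6, 2, 1, 4, 3, 5, 6, 4, 2, 1, 4, 3, 5, 6, 4, 2, 1, 4, 3, 5, 6, 2, 1, 4, 3, 5, 6, 4, 2, 1, 4, 3, 5, 6, 4, 2, 1, 4, 3, 5, 6, 2, 1, 4, 3, 5, 6, 0, 4, 4, 1, 2, 3, 2, 1, 4, 4, 0, 4, 2, 1, 4, 3, 5, 6, 4, 2, 1, 4, 3, 5, 6, 2, 1, 4, 3, 5, 6, 4, 2, 1, 4, 3, 5, 6, 4, 2, 1, 4, 3, 5, 6, 2, 1, 4, 3, 5, 6, 4, 2, 1, 4, 3, 5, 6, 4, 2, 1, 4, 3, 5, 6, 2, 1, 4, 3, 5, 6, 0, 4, 4, 1, 2, 3, 2, 1, 4, 4, 0, 4], 1), ([2, 1, 4, 4, 0, 4, 2, 1, 4, 3, 5, 6, 4, 2, 1, 4, 3, 5, 6, 2, 1, 4, 3, 5, 6, 4, 2, 1, 4, 3, 5, 6, 4, 2, 1, 4, 3, 5, 6, 2, 1, 4, 3, 5, 6, 4, 2, 1, 4, 3, 5, 6, 4, 2, 1, 4, 3, 5, 6, 2, 1, 4, 3, 5, 6, 0, 4, 4, 1, 2, 3, 2, 1, 4, 4, 0, 4, 2, 1, 4, 3, 5, 6, 4, 2, 1, 4, 3, 5, 6, 2, 1, 4, 3, 5, 6, 4, 2, 1, 4, 3,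 5, 6, 4, 2, 1, 4, 3, 5, 6, 2, 1, 4, 3, 5, 6, 4, 2, 1, 4, 3, 5, 6, 4, 2, 1, 4, 3, 5, 6, 2, 1, 4, 3, 5, 6, 0, 4, 4, 1, 2, 3, 2, 1, 4, 4, 0], 2), ([2, 1, 4, 4, 0, 4, 2, 1, 4, 3, 5, 6, 4, 2, 1, 4, 3, 5, 6, 2, 1, 4, 3, 5, 6, 4, 2, 1, 4, 3, 5, 6, 4, 2, 1, 4, 3, 5, 6, 2, 1, 4, 3, 5, 6, 4, 2, 1, 4, 3, 5, 6, 4, 2, 1, 4, 3, 5, 6, 2, 1, 4, 3, 5, 6, 0, 4, 4, 1, 2, 3, 2, 1, 4, 4, 0, 4, 2, 1, 4, 3, 5, 6, 4, 2, 1, 4, 3, 5, 6, 2, 1, 4, 3, 5, 6, 4, 2, 1, 4, 3, 5, 6, 4, 2, 1, 4, 3, 5, 6, 2, 1, 4, 3, 5, 6, 4, 2, 1, 4, 3, 5, 6, 4, 2, 1, 4, 3, 5, 6, 2, 1, 4, 3, 5, 6, 0, 4, 4, 1, 2, 3, 2, 1, 4, 4, 0, 4], 1), ([2, 1, 4, 4, 0, 4, 2, 1, 4, 3, 5, 6, 4, 2, 1, 4, 3, 5, 6, 2, 1, 4, 3, 5, 6, 4, 2, 1, 4, 3, 5, 6, 4, 2, 1, 4, 3, 5, 6, 2, 1, 4, 3, 5, 6, 4, 2, 1, 4, 3, 5, 6, 4,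 2, 1, 4, 3, 5, 6, 2, 1, 4, 3, 5, 6, 0, 4, 4, 1, 2, 3, 2, 1, 4, 4, 0, 4, 2, 1, 4, 3, 5, 6, 4, 2, 1, 4, 3, 5, 6, 2, 1, 4, 3, 5, 6, 4, 2, 1, 4, 3, 5, 6, 4, 2, 1, 4, 3, 5, 6, 2, 1, 4, 3, 5, 6, 4, 2, 1, 4, 3, 5, 6, 4, 2, 1, 4, 3, 5, 6, 2, 1, 4, 3, 5, 6, 0, 4, 4, 1, 2, 3, 2, 1, 4, 4, 0], 2), ([2, 1, 4, 4, 0, 4, 2, 1, 4, 3, 5, 6, 4, 2, 1, 4, 3, 5, 6, 2, 1, 4, 3, 5, 6, 4, 2, 1, 4, 3, 5, 6, 4, 2, 1, 4, 3, 5, 6, 2, 1, 4, 3, 5, 6, 4, 2, 1, 4, 3, 5, 6, 4, 2, 1, 4, 3, 5, 6, 2, 1, 4, 3, 5, 6, 0, 4, 4, 1, 2, 3, 2, 1, 4, 4, 0, 4, 2, 1, 4, 3, 5, 6, 4, 2, 1, 4, 3, 5, 6, 2, 1, 4, 3, 5, 6, 4, 2, 1, 4, 3, 5, 6, 4, 2, 1, 4, 3, 5, 6, 2, 1, 4, 3, 5, 6, 4, 2, 1, 4, 3, 5, 6, 4, 2, 1, 4, 3, 5, 6, 2, 1, 4, 3, 5, 6, 0, 4, 4, 1, 2, 3, 2, 1, 4, 4, 0, 4], 1)],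
  [([1, 2, 3, 0, 2, 2, 2, 1, 4, 3, 5, 6, 2, 1, 4, 3, 5, 6, 2, 5, 3, 2, 1, 4, 3, 5, 6, 3, 5, 2, 2, 1, 4, 3, 5, 6, 2, 1, 4, 3, 5, 6, 2, 5, 3, 2, 1, 4, 3, 5, 6, 3, 5, 2, 0, 3, 2, 1, 4, 1, 2, 3, 0, 2, 2, 2, 1, 4, 3, 5, 6, 2, 1, 4, 3, 5, 6, 2, 5, 3, 2, 1, 4, 3, 5, 6, 3, 5, 2, 2, 1, 4, 3, 5, 6, 2, 1, 4, 3, 5, 6, 2, 5, 3, 2, 1, 4, 3, 5, 6, 3, 5, 2, 0, 3, 2, 1, 4, 1, 2, 3, 0, 2, 2, 2, 1, 4, 3, 5, 6, 2, 1, 4, 3, 5, 6, 2, 5, 3, 2, 1, 4, 3, 5, 6, 3, 5, 2, 2, 1, 4, 3, 5, 6, 2, 1, 4, 3, 5, 6, 2, 5, 3, 2, 1, 4, 3, 5, 6, 3, 5, 2, 0, 3, 2, 1, 4, 1, 2, 3, 0, 2, 2, 2, 1, 4, 3, 5, 6, 2, 1, 4, 3, 5, 6, 2, 5, 3, 2, 1, 4, 3, 5, 6, 3, 5, 2, 2, 1, 4, 3, 5, 6, 2, 1, 4, 3, 5, 6, 2, 5, 3, 2, 1, 4, 3, 5, 6, 3, 5, 2, 0, 3, 2, 1, 4, 1, 2, 3, 0, 2, 2, 2, 1, 4, 3, 5, 6, 2, 1,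 4, 3, 5, 6, 2, 5, 3, 2, 1, 4, 3, 5, 6, 3, 5, 2, 2, 1, 4, 3, 5, 6, 2, 1, 4, 3, 5, 6, 2, 5, 3, 2, 1, 4, 3, 5, 6, 3, 5, 2, 0, 3, 2, 1, 4, 1, 2, 3, 0, 2, 5, 3], 1), ([1, 2, 3, 0, 2, 2, 2, 1, 4, 3, 5, 6, 2, 1, 4, 3, 5, 6, 2, 5, 3, 2, 1, 4, 3, 5, 6, 3, 5, 2, 2, 1, 4, 3, 5, 6, 2, 1, 4, 3, 5, 6, 2, 5, 3, 2, 1, 4, 3, 5, 6, 3, 5, 2, 0, 3, 2, 1, 4, 1, 2, 3, 0, 2, 2, 2, 1, 4, 3, 5, 6, 2, 1, 4, 3, 5, 6, 2, 5, 3, 2, 1, 4, 3, 5, 6, 3, 5, 2, 2, 1, 4, 3, 5, 6, 2, 1, 4, 3, 5, 6, 2, 5, 3, 2, 1, 4, 3, 5, 6, 3, 5, 2, 0, 3, 2, 1, 4, 1, 2, 3, 0, 2, 2, 2, 1, 4, 3, 5, 6, 2, 1, 4, 3, 5, 6, 2, 5, 3, 2, 1, 4, 3, 5, 6, 3, 5, 2, 2, 1, 4, 3, 5, 6, 2, 1, 4, 3, 5, 6, 2, 5, 3, 2, 1, 4, 3, 5, 6, 3, 5, 2, 0, 3, 2, 1, 4, 1, 2, 3, 0, 2, 2, 2, 1, 4, 3, 5, 6, 2, 1, 4, 3, 5, 6, 2, 5,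 3, 2, 1, 4, 3, 5, 6, 3, 5, 2, 2, 1, 4, 3, 5, 6, 2, 1, 4, 3, 5, 6, 2, 5, 3, 2, 1, 4, 3, 5, 6, 3, 5, 2, 0, 3, 2, 1, 4, 1, 2, 3, 0, 2, 2, 2, 1, 4, 3, 5, 6, 2, 1, 4, 3, 5, 6, 2, 5, 3, 2, 1, 4, 3, 5, 6, 3, 5, 2, 2, 1, 4, 3, 5, 6, 2, 1, 4, 3, 5, 6, 2, 5, 3, 2, 1, 4, 3, 5, 6, 3, 5, 2, 0, 3, 2, 1, 4, 1, 2, 3, 0, 2, 2], 2), ([1, 2, 3, 0, 2, 2, 2, 1, 4, 3, 5, 6, 2, 1, 4, 3, 5, 6, 2, 5, 3, 2, 1, 4, 3, 5, 6, 3, 5, 2, 2, 1, 4, 3, 5, 6, 2, 1, 4, 3, 5, 6, 2, 5, 3, 2, 1, 4, 3, 5, 6, 3, 5, 2, 0, 3, 2, 1, 4, 1, 2, 3, 0, 2, 2, 2, 1, 4, 3, 5, 6, 2, 1, 4, 3, 5, 6, 2, 5, 3, 2, 1, 4, 3, 5, 6, 3, 5, 2, 2, 1, 4, 3, 5, 6, 2, 1, 4, 3, 5, 6, 2, 5, 3, 2, 1, 4, 3, 5, 6, 3, 5, 2, 0, 3, 2, 1, 4, 1, 2, 3, 0, 2, 2, 2, 1, 4, 3, 5, 6, 2, 1, 4, 3, 5, 6, 2, 5, 3, 2, 1, 4, 3, 5, 6,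 3, 5, 2, 2, 1, 4, 3, 5, 6, 2, 1, 4, 3, 5, 6, 2, 5, 3, 2, 1, 4, 3, 5, 6, 3, 5, 2, 0, 3, 2, 1, 4, 1, 2, 3, 0, 2, 2, 2, 1, 4, 3, 5, 6, 2, 1, 4, 3, 5, 6, 2, 5, 3, 2, 1, 4, 3, 5, 6, 3, 5, 2, 2, 1, 4, 3, 5, 6, 2, 1, 4, 3, 5, 6, 2, 5, 3, 2, 1, 4, 3, 5, 6, 3, 5, 2, 0, 3, 2, 1, 4, 1, 2, 3, 0, 2, 2, 2, 1, 4, 3, 5, 6, 2, 1, 4, 3, 5, 6, 2, 5, 3, 2, 1, 4, 3, 5, 6, 3, 5, 2, 2, 1, 4, 3, 5, 6, 2, 1, 4, 3, 5, 6, 2, 5, 3, 2, 1, 4, 3, 5, 6, 3, 5, 2, 0, 3, 2, 1, 4, 1, 2, 3, 0, 2, 5, 3], 1), ([1, 2, 3, 0, 2, 2, 2, 1, 4, 3, 5, 6, 2, 1, 4, 3, 5, 6, 2, 5, 3, 2, 1, 4, 3, 5, 6, 3, 5, 2, 2, 1, 4, 3, 5, 6, 2, 1, 4, 3, 5, 6, 2, 5, 3, 2, 1, 4, 3, 5, 6, 3, 5, 2, 0, 3, 2, 1, 4, 1, 2, 3, 0, 2, 2, 2, 1, 4, 3, 5, 6, 2, 1, 4, 3, 5, 6, 2, 5, 3, 2, 1, 4, 3, 5, 6, 3, 5, 2, 2, 1, 4,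 3, 5, 6, 2, 1, 4, 3, 5, 6, 2, 5, 3, 2, 1, 4, 3, 5, 6, 3, 5, 2, 0, 3, 2, 1, 4, 1, 2, 3, 0, 2, 2, 2, 1, 4, 3, 5, 6, 2, 1, 4, 3, 5, 6, 2, 5, 3, 2, 1, 4, 3, 5, 6, 3, 5, 2, 2, 1, 4, 3, 5, 6, 2, 1, 4, 3, 5, 6, 2, 5, 3, 2, 1, 4, 3, 5, 6, 3, 5, 2, 0, 3, 2, 1, 4, 1, 2, 3, 0, 2, 2, 2, 1, 4, 3, 5, 6, 2, 1, 4, 3, 5, 6, 2, 5, 3, 2, 1, 4, 3, 5, 6, 3, 5, 2, 2, 1, 4, 3, 5, 6, 2, 1, 4, 3, 5, 6, 2, 5, 3, 2, 1, 4, 3, 5, 6, 3, 5, 2, 0, 3, 2, 1, 4, 1, 2, 3, 0, 2, 2, 2, 1, 4, 3, 5, 6, 2, 1, 4, 3, 5, 6, 2, 5, 3, 2, 1, 4, 3, 5, 6, 3, 5, 2, 2, 1, 4, 3, 5, 6, 2, 1, 4, 3, 5, 6, 2, 5, 3, 2, 1, 4, 3, 5, 6, 3, 5, 2, 0, 3, 2, 1, 4, 1, 2, 3, 0, 2, 2], 2)],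
  [([6], 1), ([6, 5, 3, 6, 1], 1), ([6], 1), ([6, 5, 3, 6, 1], 1)],
  [([1], 1), ([1, 4, 1, 0], 1), ([1], 1), ([1, 4, 1, 0], 1), ([1], 1), ([1, 4, 1, 0], 1)]]

/-- the check of one letter -/
noncomputable def conjOK (x : ℕ) : Bool :=
  (conj.getD x []).all (fun d => d.1.all fun y => Nat.blt y SuzCert.rep.A.eps) &&
    SuzCert.rep.relsOK [(conj.getD x []).flatMap (fun d => d.1 ++ wpow u d.2 ++ invWord SuzCert.rep.A d.1) ++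
      [SuzCert.rep.A.invl x]]

/-- the word of one letter -/
noncomputable def conjWord (x : ℕ) : List ℕ :=
  (conj.getD x []).flatMap (fun d => d.1 ++ wpow u d.2 ++ invWord SuzCert.rep.A d.1) ++ [SuzCert.rep.A.invl x]

theorem pow_ok : SuzCert.rep.relsOK [wpow u 11] = true := by decide +kernel

theorem conj_ok0 : conjOK 0 = true := by decide +kernel

theorem conj_ok1 : conjOK 1 = true := by decide +kernel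

theorem conj_ok2 : conjOK 2 = true := by decide +kernel

theorem slice_ok3_0 : SuzCert.rep.sliceOK (conjWord 3) 0 = true := by decide +kernel

theorem slice_ok3_1 : SuzCert.rep.sliceOK (conjWord 3) 1 = true := by decide +kernel

theorem slice_ok3_2 : SuzCert.rep.sliceOK (conjWord 3) 2 = true := by decide +kernel

theorem slice_ok3_3 : SuzCert.rep.sliceOK (conjWord 3) 3 = true := by decide +kernel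

theorem slice_ok3_4 : SuzCert.rep.sliceOK (conjWord 3) 4 = true := by decide +kernel

theorem slice_ok3_5 : SuzCert.rep.sliceOK (conjWord 3) 5 = true := by decide +kernel

theorem slice_ok3_6 : SuzCert.rep.sliceOK (conjWord 3) 6 = true := by decide +kernel

theorem slice_ok3_7 : SuzCert.rep.sliceOK (conjWord 3) 7 = true := by decide +kernel

theorem slice_ok3_8 : SuzCert.rep.sliceOK (conjWord 3) 8 = true := by decide +kernel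

theorem slice_ok3_9 : SuzCert.rep.sliceOK (conjWord 3) 9 = true := by decide +kernel

theorem slice_ok3_10 : SuzCert.rep.sliceOK (conjWord 3) 10 = true := by decide +kernel

theorem slice_ok3_11 : SuzCert.rep.sliceOK (conjWord 3) 11 = true := by decide +kernel

theorem slice_ok3_12 : SuzCert.rep.sliceOK (conjWord 3) 12 = true := by decide +kernel

theorem slice_ok3_13 : SuzCert.rep.sliceOK (conjWord 3) 13 = true := by decide +kernel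

theorem slice_ok3_14 : SuzCert.rep.sliceOK (conjWord 3) 14 = true := by decide +kernel

theorem conj_ok3 : conjOK 3 = true := by
  rw [conjOK, Bool.and_eq_true]
  refine ⟨by decide +kernel, Rep.relsOK_of_slices (w := conjWord 3) (bs := List.range 15) (by decide +kernel)
    (by decide +kernel) fun b hb => ?_⟩
  rw [List.mem_range] at hb
  interval_cases b
  exacts [slice_ok3_0, slice_ok3_1, slice_ok3_2, slice_ok3_3, slice_ok3_4, slice_ok3_5, slice_ok3_6, slice_ok3_7, slice_ok3_8, slice_ok3_9, slice_ok3_10, slice_ok3_11, slice_ok3_12, slice_ok3_13, slice_ok3_14]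

theorem slice_ok4_0 : SuzCert.rep.sliceOK (conjWord 4) 0 = true := by decide +kernel

theorem slice_ok4_1 : SuzCert.rep.sliceOK (conjWord 4) 1 = true := by decide +kernel

theorem slice_ok4_2 : SuzCert.rep.sliceOK (conjWord 4) 2 = true := by decide +kernel

theorem slice_ok4_3 : SuzCert.rep.sliceOK (conjWord 4) 3 = true := by decide +kernel

theorem slice_ok4_4 : SuzCert.rep.sliceOK (conjWord 4) 4 = true := by decide +kernel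

theorem slice_ok4_5 : SuzCert.rep.sliceOK (conjWord 4) 5 = true := by decide +kernel

theorem slice_ok4_6 : SuzCert.rep.sliceOK (conjWord 4) 6 = true := by decide +kernel

theorem slice_ok4_7 : SuzCert.rep.sliceOK (conjWord 4) 7 = true := by decide +kernel

theorem slice_ok4_8 : SuzCert.rep.sliceOK (conjWord 4) 8 = true := by decide +kernel

theorem slice_ok4_9 : SuzCert.rep.sliceOK (conjWord 4) 9 = true := by decide +kernel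

theorem slice_ok4_10 : SuzCert.rep.sliceOK (conjWord 4) 10 = true := by decide +kernel

theorem slice_ok4_11 : SuzCert.rep.sliceOK (conjWord 4) 11 = true := by decide +kernel

theorem slice_ok4_12 : SuzCert.rep.sliceOK (conjWord 4) 12 = true := by decide +kernel

theorem slice_ok4_13 : SuzCert.rep.sliceOK (conjWord 4) 13 = true := by decide +kernel

theorem slice_ok4_14 : SuzCert.rep.sliceOK (conjWord 4) 14 = true := by decide +kernel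

theorem conj_ok4 : conjOK 4 = true := by
  rw [conjOK, Bool.and_eq_true]
  refine ⟨by decide +kernel, Rep.relsOK_of_slices (w := conjWord 4) (bs := List.range 15) (by decide +kernel)
    (by decide +kernel) fun b hb => ?_⟩
  rw [List.mem_range] at hb
  interval_cases b
  exacts [slice_ok4_0, slice_ok4_1, slice_ok4_2, slice_ok4_3, slice_ok4_4, slice_ok4_5, slice_ok4_6, slice_ok4_7, slice_ok4_8, slice_ok4_9, slice_ok4_10, slice_ok4_11, slice_ok4_12, slice_ok4_13, slice_ok4_14]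

theorem conj_ok5 : conjOK 5 = true := by decide +kernel

theorem conj_ok6 : conjOK 6 = true := by decide +kernel

theorem letters_num : SuzCert.rep.A.eps = 7 := by decide +kernel

theorem genOK_conj : genOK SuzCert.rep u 11 conj = true := by
  simp only [genOK, Bool.and_eq_true, List.all_eq_true, List.mem_range]
  refine ⟨⟨pow_ok, by decide +kernel⟩, fun x hx => ?_⟩
  have h : conjOK x = true := by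
    rw [letters_num] at hx
    interval_cases x
    exacts [conj_ok0, conj_ok1, conj_ok2, conj_ok3, conj_ok4, conj_ok5, conj_ok6]
  rw [conjOK, Bool.and_eq_true] at h
  exact ⟨fun d hd y hy => List.all_eq_true.1 (List.all_eq_true.1 h.1 d hd) y hy, h.2⟩

end CfsgLib.Presented.SuzSimple
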