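import Cfsg.Agent.Lib.Presented.SuzOrder
import Cfsg.Agent.Lib.Presented.SuzSimpleGen
import Cfsg.Agent.Lib.Presented.SuzCosets
import Cfsg.Agent.Lib.Presented.Simple

/-!
Simplicity of a presented sporadic group.
-/
set_option autoImplicit false
set_option maxRecDepth 8000

namespace CfsgLib.Presented.SuzSimple

/-- the orbits of the point stabiliser off the base point -/
def orbits : List HOrbit := [⟨1, 5, 0xc7ff80df3ffffffffff80ffffffffff7fff7fb1147fdff2ce7fdffffffffffffffffffffffffff987e18dffffbffffffffffffff7fe7e03f27c31757ffb73fff1c01c7dda79bf3ffffffffffffffffffffff8637e19ffeffdffffffffffffff8fc3f01f9ee3b8b1ffebf3bfffc0c03dc6fb2ffd9d7fffffffffffffff867fc5ff9fffffffffff187801fb8b8b9fe33afff30062b8bbdafffffffffe2fcbacfffffffdb8001c51772dafc6002eeeffffffcb96b3ffffe580045bbbbb00777ffffe596b7fffd802eee0effff2dbfff85dc6fff7fff96effffff7ffffffffffe, 1365⟩,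
  ⟨47, 5, 0x338007f20c00000000007f00000000008000804eeb80200d31802000000000000000000000000006781e72000040000000000000080181fc0d83ce8a80048c000e3fe382258640c000000000000000000000079c81e600100200000000000000703c0fe0611c474e00140c40003f3fc23904d00262800000000000000079803a00600000000000e787fe047474601cc5000cff9d4744250000000001d034530000000247ffe3ae88d25039ffd11100000034694c00001a7ffba44444ff88800001a694800027fd111f10000d240007a2390008000691000000800000000000, 416⟩]

theorem transitive (j : Fin SuzCert.rep.N) : ∃ g, SuzCosets.phi g ⟨0, VCert.pos SuzCert.cert_ok⟩ = j := by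
  obtain ⟨g, hg⟩ := QuotientGroup.mk_surjective (SuzCosets.equiv.symm j)
  refine ⟨g, ?_⟩
  have h0 : SuzCosets.equiv _ = ⟨0, VCert.pos SuzCert.cert_ok⟩ := SuzCosets.exists_equiv.choose_spec.2
  rw [← h0, ← SuzCosets.equiv_smul, MulAction.Quotient.smul_coe, smul_eq_mul, mul_one, hg, Equiv.apply_symm_apply]

theorem simple : IsSimpleGroup Cfsg.Spor.Suz :=
  isSimpleGroup_of_cert SuzCosets.rep_valid (VCert.pos SuzCert.cert_ok) SuzCosets.phi SuzCosets.phi_ev SuzOrder.phi_injective transitive
    SuzCosets.gen_top SuzCosets.H_eq SuzCosets.H_fix orbits (by decide +kernel) (by decide +kernel) (by decide +kernel)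
    (by rw [SuzOrder.card_eq]; norm_num) 11 1 (by norm_num) (by decide +kernel)
    (by rw [SuzOrder.card_eq]; norm_num) u conj genOK_conj

end CfsgLib.Presented.SuzSimple
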