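import Cfsg.Agent.Lib.Presented.Fi22SimpleGenData

/-!
First half of the generation check for Fi22.
-/
set_option autoImplicit false
set_option Elab.async false
set_option maxRecDepth 8000

namespace CfsgLib.Presented.Fi22Simple

theorem pow_ok : Fi22UCert.rep.relsOK [wpow u 13] = true := by decide +kernel

theorem conj_ok0 : conjOK 0 = true := by decide +kernel

theorem conj_ok1 : conjOK 1 = true := by decide +kernel

theorem conj_ok2 : conjOK 2 = true := by decide +kernel

theorem conj_ok3 : conjOK 3 = true := by decide +kernel

theorem conj_ok4 : conjOK 4 = true := by decide +kernel

end CfsgLib.Presented.Fi22Simple
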