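import Cfsg.Agent.Lib.Presented.Fi22SimpleGenData

/-!
Second half of the generation check for Fi22.
-/
set_option autoImplicit false
set_option Elab.async false
set_option maxRecDepth 8000

namespace CfsgLib.Presented.Fi22Simple

theorem conj_ok5 : conjOK 5 = true := by decide +kernel

theorem conj_ok6 : conjOK 6 = true := by decide +kernel

theorem conj_ok7 : conjOK 7 = true := by decide +kernel

theorem conj_ok8 : conjOK 8 = true := by decide +kernel

end CfsgLib.Presented.Fi22Simple
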