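import Cfsg.Agent.Lib.Presented.Simple
import Cfsg.Agent.Lib.Presented.Fi22SimpleGenA
import Cfsg.Agent.Lib.Presented.Fi22SimpleGenB

/-!
The generation check for the simplicity of Fi22.
-/
set_option autoImplicit false

namespace CfsgLib.Presented.Fi22Simple

theorem letters_nine : Fi22UCert.rep.A.eps = 9 := by decide +kernel

theorem genOK_conj : genOK Fi22UCert.rep u 13 conj = true := by
  simp only [genOK, Bool.and_eq_true, List.all_eq_true, List.mem_range]
  refine ⟨⟨pow_ok, by decide +kernel⟩, fun x hx => ?_⟩
  have h : conjOK x = true := by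
    rw [letters_nine] at hx
    interval_cases x
    exacts [conj_ok0, conj_ok1, conj_ok2, conj_ok3, conj_ok4, conj_ok5, conj_ok6, conj_ok7, conj_ok8]
  rw [conjOK, Bool.and_eq_true] at h
  exact ⟨fun d hd y hy => List.all_eq_true.1 (List.all_eq_true.1 h.1 d hd) y hy, h.2⟩

end CfsgLib.Presented.Fi22Simple
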