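import Cfsg.Agent.Lib.Presented.Fi22Order
import Cfsg.Agent.Lib.Presented.Fi22UCosets
import Cfsg.Agent.Lib.Presented.Simple
import Cfsg.Agent.Lib.Presented.Fi22SimpleGen

/-!
Simplicity of a presented sporadic group.
-/
set_option autoImplicit false
set_option Elab.async false
set_option maxRecDepth 8000

namespace CfsgLib.Presented.Fi22Simple

/-- the orbits of the point stabiliser off the base point -/
def orbits : List HOrbit := [⟨1, 5, 0x3ffffffffffffffffffffffffffe7ffffffffffffffffffffffffffff6ff3ffffffffffffdfffffffffffff6ffffffffffffff6fff1fffffffffffffffffffafffffffffffffffb4ffffffffffffffd9fffc7fffffffffffffffffffedff97ffffffffffffffe327ffffffffffdfe4fffcffffffffffffff6ffffffffcbfe1effffffffffffffc43ffffffffdfc3ffefffffffffffffffff27fffffff87fc3e8fffffffffffff03fffffcfc3ffdfffffffffdfffffe7fffc1fffffe1fe17c1fffffeffff07fff9f0fffffffdffffff8fffffc3fff83fffc3f03fc1fffe7fb87fe387ffffffffc7ffff7f83fffc3fe1ff8781ffc3ff1f61f98ffffffffffffb87fff7e7c3ff0fc3f180ffde1f9d8e47fffffffffffffffffcfc3ff3ff0fc3f1c7103f78e68c9fffffffde7ffffffffffffe3f87e1f8e38c641ce3210ffffffffdf8e77fffffffffff03e38e3192064407fffffffeffdf1c66bffffffffe038c6480400fffffffffcfffc38c91fffffff032400007fffffffebff81900fffffc100000fffffff07fc101ffff00007ffffe0ff007ffc003fffe27e03ff01fff89f07f87ff82f8fcffc0bcfbfc00bdff8037fe00ff83f8fbbe,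 2816⟩,
  ⟨6, 4, 0x180000000000000000000000000000900c000000000000200000000000009000000000000009000e000000000000000000050000000000000004b0000000000000026000380000000000000000000120068000000000000001cd80000000000201b0003000000000000009000000003401e1000000000000003bc00000000203c00100000000000000000d800000007803c170000000000000fc00000303c002000000000200000180003e000001e01e83e0000010000f800060f000000020000007000003c0007c0003c0fc03e00018047801c7800000000380000807c0003c01e00787e003c00e09e0670000000000004780008183c00f03c0e7f0021e06271b800000000000000000303c00c00f03c0e38efc0871973600000002180000000000001c0781e071c739be31cdef0000000020718800000000000fc1c71ce6df9bbf8000000010020e3994000000001fc739b7fbff00000000030003c736e0000000fcdbffff8000000014007e6ff000003efffff0000000f803efe0000ffff800001f00ff8003ffc0001d81fc00fe000760f8078007d0703003f430403ff42007fc801ff007c070440, 693⟩]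

theorem transitive (j : Fin Fi22UCert.rep.N) : ∃ g, Fi22UCosets.phi g ⟨0, VCert.pos Fi22UCert.cert_ok⟩ = j := by
  obtain ⟨g, hg⟩ := QuotientGroup.mk_surjective (Fi22UCosets.equiv.symm j)
  refine ⟨g, ?_⟩
  have h0 : Fi22UCosets.equiv _ = ⟨0, VCert.pos Fi22UCert.cert_ok⟩ := Fi22UCosets.exists_equiv.choose_spec.2
  rw [← h0, ← Fi22UCosets.equiv_smul, MulAction.Quotient.smul_coe, smul_eq_mul, mul_one, hg, Equiv.apply_symm_apply]

theorem simple : IsSimpleGroup Cfsg.Spor.Fi22 :=
  isSimpleGroup_of_cert Fi22UCosets.rep_valid (VCert.pos Fi22UCert.cert_ok) Fi22UCosets.phi Fi22UCosets.phi_ev Fi22Order.phi_injective transitive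
    Fi22UCosets.gen_top Fi22UCosets.H_eq Fi22UCosets.H_fix orbits (by decide +kernel) (by decide +kernel) (by decide +kernel)
    (by rw [Fi22Order.card_eq]; norm_num) 13 1 (by norm_num) (by decide +kernel)
    (by rw [Fi22Order.card_eq]; norm_num) u conj genOK_conj

end CfsgLib.Presented.Fi22Simple
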