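import Cfsg.Agent.Lib.Presented.Fi23Order
import Cfsg.Agent.Lib.Presented.Fi22Simple
import Cfsg.Agent.Lib.Presented.Simple
import Cfsg.Prelude.Def_SporadicB

/-!
The presented Fischer group on 23 letters: simplicity, and the double cover inside it.
-/
set_option autoImplicit false
set_option maxRecDepth 8000

namespace CfsgLib.Presented.Fi23Simple

open Fi23Cosets (ev ev_one ev_inv rels_hold gen_top phi phi_ev rep_valid)

/-- the letters of the point stabiliser -/
abbrev hl : List ℕ := [0, 1, 2, 3, 4, 5, 6, 8, 9]

/-- a word of the centre -/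
def zw : List ℕ := [1, 2, 3, 4, 5, 6, 8, 1, 2, 3, 4, 5, 6, 8, 1, 2, 3, 4, 5, 6, 8, 1, 2, 3, 4, 5, 6, 8, 1, 2, 3, 4, 5, 6, 8, 1, 2, 3, 4, 5, 6, 8, 1, 2, 3, 4, 5, 6, 8, 1, 2, 3, 4, 5, 6, 8, 1, 2, 3, 4, 5, 6, 8]

theorem sq_one {x : ℕ} (hx : x < Fi23Cert.alphabet.eps) : ev x * ev x = 1 := by
  have h : ((List.range Fi23Cert.alphabet.eps).all fun x => Nat.beq (Fi23Cert.alphabet.invl x) x) = true := by
    decide +kernel
  have h1 := ev_inv x hx
  rwa [Nat.eq_of_beq_eq_true (List.all_eq_true.1 h x (List.mem_range.2 hx))] at h1

theorem braid {x y : ℕ} (h : Fi23Cert.relWords.contains [x, y, x, y, x, y] = true) :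
    ev x * ev y * ev x * ev y * ev x * ev y = 1 := by
  have := rels_hold _ (List.contains_iff_mem.1 h)
  simpa [mul_assoc] using this

/-- A map to a commutative group kills the generators of the stabiliser. -/
theorem killed {M : Type*} [Group M] (hc : ∀ a b : M, a * b = b * a) (f : Fi23Cosets.H →* M) : f = 1 := by
  classical
  have hmem : ∀ x ∈ hl, ev x ∈ Fi23Cosets.H := fun x hx => Fi23Order.H_eq_genBy ▸ mem_genBy ev hx
  let v : ℕ → M := fun x => if h : ev x ∈ Fi23Cosets.H then f ⟨ev x, h⟩ else 1
  have hv : ∀ x, (h : ev x ∈ Fi23Cosets.H) → v x = f ⟨ev x, h⟩ := fun x h => dif_pos h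
  have hsq : ∀ x ∈ hl, v x * v x = 1 := by
    intro x hx
    have hlt : x < Fi23Cert.alphabet.eps := by
      have h : (hl.all fun y => Nat.blt y Fi23Cert.alphabet.eps) = true := by decide +kernel
      have := List.all_eq_true.1 h x hx
      rwa [Nat.blt_eq] at this
    rw [hv x (hmem x hx), ← map_mul]
    exact (congrArg f (Subtype.ext (sq_one hlt))).trans (map_one f)
  have hedge : ∀ x y, x ∈ hl → y ∈ hl → Fi23Cert.relWords.contains [x, y, x, y, x, y] = true → v x = v y := by
    intro x y hx hy hr
    have h1 : v x * v y * v x * v y * v x * v y = 1 := by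
      rw [hv x (hmem x hx), hv y (hmem y hy)]
      simp only [← map_mul]
      exact (congrArg f (Subtype.ext (braid hr))).trans (map_one f)
    have a := hsq x hx
    have b := hsq y hy
    have hcomm : ∀ a b : M, a * b * a * b * a * b = (a * a) * (b * b) * (a * b) := by
      intro a b
      let _ : CommGroup M := { ‹Group M› with mul_comm := hc }
      simp only [mul_assoc, mul_left_comm, mul_comm]
    rw [hcomm, a, b, one_mul, one_mul] at h1
    rw [eq_inv_of_mul_eq_one_left h1]
    exact inv_eq_of_mul_eq_one_left b
  have e1 := hedge 0 1 (by decide) (by decide) (by decide +kernel)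
  have e2 := hedge 1 2 (by decide) (by decide) (by decide +kernel)
  have e3 := hedge 2 3 (by decide) (by decide) (by decide +kernel)
  have e4 := hedge 3 4 (by decide) (by decide) (by decide +kernel)
  have e5 := hedge 4 5 (by decide) (by decide) (by decide +kernel)
  have e6 := hedge 5 6 (by decide) (by decide) (by decide +kernel)
  have e7 := hedge 3 8 (by decide) (by decide) (by decide +kernel)
  have e8 := hedge 8 9 (by decide) (by decide) (by decide +kernel)
  have hall : ∀ x ∈ hl, v x = v 0 := by
    intro x hx
    simp only [List.mem_cons, List.not_mem_nil, or_false] at hx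
    rcases hx with rfl | rfl | rfl | rfl | rfl | rfl | rfl | rfl | rfl <;>
      simp only [← e8, ← e7, ← e6, ← e5, ← e4, ← e3, ← e2, ← e1]
  have hrel : evW ev [0, 1, 2, 3, 4, 5, 8, 0, 1, 2, 3, 4, 5, 8, 0, 1, 2, 3, 4, 5, 8, 0, 1, 2, 3, 4, 5, 8,
      0, 1, 2, 3, 4, 5, 8, 0, 1, 2, 3, 4, 5, 8, 0, 1, 2, 3, 4, 5, 8, 0, 1, 2, 3, 4, 5, 8,
      0, 1, 2, 3, 4, 5, 8] = 1 := rels_hold _ (List.contains_iff_mem.1 (by decide +kernel))
  have hword : ∀ w : List ℕ, (∀ x ∈ w, x ∈ hl) → ∃ h : evW ev w ∈ Fi23Cosets.H, f ⟨evW ev w, h⟩ = v 0 ^ w.length := by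
    intro w
    induction w with
    | nil => intro _; exact ⟨Fi23Cosets.H.one_mem, (map_one f).trans (pow_zero _).symm⟩
    | cons x w ih =>
      intro hw
      obtain ⟨h, he⟩ := ih fun y hy => hw y (List.mem_cons_of_mem _ hy)
      have hx := hmem x (hw x List.mem_cons_self)
      refine ⟨by rw [evW_cons]; exact Fi23Cosets.H.mul_mem hx h, ?_⟩
      rw [List.length_cons, pow_succ', ← he, ← hall x (hw x List.mem_cons_self), hv x hx, ← map_mul]
      exact congrArg f (Subtype.ext (evW_cons ev x w))
  obtain ⟨_, he⟩ := hword [0, 1, 2, 3, 4, 5, 8, 0, 1, 2, 3, 4, 5, 8, 0, 1, 2, 3, 4, 5, 8, 0, 1, 2, 3, 4, 5, 8,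
      0, 1, 2, 3, 4, 5, 8, 0, 1, 2, 3, 4, 5, 8, 0, 1, 2, 3, 4, 5, 8, 0, 1, 2, 3, 4, 5, 8,
      0, 1, 2, 3, 4, 5, 8] (by decide +kernel)
  simp only [hrel, List.length_cons, List.length_nil] at he
  have h0 : v 0 = 1 := by
    have h63 : v 0 ^ (2 * 31 + 1) = 1 := (he.symm.trans (map_one f))
    rw [pow_succ, pow_mul, sq, hsq 0 (by decide), one_pow, one_mul] at h63
    exact h63
  refine MonoidHom.ext fun g => ?_
  obtain ⟨g, hg⟩ := g
  have hg' : g ∈ genBy ev hl := Fi23Order.H_eq_genBy ▸ hg
  have : ∀ g, g ∈ genBy ev hl → ∀ h : g ∈ Fi23Cosets.H, f ⟨g, h⟩ = 1 := by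
    intro g hg
    induction hg using Subgroup.closure_induction with
    | mem y hy =>
      obtain ⟨x, hx, rfl⟩ := hy
      intro h
      rw [← hv x h, hall x hx, h0]
    | one => intro h; exact map_one f
    | mul a b ha hb iha ihb =>
      intro h
      have ha' : a ∈ Fi23Cosets.H := Fi23Order.H_eq_genBy ▸ ha
      have hb' : b ∈ Fi23Cosets.H := Fi23Order.H_eq_genBy ▸ hb
      have : (⟨a * b, h⟩ : Fi23Cosets.H) = ⟨a, ha'⟩ * ⟨b, hb'⟩ := rfl
      rw [this, map_mul, iha, ihb, one_mul]
    | inv a ha iha =>
      intro h
      have ha' : a ∈ Fi23Cosets.H := Fi23Order.H_eq_genBy ▸ ha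
      have : (⟨a⁻¹, h⟩ : Fi23Cosets.H) = ⟨a, ha'⟩⁻¹ := rfl
      rw [this, map_inv, iha, inv_one]
  simpa using this g hg' hg

/-- the pairs -/
noncomputable abbrev L : Subgroup (Equiv.Perm (Fin Fi23Cert.rep.N) × Equiv.Perm (Fin Fi22UCert.rep.N)) :=
  pairGroup rep_valid Fi22UCosets.rep_valid Fi23Emb.letters

theorem fst_range : ((MonoidHom.fst _ _).comp L.subtype).range = Fi23Cosets.H.map phi := by
  rw [MonoidHom.range_comp, Subgroup.range_subtype, pairGroup_map_fst _ _ (by rfl), Fi23Order.map_H]

/-- the action of the subgroup on the 3510 points -/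
noncomputable def psi : Fi23Cosets.H →* Equiv.Perm (Fin Fi22UCert.rep.N) :=
  (((MonoidHom.snd _ _).comp L.subtype).comp
    ((MulEquiv.subgroupCongr fst_range.symm).trans
      (MonoidHom.ofInjective (pairGroup_fst_injective rep_valid Fi22UCosets.rep_valid Fi23Order.emb_ok)).symm).toMonoidHom).comp
    (Fi23Cosets.H.equivMapOfInjective phi Fi23Order.phi_injective).toMonoidHom

theorem psi_range : psi.range = Fi22UCosets.phi.range := by
  have : psi.range = ((MonoidHom.snd _ _).comp L.subtype).range := by
    rw [psi]
    refine le_antisymm (fun y ⟨g, hg⟩ => ⟨_, hg⟩) (fun y ⟨l, hl⟩ => ?_)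
    refine ⟨(Fi23Cosets.H.equivMapOfInjective phi Fi23Order.phi_injective).symm
      (((MulEquiv.subgroupCongr fst_range.symm).trans
      (MonoidHom.ofInjective (pairGroup_fst_injective rep_valid Fi22UCosets.rep_valid Fi23Order.emb_ok)).symm).symm l), ?_⟩
    simp [← hl]
  rw [this, MonoidHom.range_comp, Subgroup.range_subtype, pairGroup_map_snd,
    MonoidHom.range_eq_map, ← Fi22UCosets.gen_top, MonoidHom.map_closure, Set.image_image]
  exact congrArg _ (Set.image_congr fun x hx => (Fi22UCosets.phi_ev x hx).symm)

theorem psi_pair (g : Fi23Cosets.H) : (phi g, psi g) ∈ L := by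
  let l := ((MulEquiv.subgroupCongr fst_range.symm).trans
      (MonoidHom.ofInjective (pairGroup_fst_injective rep_valid Fi22UCosets.rep_valid Fi23Order.emb_ok)).symm)
    (Fi23Cosets.H.equivMapOfInjective phi Fi23Order.phi_injective g)
  have h1 : l.val.1 = phi g := by
    have := MonoidHom.apply_ofInjective_symm (pairGroup_fst_injective rep_valid Fi22UCosets.rep_valid Fi23Order.emb_ok)
      ((MulEquiv.subgroupCongr fst_range.symm) (Fi23Cosets.H.equivMapOfInjective phi Fi23Order.phi_injective g))
    exact this
  have h2 : l.val = (phi g, psi g) := Prod.ext h1 rfl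
  exact h2 ▸ l.2

/-- onto the group on 22 letters -/
noncomputable def toFi22 : Fi23Cosets.H →* Cfsg.Spor.Fi22 :=
  (MonoidHom.ofInjective Fi22Order.phi_injective).symm.toMonoidHom.comp
    ((MulEquiv.subgroupCongr psi_range).toMonoidHom.comp psi.rangeRestrict)

theorem toFi22_surjective : Function.Surjective toFi22 :=
  (MonoidHom.ofInjective Fi22Order.phi_injective).symm.surjective.comp
    ((MulEquiv.subgroupCongr psi_range).surjective.comp psi.rangeRestrict_surjective)

theorem toFi22_eq_one {g : Fi23Cosets.H} : toFi22 g = 1 ↔ psi g = 1 := by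
  show (MonoidHom.ofInjective Fi22Order.phi_injective).symm
    ((MulEquiv.subgroupCongr psi_range) (psi.rangeRestrict g)) = 1 ↔ _
  rw [MulEquiv.map_eq_one_iff, MulEquiv.map_eq_one_iff, Subtype.ext_iff]
  rfl

theorem card_ker : Nat.card toFi22.ker = 2 := by
  have h := toFi22.ker.card_mul_index
  rw [Subgroup.index_ker, MonoidHom.range_eq_top_of_surjective _ toFi22_surjective, Subgroup.card_top,
    Fi22Order.card_eq, Fi23Order.card_H] at h
  exact Nat.eq_of_mul_eq_mul_right (by norm_num) (h.trans (by norm_num : (129123503308800 : ℕ) = 2 * 64561751654400))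

theorem ker_le_center : toFi22.ker ≤ Subgroup.center Fi23Cosets.H := by
  intro z hz
  rw [Subgroup.mem_center_iff]
  intro g
  rcases eq_or_ne z 1 with rfl | hz1
  · simp
  have hfin : Finite toFi22.ker := Nat.finite_of_card_ne_zero (by rw [card_ker]; norm_num)
  obtain ⟨a, b, hab, huniv⟩ := Nat.card_eq_two_iff.1 card_ker
  have key : ∀ u v : toFi22.ker, u ≠ 1 → v ≠ 1 → u = v := by
    intro u v hu hv
    have hu' : u = a ∨ u = b := by simpa [← huniv] using Set.mem_univ u
    have hv' : v = a ∨ v = b := by simpa [← huniv] using Set.mem_univ v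
    have h1' : (1 : toFi22.ker) = a ∨ (1 : toFi22.ker) = b := by simpa [← huniv] using Set.mem_univ (1 : toFi22.ker)
    rcases hu' with rfl | rfl <;> rcases hv' with rfl | rfl <;> rcases h1' with h | h <;>
      first | rfl | exact absurd h.symm hu | exact absurd h.symm hv
  have hc := key ⟨g * z * g⁻¹, (MonoidHom.normal_ker toFi22).conj_mem z hz g⟩ ⟨z, hz⟩
    (fun h => hz1 (by simpa using congrArg Subtype.val h)) (fun h => hz1 (congrArg Subtype.val h))
  have hc' : g * z * g⁻¹ = z := congrArg Subtype.val hc
  exact mul_inv_eq_iff_eq_mul.1 hc'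

theorem center_eq : Subgroup.center Fi23Cosets.H = toFi22.ker := by
  refine le_antisymm (fun g hg => ?_) ker_le_center
  have := Fi22Simple.simple
  have h0 : Subgroup.center Cfsg.Spor.Fi22 = ⊥ := by
    refine (IsSimpleGroup.eq_bot_or_eq_top_of_normal (Subgroup.center Cfsg.Spor.Fi22) inferInstance).resolve_right fun h => ?_
    let _ : CommGroup Cfsg.Spor.Fi22 := { (inferInstance : Group Cfsg.Spor.Fi22) with
      mul_comm := fun a b => (Subgroup.mem_center_iff.1 (h ▸ Subgroup.mem_top a) b).symm }
    have hp := IsSimpleGroup.prime_card (α := Cfsg.Spor.Fi22)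
    rw [Fi22Order.card_eq] at hp
    exact absurd hp (by norm_num)
  rw [MonoidHom.mem_ker, ← Subgroup.mem_bot, ← h0, Subgroup.mem_center_iff]
  intro q
  obtain ⟨q, rfl⟩ := toFi22_surjective q
  rw [← map_mul, ← map_mul, Subgroup.mem_center_iff.1 hg q]

theorem no_index_two (K : Subgroup Fi23Cosets.H) : K.index ≠ 2 := by
  intro h
  have := K.normal_of_index_eq_two h
  have hc : Nat.card (Fi23Cosets.H ⧸ K) = 2 := h
  have hcyc := isCyclic_of_prime_card (hp := ⟨Nat.prime_two⟩) hc
  have hk := killed (fun a b => hcyc.commGroup.mul_comm a b) (QuotientGroup.mk' K)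
  have : K = ⊤ := by
    rw [eq_top_iff]
    intro g _
    rw [← QuotientGroup.eq_one_iff]
    exact DFunLike.congr_fun hk g
  rw [this, Subgroup.index_top] at h
  omega

theorem doubleCover : Cfsg.IsNonsplitDoubleCover Fi23Cosets.H Cfsg.Spor.Fi22 := by
  refine ⟨by rw [center_eq]; exact card_ker, ⟨(QuotientGroup.quotientMulEquivOfEq center_eq).trans
    (QuotientGroup.quotientKerEquivOfSurjective toFi22 toFi22_surjective)⟩, fun K hK => ?_⟩
  apply no_index_two K
  rw [hK.index_eq_card, center_eq]
  exact card_ker

/-- the suborbits -/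
def orbits : List HOrbit := [⟨52, 6, 0x3fff8000000000000000000000000000000000000000000000000000000000000000000000001c0000000000000000000000000000000000000000000000000000000000000000000f0000000000000000000000000000000000000000000000000180000000000000000000000000000000000000000000000000000000000000000000000000000000000000000000000000000000000000000000000000000000000000000000000000000ffffffeffff80000000000000000000000000000000000000000000000000000000000000000000000000000000001ff8000000000000000000000000000000000000000000000000000000000000000000000000000000000001ffff0000000000000000000000000000000000000000000000000000000000001c0000000000000000000000000000000000000000000000000000000000000000000000000000000000000000000000000000000000000000000000000000000000000000000000000000000000000000007ffffefff7f7ffbffff0000000000000000000000000000000000000000000000000000000000000000000000000000000000000003fffc000000000000000000000000000000000000000000000000000000000000000000000000000000000000000000000000000000000000fffffffc000000000000000000000000000000000000000000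00000000000000000000000001ff80000000000000000000000000000000000000000000000000000000000000000000000000000000000000000000000000000000000000000000000000000000000000000000000000000000000000000000000ffffeffdfffeff3fffbffedfefc00000000000000000000000000000000000000000000000000000000000000000000000000000000000000001ffffff0000001c000000000000000000000075f8000000000000000000000000000000000000000000000000000000000000000000000000000000000000000000000000000000001ffffffffffc00000000000000000000000000000000000000000000000000000000000000000000000000ffff0000000000000000000000000000000000000000000000000000000000000000000000000000000000000000000000000000000000000000000000000000000000000000000000000000000000000000000001fefffdffcdffff37dffdefcdfd37d75ddfe0000000000000000000000000000000000000000000000000000000000000000000000000000000000037ffbffdf60000000000e0000000000000000000000000000000000007e7bfc00000000000000000000000000000000000000000000000000000000000000000000000000000000000000000000000000000000000000effdfffdfbbffffe000000000000000000000000000000000000000000000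00000000000000000000000000001d7ffffe00000000000000000000000000000000000000000000000000000000000000000000000000000000000000000000000000000000000000000000000000000000000000000000000000000000000000ffbfff37d7d7bebbdf793f3eb9d7bbefc7ffc0000000000000000000000000000000000000000000000000000000000000000000000000000fffefff7ddc0000000000001c0000000000000000000000000000000000000000000000007e78fb7f8000000000000000000000000000000000000000000000000000000000000000000000000000000000000000000000000000000000000003e6fdcbff67d8f7f7f7f80000000000000000000000000000000000000000000000000000000000000000000fdfff7fff00000000000000000000000000000000000000000000000000000000000000000000000000000000000000000000000000000000000000000000000000000000000000000000001ff5fefaebd7ddf7f23d7f77bbefef5fff000000000000000000000000000000000000000000000000000000000000007ffbfffdaefb800078000000000c03800000000000070000060000000000000000000000000000000000000003f1f1fb77fc000000000000000000000000000000000000000000000000000000000000000000000000000000000000000000000000000000fccf99f7d77abbbfbf77f000000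0000000000000000000000000000000000000000000000000075efff7ffff00000780000000000000000000000000000000000000000000000000000000000000000000000000000000000000000000000000000000000000000003d3d7f77bbefef577efbff76f7f00000000000000000000000000000000000000000000000fdfbfff777f000007fff00000000000fdc003e00000000000000000f80000003000000000000000000000000000000000000001f9cf9fe7bf0000000000000000000000000000000000000000000000000000000000000000000000000000000000000003e63d7eef777dddf7dfc00000000000000000000000000000000000000000000f6effefffbf8000003fffc000000000000000000000000000000000000000000000000000000000000000000000000000000000000000003d5dfbeffdddfdff6ffc000000000000000000000000000000005ddfffedf800000fefff7c0000000007fbf9fe0001f80000000000000000001fc0000000007f400000000000000000000000000000000007ccf7f7bf00000000000000000000000000000000000000000000000000000000000000000000f577efbfdddfdfc000000000000000000000000000000001777f7fdbfc0000003ffffff0000000000000000000000000000000000000000000000000000000000000000005ddfdff6ffdff80000000000000000000001b7feff000003ff7dff8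0000000001ff807ff0ffe03fc07ffc0000fd8000000000000000000003fdc000000000003ffc007f7fc00000000000000000000000000000001eaefdf7e0000000000000000000000000000000000000000000000000005ddfdff6ffc0000000000000000000000006dffbfdc0000000ffdffffff000000000000000000000000000000000000000000000000dbff7fefc0000000000000007fef80001ffff80000007e03fc1fc00007ff001fff00001ddc0000000000000000000000003dfbfc00000000000005ffbe00003f7ffff000000000000000000000000002eefefc000000000000000000000000000000000000036ffdff8000000000000000007feff000001ffffff800000000000000000000000000000000003ff7ff00000000001ff800fff80001f07c7f200000000001bc000f002ffff801fff800000efdc000000000000000000000002ff7fe0000000000000ffdf00003ffffff80000000000000000000036ffc0000000000000000000000000007fefc000000000000fff0001ffffc0000000000000000000000001fff80000007f807f80071cff0b0000000000000000f7f0000001fdc0007ffffff007fff00000036ff0000000000000000000003ff7e0000000000ffe000fffffe00000000000000001ff80000000000000000001ffc00000001ff800fff80000000000000000003ff00001f07c0337fbf002de00000000000000003fbf0000003fe00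0fffffe00fff0000007fe00000000000000000ffe0000000ff8007fffc0000000000001f800000000000003fc000007e03fe0000000000003f00071e0b6fcfe0007f000000000000003ff800001fc007ffff007fe000001f8000000000003fc00001f803ffc000000000f8000000001f0000f07f00000000780678b4fe3f80007e000000000007f80003f003ffe007e00003e000000003e0003e03fc0000007000000700387c00001c19ca1fc1f80007c000000007c001f807f803e00038000007001e0f800006000180e38001c3240fc0f8000e000001c003c1f01c0030000c01c700020060640061007c07000c00030038e0600400c0640101820040070300200603208080c1010200018202030410408040008410204200004420080011000010000000000000, 3510⟩, ⟨1, 12, 0x7fffffffffffffffffffffffffffffffffffffffffffffffffffffffffffffffffffffffffffffffffffffffffffffffffffffffffffffffffffffffffffffffffffffffffffffffffffffffffffffffffffffffffffffffffffffffffffffffffffffffffffffffffffffffffffffffffffffffffffffffffffffffffffffffffffffffffffffffffffffffffffffffffffffffffffffffffffffffffffffffffffffffffffffffffffffffffffffffffffffffffffffffffffffffffffffffffffffffffffffffffffffffffffffffffffffffffffffffffffffffffffffffffff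fffffffffffffffffffffffffffffffffffffffffffffffffffffffffffffffffffffffffffffffffffffffffffffffffffffffffffffffffffffffffffffffffffffffffffffffffffffffffffffffffffffffffffffffffffffffffffffffffffffffffffffffffffffffffffffffffffffffffffffffffffffffffffffffffffffffffffffffffffffffffffffffffffffffffffffffffffffffffffffffffffffffffffffffffffffffffffffffffffffffffffffffffffffffffffffffffffffffffffffffffffffffffffffffffffffffffffffffffffffffffffffffffffffffffffffffffffffffffffffffffffffffffffffffffffffffffffffffffffffffffffffffffffffffffffffffffffffffffffffffffffffffffffffffffffffffffffffffffffffffffffffffffffffffffffffffffffffffffffffffffffffffffffffffffffffffffffffffffffffffffffffffffffffffffffffffffffffffffffffffffffffffffffffffffffffffffffffffffffffffffffffffffffffffffffffffffffffffffffffffffffffffffffffffffffffffffffffffffffffffffffffffffffffffffffffffffffffffffffffffffffffffffffffffffffffffffffffffffffffffffffffffffffffffffffffffffffffffffffffffffffffffffffffffffffffffffffffffffffffffffffffffffffffffffffffffffffffffffffffffffffffffffffffffffffffff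ffffffffffffffffffffffffffffffffffffffffffffffffffffffffffffffffffffffffffffffffffffffffffffffffffffffffffffffffffffffffffffffffffffffffffffffffffffffffffffffffffffffffffffffffffffffffffffffffffffffffffffffffffffffffffffffffffffffffffffffffffffffffffffffffffffffffffffffffffffffffffffffffffffffffffffffffffffffffffffffffffffffffffffffffffffffffffffffffffffffffffffffffffffffffffffffffffffffffffffffffffffffffffffffffffffffffffffffffffffffffffffffffffffffffffffffffffffffffffffffffffffffffffffffffffffffffffffffffffffffffffffffffffffffffc0007fffffffffffffffffffffffffffffffffffffffffffffffffffffffffffffffffffffffe3fffffffffffffffffffffffffffffffffffffffffffffffffffffffffffffffffff0fffffffffffffffffffffffffffffffffffffffffffffffffe7ffffffffffffffffffffffffffffffffffffffffffffffffffffffffffffffffffffffffffffffffffffffffffffffffffffffffffffffffffffffffffffffffffffffffffffffffffff000000100007fffffffffffffffffffffffffffffffffffffffffffffffffffffffffffffffffffffffffffffffffe007fffffffffffffffffffffffffffffffffffffffffffffffffffffffffffffffffffffffffffffffffffe0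000ffffffffffffffffffffffffffffffffffffffffffffffffffffffffffffe3ffffffffffffffffffffffffffffffffffffffffffffffffffffffffffffffffffffffffffffffffffffffffffffffffffffffffffffffffffffffffffffffffffffffffffffffffffffffffffffffffff8000010008080040000fffffffffffffffffffffffffffffffffffffffffffffffffffffffffffffffffffffffffffffffffffffffc0003ffffffffffffffffffffffffffffffffffffffffffffffffffffffffffffffffffffffffffffffffffffffffffffffffffffffffffff00000003fffffffffffffffffffffffffffffffffffffffffffffffffffffffffffffffffffe007ffffffffffffffffffffffffffffffffffffffffffffffffffffffffffffffffffffffffffffffffffffffffffffffffffffffffffffffffffffffffffffffffffffffffffffffffffffffffffffffffffffff00001002000100c000400120103ffffffffffffffffffffffffffffffffffffffffffffffffffffffffffffffffffffffffffffffffffffffffe000000ffffffe3ffffffffffffffffffffff8a07ffffffffffffffffffffffffffffffffffffffffffffffffffffffffffffffffffffffffffffffffffffffffffffffffffffffffe00000000003ffffffffffffffffffffffffffffffffffffffffffffffffffffffffffffffffffffffffff0000ffffffffffffffffffffff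fffffffffffffffffffffffffffffffffffffffffffffffffffffffffffffffffffffffffffffffffffffffffffffffffffffffffffffffffffffffffffffffffffffffffffffffe01000200320000c82002103202c828a2201fffffffffffffffffffffffffffffffffffffffffffffffffffffffffffffffffffffffffffffffffffc800400209ffffffffff1ffffffffffffffffffffffffffffffffffff818403ffffffffffffffffffffffffffffffffffffffffffffffffffffffffffffffffffffffffffffffffffffffffffffffffffffffffffffff1002000204400001fffffffffffffffffffffffffffffffffffffffffffffffffffffffffffffffffffffffffe2800001ffffffffffffffffffffffffffffffffffffffffffffffffffffffffffffffffffffffffffffffffffffffffffffffffffffffffffffffffffffffffffffffffffffffffffffffffffffffffffffff004000c8282841442086c0c14628441038003ffffffffffffffffffffffffffffffffffffffffffffffffffffffffffffffffffffffffffff00010008223ffffffffffffe3ffffffffffffffffffffffffffffffffffffffffffffffff818704807ffffffffffffffffffffffffffffffffffffffffffffffffffffffffffffffffffffffffffffffffffffffffffffffffffffffffffffffc19023400982708080807fffffffffffffffffffffffffffffffffffffffffffffff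ffffffffffffffffffff020008000ffffffffffffffffffffffffffffffffffffffffffffffffffffffffffffffffffffffffffffffffffffffffffffffffffffffffffffffffffffffffffffffffffffffffffffffe00a0105142822080dc28088441010a000ffffffffffffffffffffffffffffffffffffffffffffffffffffffffffffff8004000251047fff87fffffffff3fc7ffffffffffff8fffff9fffffffffffffffffffffffffffffffffffffffc0e0e048803ffffffffffffffffffffffffffffffffffffffffffffffffffffffffffffffffffffffffffffffffffffffffffffffffffffff033066082885444040880ffffffffffffffffffffffffffffffffffffffffffffffffffffffff8a100080000fffff87ffffffffffffffffffffffffffffffffffffffffffffffffffffffffffffffffffffffffffffffffffffffffffffffffffffffffffffffffffc2c28088441010a881040089080fffffffffffffffffffffffffffffffffffffffffffffff02040008880fffff8000fffffffffff023ffc1fffffffffffffffff07ffffffcffffffffffffffffffffffffffffffffffffffe0630601840fffffffffffffffffffffffffffffffffffffffffffffffffffffffffffffffffffffffffffffffffffffffc19c2811088822208203ffffffffffffffffffffffffffffffffffffffffffff091001000407fffffc0003fffffffffffffffffffffffff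ffffffffffffffffffffffffffffffffffffffffffffffffffffffffffffffffc2a20410022202009003ffffffffffffffffffffffffffffffffa220001207fffff0100083fffffffff8040601fffe07ffffffffffffffffffe03fffffffff80bffffffffffffffffffffffffffffffffff833080840ffffffffffffffffffffffffffffffffffffffffffffffffffffffffffffffffffff0a8810402220203ffffffffffffffffffffffffffffffffe8880802403ffffffc000000ffffffffffffffffffffffffffffffffffffffffffffffffffffffffffffffffffa2202009002007fffffffffffffffffffffe480100fffffc0082007fffffffffe007f800f001fc03f8003ffff027ffffffffffffffffffffc023fffffffffffc003ff80803fffffffffffffffffffffffffffffffe15102081fffffffffffffffffffffffffffffffffffffffffffffffffffa2202009003ffffffffffffffffffffffff92004023fffffff002000000ffffffffffffffffffffffffffffffffffffffffffffffff240080103fffffffffffffff80107fffe00007ffffff81fc03e03ffff800ffe000ffffe223ffffffffffffffffffffffffc20403fffffffffffffa0041ffffc080000ffffffffffffffffffffffffffd110103fffffffffffffffffffffffffffffffffffffc9002007fffffffffffffffff80100fffffe0000007ffffffffffffffffffffffffffffffffffc00800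ffffffffffe007ff0007fffe0f8380dffffffffffe43fff0ffd00007fe0007fffff1023fffffffffffffffffffffffd00801fffffffffffff0020ffffc0000007ffffffffffffffffffffc9003fffffffffffffffffffffffffff80103ffffffffffff000fffe00003ffffffffffffffffffffffffe0007ffffff807f807ff8e300f4ffffffffffffffff080ffffffe023fff8000000ff8000ffffffc900fffffffffffffffffffffc0081ffffffffff001fff000001ffffffffffffffffe007ffffffffffffffffffe003fffffffe007ff0007ffffffffffffffffffc00ffffe0f83fcc8040ffd21ffffffffffffffffc040ffffffc01fff000001ff000ffffff801fffffffffffffffff001fffffff007ff80003ffffffffffffe07fffffffffffffc03fffff81fc01ffffffffffffc0fff8e1f490301fff80ffffffffffffffc007ffffe03ff80000ff801fffffe07fffffffffffc03ffffe07fc003fffffffff07ffffffffe0ffff0f80ffffffff87f9874b01c07fff81fffffffffff807fffc0ffc001ff81ffffc1ffffffffc1fffc1fc03ffffff8ffffff8ffc783ffffe3e635e03e07fff83ffffffff83ffe07f807fc1fffc7fffff8ffe1f07ffff9fffe7f1c7ffe3cdbf03f07fff1fffffe3ffc3e0fe3ffcffff3fe38fffdff9f9bff9eff83f8fff3fffcffc71f9ffbff3f9bfefe7dffbff8fcffdff9fcdf7f7f3efefdfffe7dfdfcfbefbf7fbfff7befdfbdffffbbdff7ffeeffffeffffffffffffe,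 28160⟩]

/-- the word taking the central element to a generator -/
def conjWord : List ℕ := [1, 2, 3, 8, 4, 5, 3, 4, 2, 3, 8, 6, 7, 5, 6, 4, 5, 3, 4, 2, 3, 8, 0, 1, 2, 3, 4, 5, 6, 7]

theorem conj_ok : Fi23Cert.rep.relsOK [conjWord ++ zw ++ invWord Fi23Cert.rep.A conjWord ++ [0]] = true := by
  decide +kernel

theorem transitive (j : Fin Fi23Cert.rep.N) : ∃ g, phi g ⟨0, VCert.pos Fi23Cert.cert_ok⟩ = j := by
  obtain ⟨g, hg⟩ := QuotientGroup.mk_surjective (Fi23Cosets.equiv.symm j)
  refine ⟨g, ?_⟩
  have h0 : Fi23Cosets.equiv _ = ⟨0, VCert.pos Fi23Cert.cert_ok⟩ := Fi23Cosets.exists_equiv.choose_spec.2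
  rw [← h0, ← Fi23Cosets.equiv_smul, MulAction.Quotient.smul_coe, smul_eq_mul, mul_one, hg, Equiv.apply_symm_apply]

theorem mem_H_of_fix {g : Cfsg.Spor.Fi23}
    (h : phi g ⟨0, VCert.pos Fi23Cert.cert_ok⟩ = ⟨0, VCert.pos Fi23Cert.cert_ok⟩) : g ∈ Fi23Cosets.H := by
  have h0 : Fi23Cosets.equiv _ = ⟨0, VCert.pos Fi23Cert.cert_ok⟩ := Fi23Cosets.exists_equiv.choose_spec.2
  rw [← h0, ← Fi23Cosets.equiv_smul] at h
  exact mem_of_fix (Fi23Cosets.equiv.injective h)

theorem hom_small {g : Fi23Cosets.H} {w : List ℕ} (hw : ∀ x ∈ w, x < Fi22UCert.rep.A.eps)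
    (he : (g : Cfsg.Spor.Fi23) = evW ev (w.map fun x => Fi23Emb.letters.getD x Fi23Cert.rep.A.eps))
    (hle : ∀ x ∈ w, Fi23Emb.letters.getD x Fi23Cert.rep.A.eps < Fi23Cert.rep.A.eps) :
    psi g = evW (Fi22UCert.rep.perm Fi22UCosets.rep_valid) w := by
  have h1 := pairGroup_evW_mem (letters := Fi23Emb.letters) rep_valid Fi22UCosets.rep_valid hw
  have h2 := psi_pair g
  have e : (evW (pairGen rep_valid Fi22UCosets.rep_valid Fi23Emb.letters) w).1 = phi g := by
    rw [he]
    show MonoidHom.fst _ _ _ = _
    simp only [evW, map_list_prod, List.map_map]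
    exact congrArg List.prod (List.map_congr_left fun x hx => (phi_ev _ (hle x hx)).symm)
  have hinj := pairGroup_fst_injective rep_valid Fi22UCosets.rep_valid Fi23Order.emb_ok
  have := @hinj ⟨_, h2⟩ ⟨_, h1⟩ e.symm
  have h3 := congrArg (fun l : L => l.val.2) this
  refine h3.trans ?_
  show MonoidHom.snd _ _ _ = _
  simp only [evW, map_list_prod, List.map_map]
  rfl

theorem mem_genBy_word {w : List ℕ} (h : ∀ x ∈ w, x ∈ hl) : evW ev w ∈ Fi23Cosets.H := by
  rw [Fi23Order.H_eq_genBy]
  refine list_prod_mem ?_
  intro g hg
  obtain ⟨x, hx, rfl⟩ := List.mem_map.1 hg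
  exact mem_genBy ev (h x hx)

theorem zw_mem : evW ev zw ∈ Fi23Cosets.H := mem_genBy_word (by decide +kernel)

theorem a_mem : evW ev [0] ∈ Fi23Cosets.H := mem_genBy_word (by decide)

theorem psi_zw : psi ⟨_, zw_mem⟩ = 1 :=
  (hom_small (g := ⟨_, zw_mem⟩) (w := [1, 2, 3, 4, 5, 6, 7, 1, 2, 3, 4, 5, 6, 7, 1, 2, 3, 4, 5, 6, 7, 1, 2, 3, 4, 5, 6, 7, 1, 2, 3, 4, 5, 6, 7, 1, 2, 3, 4, 5, 6, 7, 1, 2, 3, 4, 5, 6, 7, 1, 2, 3, 4, 5, 6, 7, 1, 2, 3, 4, 5, 6, 7]) (by decide +kernel)
    (congrArg (evW ev) (show zw = _ by decide +kernel)) (by decide +kernel)).trans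
      (Rep.evW_eq_one Fi22UCosets.rep_valid (ws := [[1, 2, 3, 4, 5, 6, 7, 1, 2, 3, 4, 5, 6, 7, 1, 2, 3, 4, 5, 6, 7, 1, 2, 3, 4, 5, 6, 7, 1, 2, 3, 4, 5, 6, 7, 1, 2, 3, 4, 5, 6, 7, 1, 2, 3, 4, 5, 6, 7, 1, 2, 3, 4, 5, 6, 7, 1, 2, 3, 4, 5, 6, 7]]) (by decide +kernel) (by simp))

theorem ne_one_of_moves {R : Rep} (hR : R.valid = true) {w : List ℕ} {p : ℕ} (hp : p < R.N)
    (h : (Vec.applyNet (R.netW w) (Nat.shiftLeft 1 p)).testBit p = false) : evW (R.perm hR) w ≠ 1 := by
  intro he
  have h1 := Rep.netW_perm hR w ⟨p, hp⟩
  rw [he, Equiv.Perm.one_apply] at h1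
  change (Vec.applyNet _ (1 <<< p)).testBit p = false at h
  rw [Vec.testBit_applyNet (Rep.netOk_netW hR _), ← h1] at h
  simp [Nat.testBit_shiftLeft] at h

theorem psi_a : psi ⟨_, a_mem⟩ ≠ 1 := by
  intro h
  rw [hom_small (g := ⟨_, a_mem⟩) (w := [0]) (by decide +kernel) (congrArg (evW ev) (show [0] = _ by decide +kernel))
    (by decide +kernel)] at h
  exact ne_one_of_moves Fi22UCosets.rep_valid (p := 1) (by decide +kernel) (by decide +kernel) h

theorem zw_ne : evW ev zw ≠ 1 := by
  intro h
  have h1 := congrArg phi h
  have hl : ∀ x ∈ zw, x < Fi23Cert.rep.A.eps := by decide +kernel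
  simp only [map_one, evW, map_list_prod, List.map_map] at h1
  rw [List.map_congr_left (f := ⇑phi ∘ ev) (g := Fi23Cert.rep.perm rep_valid) fun x hx => phi_ev x (hl x hx)] at h1
  exact ne_one_of_moves rep_valid (p := 1) (by decide +kernel) (by decide +kernel) h1

theorem conj_eq : ev 0 = evW ev conjWord * evW ev zw * (evW ev conjWord)⁻¹ := by
  have hlt : ∀ x ∈ conjWord ++ zw ++ invWord Fi23Cert.rep.A conjWord ++ [0], x < Fi23Cert.rep.A.eps := by
    intro x hx
    have h := conj_ok
    simp only [Rep.relsOK, List.all_eq_true, Bool.and_eq_true, List.mem_singleton, forall_eq] at h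
    have := h.1 x hx
    rwa [Nat.blt_eq] at this
  have h1 := Rep.evW_eq_one rep_valid conj_ok List.mem_cons_self
  have h2 : phi (evW ev (conjWord ++ zw ++ invWord Fi23Cert.rep.A conjWord ++ [0])) = 1 := by
    simp only [evW, map_list_prod, List.map_map]
    rw [List.map_congr_left (f := ⇑phi ∘ ev) (g := Fi23Cert.rep.perm rep_valid) fun x hx => phi_ev x (hlt x hx)]
    exact h1
  have h3 := Fi23Order.phi_injective (h2.trans (map_one phi).symm)
  have hgood : Fi23Cert.rep.A.Good ev := ⟨ev_one, fun x hx => by
    rcases Nat.eq_or_lt_of_le hx with h | h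
    · subst h
      have e : Fi23Cert.rep.A.invl Fi23Cert.rep.A.eps = Fi23Cert.rep.A.eps := by decide +kernel
      rw [e]
      exact (congrArg₂ (· * ·) ev_one ev_one).trans (one_mul 1)
    · exact ev_inv x h⟩
  rw [evW_append, evW_append, evW_append, evW_invWord hgood (fun x hx => (hlt x (by simp [hx])).le), evW_cons,
    evW_nil, mul_one] at h3
  exact ((eq_inv_of_mul_eq_one_left h3).trans (inv_eq_of_mul_eq_one_left (sq_one (by decide +kernel)))).symm

/-- simplicity -/
theorem simple : IsSimpleGroup Cfsg.Spor.Fi23 := by
  classical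
  have : Finite Cfsg.Spor.Fi23 := Nat.finite_of_card_ne_zero (by rw [Fi23Order.card_eq]; norm_num)
  have : Nontrivial Cfsg.Spor.Fi23 := Finite.one_lt_card_iff_nontrivial.1 (by rw [Fi23Order.card_eq]; norm_num)
  refine ⟨fun N hN => ?_⟩
  rcases eq_or_ne N ⊥ with h | hne
  · exact Or.inl h
  refine Or.inr ?_
  have := Fi22Simple.simple
  let z : Fin Fi23Cert.rep.N := ⟨0, VCert.pos Fi23Cert.cert_ok⟩
  let K : Subgroup Fi23Cosets.H := N.subgroupOf Fi23Cosets.H
  have : (K.map toFi22).Normal := Subgroup.Normal.map (inferInstance : K.Normal) _ toFi22_surjective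
  rcases IsSimpleGroup.eq_bot_or_eq_top_of_normal (K.map toFi22) inferInstance with hK | hK
  · -- the stabiliser meets `N` trivially
    rw [Subgroup.map_eq_bot_iff] at hK
    have hfree : ∀ g ∈ N, g ∈ Fi23Cosets.H → g = 1 := by
      intro g hgN hgH
      by_contra hg1
      obtain ⟨a, b, hab, huniv⟩ := Nat.card_eq_two_iff.1 card_ker
      let u : toFi22.ker := ⟨⟨g, hgH⟩, hK hgN⟩
      let v : toFi22.ker := ⟨⟨_, zw_mem⟩, toFi22_eq_one.2 psi_zw⟩
      have hu1 : u ≠ 1 := fun h => hg1 (congrArg (fun q : toFi22.ker => ((q : Fi23Cosets.H) : Cfsg.Spor.Fi23)) h)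
      have hv1 : v ≠ 1 := fun h => zw_ne (congrArg (fun q : toFi22.ker => ((q : Fi23Cosets.H) : Cfsg.Spor.Fi23)) h)
      have hm : ∀ q : toFi22.ker, q = a ∨ q = b := fun q => by simpa [← huniv] using Set.mem_univ q
      have huv : u = v := by
        rcases hm u with e1 | e1 <;> rcases hm v with e2 | e2 <;> rcases hm 1 with e3 | e3 <;>
          first | exact e1.trans e2.symm | exact absurd (e1.trans e3.symm) hu1 | exact absurd (e2.trans e3.symm) hv1
      have hgz : g = evW ev zw := congrArg (fun q : toFi22.ker => ((q : Fi23Cosets.H) : Cfsg.Spor.Fi23)) huv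
      have haN : evW ev [0] ∈ N := by
        rw [evW_cons, evW_nil, mul_one, conj_eq]
        exact hN.conj_mem _ (hgz ▸ hgN) _
      exact psi_a (toFi22_eq_one.1 (hK (show (⟨_, a_mem⟩ : Fi23Cosets.H) ∈ K from haN)))
    exfalso
    let inst : MulAction Cfsg.Spor.Fi23 (Fin Fi23Cert.rep.N) := MulAction.compHom _ phi
    have hsmul : ∀ (g : Cfsg.Spor.Fi23) (i : Fin Fi23Cert.rep.N), g • i = phi g i := fun _ _ => rfl
    have hpre : MulAction.IsPretransitive Cfsg.Spor.Fi23 (Fin Fi23Cert.rep.N) := ⟨fun a b => by
      obtain ⟨g, rfl⟩ := transitive a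
      obtain ⟨h, rfl⟩ := transitive b
      refine ⟨h * g⁻¹, ?_⟩
      rw [hsmul, ← Equiv.Perm.mul_apply, ← map_mul, inv_mul_cancel_right]⟩
    have hptinj : ∀ a ∈ N, ∀ b ∈ N, phi a z = phi b z → a = b := by
      intro a ha b hb h
      have h1 : a⁻¹ * b = 1 := by
        refine hfree _ (N.mul_mem (N.inv_mem ha) hb) (mem_H_of_fix ?_)
        rw [map_mul, Equiv.Perm.mul_apply, ← h, ← Equiv.Perm.mul_apply, ← map_mul, inv_mul_cancel, map_one,
          Equiv.Perm.one_apply]
      exact inv_mul_eq_one.1 h1
    let B : Set (Fin Fi23Cert.rep.N) := MulAction.orbit N z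
    have hncard : B.ncard = Nat.card N := by
      rw [← Nat.card_coe_set_eq]
      refine (Nat.card_congr (Equiv.ofBijective (fun n : N => (⟨n • z, MulAction.mem_orbit _ n⟩ : B)) ⟨?_, ?_⟩)).symm
      · intro a b h
        exact Subtype.ext (hptinj a a.2 b b.2 (congrArg Subtype.val h))
      · rintro ⟨_, n, rfl⟩
        exact ⟨n, rfl⟩
    have hdvd : B.ncard ∣ 31671 := by
      have h1 := MulAction.IsBlock.ncard_dvd_card (MulAction.IsBlock.orbit_of_normal (G := Cfsg.Spor.Fi23) (N := N) z)
        ⟨z, MulAction.mem_orbit_self z⟩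
      rw [Nat.card_fin] at h1
      exact h1
    have hHB : ∀ h ∈ Fi23Cosets.H, ∀ n ∈ N, ∃ n' ∈ N, phi n' z = phi h (phi n z) ∧ n' = h * n * h⁻¹ := by
      intro h hh n hn
      refine ⟨_, hN.conj_mem n hn h, ?_, rfl⟩
      rw [map_mul, map_mul, Equiv.Perm.mul_apply, Equiv.Perm.mul_apply,
        Fi23Cosets.H_fix h⁻¹ (inv_mem hh)]
    have hok : (orbits.all fun O => orbitOK Fi23Cert.rep Fi23Cosets.hWords O.rep O.rounds O.bits) = true := by
      decide +kernel
    have hcover : coverOK Fi23Cert.rep.N orbits 1 = true := by decide +kernel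
    -- points of one suborbit in `B` come from conjugate elements
    have hsame : ∀ O ∈ orbits, ∀ i j : Fin Fi23Cert.rep.N, O.bits.testBit i = true → O.bits.testBit j = true →
        ∀ n ∈ N, phi n z = i → ∃ h ∈ Fi23Cosets.H, phi (h * n * h⁻¹) z = j := by
      intro O hO i j hi hj n hn hni
      have ho := List.all_eq_true.1 hok O hO
      have hrep : O.rep < Fi23Cert.rep.N := by
        simp only [orbitOK, Bool.and_eq_true, Nat.blt_eq] at ho
        exact ho.1.1
      obtain ⟨h1, hh1, e1⟩ := (orbit_eq_of_ok rep_valid ho phi phi_ev Fi23Cosets.H_eq hrep i).2 hi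
      obtain ⟨h2, hh2, e2⟩ := (orbit_eq_of_ok rep_valid ho phi phi_ev Fi23Cosets.H_eq hrep j).2 hj
      refine ⟨h2 * h1⁻¹, mul_mem hh2 (inv_mem hh1), ?_⟩
      obtain ⟨n', -, e, rfl⟩ := hHB _ (mul_mem hh2 (inv_mem hh1)) n hn
      rw [e, hni, ← e1, ← Equiv.Perm.mul_apply, ← map_mul, inv_mul_cancel_right, e2]
    let BF : Finset ℕ := (Finset.univ.filter fun i => i ∈ B).image Fin.val
    have hBF : ∀ i : Fin Fi23Cert.rep.N, (i : ℕ) ∈ BF ↔ i ∈ B := by
      intro i
      simp [BF, Fin.val_inj]
    have hmem := cover_sum BF orbits 1 hcover (fun O hO => by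
      rw [or_iff_not_imp_left]
      intro hnot i hi hb hiB
      apply hnot
      intro j hj hjb
      obtain ⟨⟨n, hn⟩, hni⟩ := (hBF ⟨i, hi⟩).1 hiB
      obtain ⟨h, -, e⟩ := hsame O hO ⟨i, hi⟩ ⟨j, hj⟩ hb hjb n hn hni
      exact (hBF ⟨j, hj⟩).2 ⟨⟨_, hN.conj_mem n hn h⟩, e⟩)
    have hcardB : B.ncard = ((Finset.range Fi23Cert.rep.N).filter fun i => i ∈ BF ∧ (1 : ℕ).testBit i = false).card + 1 := by
      have e : B.ncard = BF.card := by
        rw [Finset.card_image_of_injective _ Fin.val_injective, ← Set.ncard_coe_finset]
        apply congrArg Set.ncard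
        ext i
        simp
      rw [e]
      have e2 : BF = insert 0 ((Finset.range Fi23Cert.rep.N).filter fun i => i ∈ BF ∧ (1 : ℕ).testBit i = false) := by
        ext i
        simp only [Finset.mem_insert, Finset.mem_filter, Finset.mem_range]
        constructor
        · intro hi
          rcases Nat.eq_zero_or_pos i with h | h
          · exact Or.inl h
          · refine Or.inr ⟨?_, hi, ?_⟩
            · simp only [BF, Finset.mem_image] at hi
              obtain ⟨a, -, rfl⟩ := hi
              exact a.2
            · cases hb : (1 : ℕ).testBit i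
              · rfl
              · exact absurd (VCert.one_bit hb) (by omega)
        · rintro (rfl | ⟨-, h, -⟩)
          · exact (hBF z).2 (MulAction.mem_orbit_self z)
          · exact h
      conv_lhs => rw [e2]
      rw [Finset.card_insert_of_notMem (by simp)]
    have hB1 : B.ncard ≠ 1 := by
      intro h
      apply hne
      rw [Subgroup.eq_bot_iff_forall]
      intro n hn
      have hc : Nat.card N = 1 := hncard ▸ h
      have := (Nat.card_eq_one_iff_unique.1 hc).1
      exact congrArg Subtype.val (Subsingleton.elim (⟨n, hn⟩ : N) 1)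
    have hN' : Nat.card N = 31671 := by
      rw [← hncard]
      have hm : ∀ t ∈ sublistSums (orbits.map HOrbit.size), t + 1 = 1 ∨ t + 1 = 31671 ∨ ¬ t + 1 ∣ 31671 := by
        decide +kernel
      rcases hm _ hmem with h | h | h
      · exact absurd (hcardB.trans h) hB1
      · exact hcardB.trans h
      · exact absurd (hcardB ▸ hdvd) h
    have hex : ∀ p : ℕ, p.Prime → p ∣ 31671 → ∃ n ∈ N, orderOf n = p ∧
        ∃ O ∈ orbits, O.bits.testBit (phi n z : ℕ) = true := by
      intro p hp hd
      have := Fact.mk hp
      obtain ⟨⟨n, hn⟩, hord⟩ := exists_prime_orderOf_dvd_card' (G := N) p (by rw [hN']; exact hd)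
      have hord' : orderOf n = p := by rw [← hord]; exact orderOf_injective N.subtype N.subtype_injective ⟨n, hn⟩
      refine ⟨n, hn, hord', ?_⟩
      have hne0 : (phi n z : ℕ) ≠ 0 := fun h => by
        have := hptinj n hn 1 N.one_mem (by rw [map_one, Equiv.Perm.one_apply]; exact Fin.ext h)
        rw [this, orderOf_one] at hord'
        exact hp.one_lt.ne hord'
      have hall : ∀ (l : List HOrbit) (acc : ℕ), coverOK Fi23Cert.rep.N l acc = true → ∀ i, i < Fi23Cert.rep.N →
          acc.testBit i = true ∨ ∃ O ∈ l, O.bits.testBit i = true := by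
        intro l
        induction l with
        | nil =>
          intro acc h i hi
          rw [Nat.eq_of_beq_eq_true h, Vec.testBit_ones]
          exact Or.inl (by simpa using hi)
        | cons O l ih =>
          intro acc h i hi
          simp only [coverOK, Vec.force_eq, Bool.and_eq_true] at h
          rcases ih _ h.2 i hi with h1 | ⟨Q, hQ, h1⟩
          · have e : (Nat.lor acc O.bits).testBit i = (acc.testBit i || O.bits.testBit i) := Nat.testBit_or acc O.bits i
            rw [e, Bool.or_eq_true] at h1
            rcases h1 with h1 | h1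
            · exact Or.inl h1
            · exact Or.inr ⟨O, List.mem_cons_self, h1⟩
          · exact Or.inr ⟨Q, List.mem_cons_of_mem _ hQ, h1⟩
      rcases hall orbits 1 hcover _ (phi n z).2 with h | h
      · exact absurd (VCert.one_bit h) hne0
      · exact h
    have key : ∀ n ∈ N, ∀ n' ∈ N, ∀ O ∈ orbits, O.bits.testBit (phi n z : ℕ) = true →
        O.bits.testBit (phi n' z : ℕ) = true → orderOf n = orderOf n' := by
      intro n hn n' hn' O hO h h'
      obtain ⟨g, -, e⟩ := hsame O hO _ _ h h' n hn rfl
      rw [← hptinj _ (hN.conj_mem n hn g) n' hn' e]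
      exact SemiconjBy.orderOf_eq g (show g * n = g * n * g⁻¹ * g by simp)
    obtain ⟨n₁, hn₁, o₁, P₁, hP₁, b₁⟩ := hex 3 (by norm_num) (by norm_num)
    obtain ⟨n₂, hn₂, o₂, P₂, hP₂, b₂⟩ := hex 17 (by norm_num) (by norm_num)
    obtain ⟨n₃, hn₃, o₃, P₃, hP₃, b₃⟩ := hex 23 (by norm_num) (by norm_num)
    have h12 : P₁ ≠ P₂ := fun h => by
      have := key n₁ hn₁ n₂ hn₂ P₁ hP₁ b₁ (h ▸ b₂); omega
    have h13 : P₁ ≠ P₃ := fun h => by
      have := key n₁ hn₁ n₃ hn₃ P₁ hP₁ b₁ (h ▸ b₃); omega
    have h23 : P₂ ≠ P₃ := fun h => by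
      have := key n₂ hn₂ n₃ hn₃ P₂ hP₂ b₂ (h ▸ b₃); omega
    simp only [orbits, List.mem_cons, List.not_mem_nil, or_false] at hP₁ hP₂ hP₃
    rcases hP₁ with rfl | rfl <;> rcases hP₂ with rfl | rfl <;> rcases hP₃ with rfl | rfl <;>
      first | exact h12 rfl | exact h13 rfl | exact h23 rfl
  · -- the stabiliser lies in `N`
    have hKtop : K = ⊤ := by
      have h2 : K.index ∣ 2 := by
        have hsup : K ⊔ toFi22.ker = ⊤ := by rw [← Subgroup.comap_map_eq, hK, Subgroup.comap_top]
        have h3 := Subgroup.relIndex_sup_right toFi22.ker K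
        rw [sup_comm, hsup, Subgroup.relIndex_top_right] at h3
        rw [h3, ← card_ker]
        exact K.relIndex_dvd_card _
      rcases (Nat.dvd_prime Nat.prime_two).1 h2 with h | h
      · exact Subgroup.index_eq_one.1 h
      · exact absurd h (no_index_two K)
    have hHN : ∀ x ∈ hl, ev x ∈ N := by
      intro x hx
      have hxH : ev x ∈ Fi23Cosets.H := Fi23Order.H_eq_genBy ▸ mem_genBy ev hx
      exact (hKtop ▸ Subgroup.mem_top (⟨ev x, hxH⟩ : Fi23Cosets.H) : (⟨ev x, hxH⟩ : Fi23Cosets.H) ∈ K)
    have hj : ev 7 ∈ N := by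
      have h6 := hHN 6 (by decide)
      rw [← QuotientGroup.eq_one_iff] at h6 ⊢
      have h1 : QuotientGroup.mk' N (ev 6 * ev 7 * ev 6 * ev 7 * ev 6 * ev 7) = 1 := by
        rw [braid (by decide +kernel), map_one]
      have h2 : QuotientGroup.mk' N (ev 7 * ev 7) = 1 := by
        rw [sq_one (by decide +kernel), map_one]
      simp only [map_mul, QuotientGroup.mk'_apply, h6, one_mul] at h1
      simp only [map_mul, QuotientGroup.mk'_apply] at h2
      rwa [mul_one, mul_one, h2, one_mul] at h1
    rw [eq_top_iff, ← gen_top, Subgroup.closure_le]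
    rintro _ ⟨x, hx, rfl⟩
    have hx' : x ∈ hl ∨ x = 7 := by
      have h : ((List.range Fi23Cert.alphabet.eps).all fun x => hl.contains x || Nat.beq x 7) = true := by decide +kernel
      have := List.all_eq_true.1 h x (List.mem_range.2 hx)
      rw [Bool.or_eq_true, List.contains_iff_mem] at this
      exact this.imp id Nat.eq_of_beq_eq_true
    rcases hx' with h | rfl
    · exact hHN x h
    · exact hj

end CfsgLib.Presented.Fi23Simple
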