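import Cfsg.Agent.Lib.Presented.BigCount

/-!
Counting set bits by halving, to keep the memory of the kernel small on very long bit sets.
-/
set_option autoImplicit false

namespace CfsgLib.Presented

open Vec

/-- number of set bits below `n`, halving at most `fuel` times -/
noncomputable def bitCountHalf : ℕ → ℕ → ℕ → ℕ
  | 0, v, n => bitCount v n
  | fuel + 1, v, n => cond (Nat.ble n 64) (bitCount v n)
      (force (Nat.land v (ones (Nat.div n 2))) fun a => force (Nat.shiftRight v (Nat.div n 2)) fun b =>
        Nat.add (bitCountHalf fuel a (Nat.div n 2)) (bitCountHalf fuel b (Nat.sub n (Nat.div n 2))))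

theorem bitCount_land_ones (v h : ℕ) : bitCount (v &&& ones h) h = bitCount v h := by
  rw [bitCount_eq, bitCount_eq]
  refine congrArg Finset.card (Finset.filter_congr fun i hi => ?_)
  rw [Finset.mem_range] at hi
  rw [Nat.testBit_and, testBit_ones, decide_eq_true hi, Bool.and_true]

theorem bitCountHalf_eq : ∀ fuel v n : ℕ, bitCountHalf fuel v n = bitCount v n
  | 0, _, _ => rfl
  | fuel + 1, v, n => by
    rw [bitCountHalf]
    cases Nat.ble n 64
    · rw [cond_false, force_eq, force_eq, bitCountHalf_eq, bitCountHalf_eq]
      show bitCount (v &&& ones (n / 2)) (n / 2) + bitCount (v >>> (n / 2)) (n - n / 2) = _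
      rw [bitCount_land_ones, ← bitCount_add, Nat.add_sub_cancel' (Nat.div_le_self n 2)]
    · rfl

/-- `coverOK` counting by halving -/
noncomputable def coverOKHalf (n : ℕ) : List HOrbit → ℕ → Bool
  | [], acc => Nat.beq acc (ones n)
  | O :: l, acc => Nat.beq (Nat.land O.bits acc) 0 && Nat.beq (bitCountHalf 16 O.bits n) O.size &&
      force (Nat.lor acc O.bits) (coverOKHalf n l)

theorem coverOKHalf_eq (n : ℕ) : ∀ (l : List HOrbit) (acc : ℕ), coverOKHalf n l acc = coverOK n l acc
  | [], _ => rfl
  | O :: l, acc => by
    simp only [coverOKHalf, coverOK, force_eq, bitCountHalf_eq, coverOKHalf_eq n l]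

theorem coverOK_of_half {n acc : ℕ} {l : List HOrbit} (h : coverOKHalf n l acc = true) : coverOK n l acc = true := by
  rwa [coverOKHalf_eq] at h

end CfsgLib.Presented
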