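import Cfsg.Agent.Lib.Presented.Fi24Order
import Cfsg.Agent.Lib.Presented.Fi23Simple
import Cfsg.Agent.Lib.Presented.Regular
import Cfsg.Agent.Lib.Presented.HalfCount
import Cfsg.Prelude.Def_Sporadic

/-!
Simplicity of the commutator subgroup of the presented group Fi24.
-/
set_option autoImplicit false
set_option maxRecDepth 8000
set_option Elab.async false

namespace CfsgLib.Presented.Fi24Simple

open scoped Pointwise
open Fi24Base (ev phi phi_ev gen_top rels_hold ev_inv)
open Fi24Cert (alphabet rep rep_valid subWords orbit0 orbit1)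
open Fi24Cosets (H hl H_eq H_fix mem_H_of_fix transitive index_eq)
open Fi24Order (theta theta_injective theta_mem H_decomp l_comm card_eq phi_injective fi23_noncomm top_of_l)

theorem orbit0_ok : orbitOK rep subWords orbit0.rep orbit0.rounds orbit0.bits = true := by decide +kernel

theorem orbit1_ok : orbitOK rep subWords orbit1.rep orbit1.rounds orbit1.bits = true := by decide +kernel

theorem orbits_ok : ([orbit0, orbit1].all fun O => orbitOK rep subWords O.rep O.rounds O.bits) = true := by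
  simp only [List.all_cons, List.all_nil, orbit0_ok, orbit1_ok, Bool.and_self]

theorem meets (N : Subgroup Cfsg.Spor.Fi24) [N.Normal] (hN : N ≠ ⊥) :
    (∃ g ∈ N, g ∈ H ∧ g ≠ 1) ∧ ∀ g : Cfsg.Spor.Fi24, ∃ n ∈ N, n⁻¹ * g ∈ H :=
  normal_transitive_and_meets rep_valid Fi24Base.N_pos phi phi_ev phi_injective
    transitive H_eq H_fix (fun _ h => mem_H_of_fix h) [orbit0, orbit1] orbits_ok
    (coverOK_of_half (by decide +kernel)) (by decide +kernel) [2, 3, 7, 29]
    (by
      intro p hp
      have hd : ([2, 3, 7, 29].all fun p => Nat.beq (rep.N % p) 0) = true := by decide +kernel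
      refine ⟨?_, Nat.dvd_of_mod_eq_zero (Nat.eq_of_beq_eq_true (List.all_eq_true.1 hd p hp))⟩
      fin_cases hp <;> norm_num)
    (by decide) (by simp) N hN

/-- A nontrivial normal subgroup contains the commutator subgroup. -/
theorem commutator_le (N : Subgroup Cfsg.Spor.Fi24) [hN' : N.Normal] (hN : N ≠ ⊥) :
    commutator Cfsg.Spor.Fi24 ≤ N := by
  obtain ⟨⟨g, hgN, hgH, hg1⟩, htr⟩ := meets N hN
  have := Fi23Simple.simple
  rcases IsSimpleGroup.eq_bot_or_eq_top_of_normal (N.comap theta) inferInstance with hK | hK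
  · have hq : ∀ q, (g = theta q ∨ g = theta q * ev 0) → q = 1 := by
      intro q hg
      refine fi23_noncomm q fun r => ?_
      have hmem : g * theta r * g⁻¹ * (theta r)⁻¹ ∈ N := by
        rw [mul_assoc, mul_assoc, ← mul_assoc (theta r)]
        exact N.mul_mem hgN (hN'.conj_mem _ (N.inv_mem hgN) (theta r))
      have heq : g * theta r * g⁻¹ * (theta r)⁻¹ = theta (q * r * q⁻¹ * r⁻¹) := by
        simp only [map_mul, map_inv]
        rcases hg with rfl | rfl
        · rfl
        · have hc := l_comm (theta r) (theta_mem r)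
          rw [mul_inv_rev, show theta q * ev 0 * theta r * ((ev 0)⁻¹ * (theta q)⁻¹) =
            theta q * (ev 0 * theta r * (ev 0)⁻¹) * (theta q)⁻¹ by simp only [mul_assoc], hc.eq, mul_inv_cancel_right]
      rw [heq] at hmem
      have h1 : q * r * q⁻¹ * r⁻¹ = 1 := by
        rw [← Subgroup.mem_bot, ← hK]
        exact hmem
      exact (mul_inv_eq_iff_eq_mul.1 (mul_inv_eq_one.1 h1)).symm
    obtain ⟨q, hg⟩ := H_decomp g hgH
    have h1 := hq q hg
    subst h1
    rw [map_one, one_mul] at hg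
    rcases hg with rfl | rfl
    · exact absurd rfl hg1
    · rw [top_of_l N hgN]
      exact le_top
  · have hth : ∀ q, QuotientGroup.mk' N (theta q) = 1 := fun q =>
      (QuotientGroup.eq_one_iff _).2 (show q ∈ N.comap theta from hK ▸ Subgroup.mem_top q)
    have hall : ∀ x : Cfsg.Spor.Fi24, QuotientGroup.mk' N x = 1 ∨ QuotientGroup.mk' N x = QuotientGroup.mk' N (ev 0) := by
      intro x
      obtain ⟨n, hn, hh⟩ := htr x
      have e : QuotientGroup.mk' N (n⁻¹ * x) = QuotientGroup.mk' N x := by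
        rw [map_mul, map_inv, show QuotientGroup.mk' N n = 1 from (QuotientGroup.eq_one_iff _).2 hn, inv_one, one_mul]
      obtain ⟨q, hq | hq⟩ := H_decomp _ hh
      · left; rw [← e, hq, hth]
      · right; rw [← e, hq, map_mul, hth, one_mul]
    rw [commutator_def, Subgroup.commutator_le]
    intro a _ b _
    rw [← QuotientGroup.eq_one_iff, ← QuotientGroup.mk'_apply, map_commutatorElement, commutatorElement_eq_one_iff_mul_comm]
    rcases hall a with ha | ha <;> rcases hall b with hb | hb <;> simp [ha, hb]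

theorem card_fi24' : Nat.card Cfsg.Spor.Fi24' = 1255205709190661721292800 := by
  have h := (commutator Cfsg.Spor.Fi24).card_mul_index
  rw [Cfsg.Agent.S1691.result, card_eq] at h
  show Nat.card (commutator Cfsg.Spor.Fi24) = _
  omega

theorem nontrivial' : Nontrivial Cfsg.Spor.Fi24' := by
  by_contra hc
  rw [not_nontrivial_iff_subsingleton] at hc
  have := Nat.card_of_subsingleton (1 : Cfsg.Spor.Fi24')
  rw [card_fi24'] at this
  omega

/-- The commutator subgroup is simple. -/
theorem simple : IsSimpleGroup Cfsg.Spor.Fi24' := by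
  have := nontrivial'
  refine ⟨fun K hK => ?_⟩
  let D := commutator Cfsg.Spor.Fi24
  let N : Subgroup Cfsg.Spor.Fi24 := K.map D.subtype
  have hND : N ≤ D := Subgroup.map_subtype_le K
  have hcomap : N.subgroupOf D = K := Subgroup.comap_map_eq_self_of_injective D.subtype_injective K
  rcases eq_or_ne N ⊥ with hbot | hne
  · left
    rw [← hcomap, hbot, Subgroup.bot_subgroupOf]
  right
  have hnormD : ∀ n ∈ N, ∀ d ∈ D, d * n * d⁻¹ ∈ N := by
    rintro _ ⟨k, hk, rfl⟩ d hd
    exact ⟨⟨d, hd⟩ * k * ⟨d, hd⟩⁻¹, hK.conj_mem k hk _, rfl⟩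
  -- every element is in the commutator subgroup up to the letter l
  have hidx := Subgroup.index_eq_two_iff.1 Cfsg.Agent.S1691.result
  have hl0 : ev 0 ∉ D := by
    intro h
    have h1 := Abelianization.commutator_subset_ker Cfsg.Agent.S1691.sgn h
    have h2 := Fi24Base.sgn_evW (w := [0]) (by decide +kernel)
    rw [evW_cons, evW_nil, mul_one, MonoidHom.mem_ker.1 h1] at h2
    revert h2
    decide
  have hl2 : ev 0 * ev 0 = 1 := by
    have h := ev_inv 0 (by decide)
    rwa [show alphabet.invl 0 = 0 by decide +kernel] at h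
  have hDn : D.Normal := inferInstance
  have hdec : ∀ x : Cfsg.Spor.Fi24, x ∈ D ∨ x * ev 0 ∈ D := by
    intro x
    by_cases hx : x ∈ D
    · exact Or.inl hx
    · exact Or.inr ((Subgroup.mul_mem_iff_of_index_two Cfsg.Agent.S1691.result).2 (iff_of_false hx hl0))
  let N' : Subgroup Cfsg.Spor.Fi24 := N.comap (MulAut.conj (ev 0)).toMonoidHom
  have hmem' : ∀ n, n ∈ N' ↔ ev 0 * n * (ev 0)⁻¹ ∈ N := fun n => Iff.rfl
  have hl0i : (ev 0)⁻¹ = ev 0 := inv_eq_of_mul_eq_one_left hl2
  have hswap : ∀ n ∈ N, ev 0 * n * (ev 0)⁻¹ ∈ N' := by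
    intro n hn
    rw [hmem', hl0i, show ev 0 * (ev 0 * n * ev 0) * ev 0 = (ev 0 * ev 0) * n * (ev 0 * ev 0) by
      simp only [mul_assoc], hl2, one_mul, mul_one]
    exact hn
  have hnormD' : ∀ n ∈ N', ∀ d ∈ D, d * n * d⁻¹ ∈ N' := by
    intro n hn d hd
    rw [hmem'] at hn ⊢
    have := hnormD _ hn _ (hDn.conj_mem d hd (ev 0))
    simpa [mul_assoc] using this
  have hconj : ∀ n, (n ∈ N ∧ n ∈ N') → ∀ x, x * n * x⁻¹ ∈ N ∧ x * n * x⁻¹ ∈ N' := by
    intro n hn x
    rcases hdec x with hx | hx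
    · exact ⟨hnormD n hn.1 x hx, hnormD' n hn.2 x hx⟩
    · have e : x * n * x⁻¹ = (x * ev 0) * (ev 0 * n * (ev 0)⁻¹) * (x * ev 0)⁻¹ := by
        rw [mul_inv_rev]
        simp only [hl0i, ← mul_assoc]
        rw [mul_assoc x (ev 0), hl2, mul_one, mul_assoc (x * n) (ev 0), hl2, mul_one]
      rw [e]
      exact ⟨hnormD _ hn.2 _ hx, hnormD' _ (hswap n hn.1) _ hx⟩
  have hM : (N ⊓ N').Normal := ⟨fun n hn x => hconj n hn x⟩
  rcases eq_or_ne (N ⊓ N') ⊥ with hMbot | hMne
  swap
  · have h := (commutator_le (N ⊓ N') hMne).trans inf_le_left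
    rw [← hcomap, Subgroup.subgroupOf_eq_top]
    exact h
  exfalso
  -- the product of the two conjugates is the whole commutator subgroup
  have hN'D : N' ≤ D := by
    intro n hn
    have := hDn.conj_mem _ (hND ((hmem' n).1 hn)) (ev 0)⁻¹
    simpa [mul_assoc] using this
  have hS : (N ⊔ N').Normal := by
    have hgen : ∀ n, n ∈ (N : Set Cfsg.Spor.Fi24) ∪ N' → ∀ x, x * n * x⁻¹ ∈ N ⊔ N' := by
      intro n hn x
      have hsw : ev 0 * n * (ev 0)⁻¹ ∈ (N : Set Cfsg.Spor.Fi24) ∪ N' := hn.elim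
        (fun h => Or.inr (hswap n h)) (fun h => Or.inl ((hmem' n).1 h))
      have hD : ∀ m, m ∈ (N : Set Cfsg.Spor.Fi24) ∪ N' → ∀ d ∈ D, d * m * d⁻¹ ∈ N ⊔ N' := fun m hm d hd =>
        hm.elim (fun h => Subgroup.mem_sup_left (hnormD m h d hd)) (fun h => Subgroup.mem_sup_right (hnormD' m h d hd))
      rcases hdec x with hx | hx
      · exact hD n hn x hx
      · have e : x * n * x⁻¹ = (x * ev 0) * (ev 0 * n * (ev 0)⁻¹) * (x * ev 0)⁻¹ := by
          rw [mul_inv_rev]
          simp only [hl0i, ← mul_assoc]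
          rw [mul_assoc x (ev 0), hl2, mul_one, mul_assoc (x * n) (ev 0), hl2, mul_one]
        rw [e]
        exact hD _ hsw _ hx
    refine ⟨fun n hn x => ?_⟩
    rw [Subgroup.sup_eq_closure] at hn
    induction hn using Subgroup.closure_induction with
    | mem y hy => exact hgen y hy x
    | one => simp
    | mul y z _ _ ihy ihz =>
      have := mul_mem ihy ihz
      simpa [mul_assoc] using this
    | inv y _ ih =>
      have := inv_mem ih
      simpa [mul_assoc] using this
  have hSD : N ⊔ N' = D := le_antisymm (sup_le hND hN'D)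
    (commutator_le _ fun h => hne (le_bot_iff.1 (h ▸ le_sup_left)))
  have hnorm : N' ≤ Subgroup.normalizer (N : Set Cfsg.Spor.Fi24) := by
    intro d hd
    rw [Subgroup.mem_normalizer_iff]
    intro n
    refine ⟨fun hn => hnormD n hn d (hN'D hd), fun hn => ?_⟩
    have := hnormD _ hn d⁻¹ (inv_mem (hN'D hd))
    simpa [mul_assoc] using this
  have hcard : Nat.card D = Nat.card N * Nat.card N' := by
    rw [← Nat.card_prod]
    refine (Nat.card_eq_of_bijective (fun p : N × N' => (⟨(p.2 : Cfsg.Spor.Fi24) * p.1,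
      mul_mem (hN'D p.2.2) (hND p.1.2)⟩ : D)) ⟨?_, ?_⟩).symm
    · rintro ⟨a, b⟩ ⟨c, d⟩ h
      have h' : (b : Cfsg.Spor.Fi24) * a = d * c := congrArg Subtype.val h
      have e : (d : Cfsg.Spor.Fi24)⁻¹ * b = c * (a : Cfsg.Spor.Fi24)⁻¹ := by
        rw [eq_mul_inv_iff_mul_eq, mul_assoc, h', inv_mul_cancel_left]
      have hm : (d : Cfsg.Spor.Fi24)⁻¹ * b ∈ N ⊓ N' :=
        Subgroup.mem_inf.2 ⟨e ▸ mul_mem c.2 (inv_mem a.2), mul_mem (inv_mem d.2) b.2⟩
      rw [hMbot, Subgroup.mem_bot, inv_mul_eq_one] at hm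
      rw [hm, mul_right_inj] at h'
      exact Prod.ext (Subtype.ext h') (Subtype.ext hm.symm)
    · rintro ⟨x, hx⟩
      have hx' : x ∈ ((N' : Set Cfsg.Spor.Fi24) * (N : Set Cfsg.Spor.Fi24)) := by
        rw [← Subgroup.coe_mul_of_left_le_normalizer_right N' N hnorm, sup_comm, hSD]
        exact hx
      obtain ⟨u, hu, v, hv, e⟩ := Set.mem_mul.1 hx'
      exact ⟨(⟨v, hv⟩, ⟨u, hu⟩), Subtype.ext e⟩
  have hNN' : Nat.card N' = Nat.card N := by
    refine Nat.card_congr (Equiv.mk (fun n => ⟨_, (hmem' n.1).1 n.2⟩) (fun n => ⟨_, hswap n.1 n.2⟩) ?_ ?_)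
    · intro n
      apply Subtype.ext
      simp only [hl0i, ← mul_assoc, hl2, one_mul]
      rw [mul_assoc, hl2, mul_one]
    · intro n
      apply Subtype.ext
      simp only [hl0i, ← mul_assoc, hl2, one_mul]
      rw [mul_assoc, hl2, mul_one]
  have hc : Nat.card D = 1255205709190661721292800 := card_fi24'
  rw [hc, hNN'] at hcard
  have h29 : 29 ∣ Nat.card N := (Nat.Prime.dvd_mul (by norm_num)).1 (hcard ▸ (by norm_num : 29 ∣ 1255205709190661721292800)) |>.elim id id
  exact absurd (hcard ▸ Nat.mul_dvd_mul h29 h29) (by norm_num)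

/-- The commutator subgroup of the presented group is Fi24'. -/
theorem isFi24' : Cfsg.IsFi24' Cfsg.Spor.Fi24' := ⟨simple, card_fi24'⟩

end CfsgLib.Presented.Fi24Simple
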