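import Cfsg.Agent.Lib.Presented.Coset

/-!
Upper bounds for orders: chains of coset enumerations inside a group.
-/
set_option autoImplicit false

namespace CfsgLib.Presented

variable {G : Type*} [Group G]

theorem evW_map (ev : ℕ → G) (f : ℕ → ℕ) (w : List ℕ) : evW ev (w.map f) = evW (fun x => ev (f x)) w := by
  simp [evW, List.map_map, Function.comp_def]

/-- The value of a sub-alphabet: letters are renamed by the table `emb`. -/
def subEv (ev : ℕ → G) (eps : ℕ) (emb : List ℕ) (x : ℕ) : G := ev (emb.getD x eps)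

/-- A finite index bound with a finite bottom bounds the order. -/
theorem card_le_mul {H K : Subgroup G} {m n : ℕ} (hHK : H ≤ K) (hH : Nat.card H ≠ 0 ∧ Nat.card H ≤ m)
    (hi : H.relIndex K ≠ 0 ∧ H.relIndex K ≤ n) : Nat.card K ≠ 0 ∧ Nat.card K ≤ n * m := by
  have h : Nat.card H * H.relIndex K = Nat.card K := by
    rw [← Nat.card_congr (Subgroup.subgroupOfEquivOfLe hHK).toEquiv]
    exact (H.subgroupOf K).card_mul_index
  rw [← h]
  exact ⟨mul_ne_zero hH.1 hi.1, by rw [mul_comm]; exact Nat.mul_le_mul hi.2 hH.2⟩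

/-- The subgroup generated by some letters. -/
def genBy (ev : ℕ → G) (l : List ℕ) : Subgroup G := Subgroup.closure (ev '' {x | x ∈ l})

theorem genBy_mono (ev : ℕ → G) {l l' : List ℕ} (h : ∀ x ∈ l, x ∈ l') : genBy ev l ≤ genBy ev l' :=
  Subgroup.closure_mono (Set.image_mono fun x hx => h x hx)

theorem genBy_nil (ev : ℕ → G) : genBy ev [] = ⊥ := by simp [genBy]

theorem mem_genBy (ev : ℕ → G) {l : List ℕ} {x : ℕ} (h : x ∈ l) : ev x ∈ genBy ev l :=
  Subgroup.subset_closure ⟨x, h, rfl⟩

/-- An index bound between subgroups generated by letters, from a certificate on a sub-alphabet. -/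
theorem relIndex_le_of_subCert {ev : ℕ → G} {A : Alphabet} {C : VCert} {emb K : List ℕ} {H : Subgroup G}
    (hok : C.ok = true) (hone : ev A.eps = 1) (hinv : ∀ x, x < A.eps → ev (A.invl x) * ev x = 1)
    (hemb : ((List.range C.R.A.eps).all fun x => Nat.blt (emb.getD x A.eps) A.eps &&
      Nat.beq (emb.getD (C.R.A.invl x) A.eps) (A.invl (emb.getD x A.eps))) = true)
    (hlen : emb.getD C.R.A.eps A.eps = A.eps) (hK : ∀ y ∈ K, ∃ x, x < C.R.A.eps ∧ emb.getD x A.eps = y)
    (hrels : ∀ w ∈ C.rels, evW (subEv ev A.eps emb) w = 1)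
    (hsubs : ∀ w ∈ C.subs, evW (subEv ev A.eps emb) w ∈ H) :
    H.relIndex (genBy ev K) ≠ 0 ∧ H.relIndex (genBy ev K) ≤ C.R.N := by
  simp only [List.all_eq_true, List.mem_range, Bool.and_eq_true, Nat.blt_eq] at hemb
  refine VCert.relIndex_le hok (ev := subEv ev A.eps emb) ?_ ?_ hrels hsubs ?_
  · rw [subEv, hlen, hone]
  · intro x hx
    rw [subEv, subEv, Nat.eq_of_beq_eq_true (hemb x hx).2]
    exact hinv _ (hemb x hx).1
  · rw [genBy, Subgroup.closure_le]
    rintro _ ⟨y, hy, rfl⟩
    obtain ⟨x, hx, rfl⟩ := hK y hy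
    exact Subgroup.subset_closure ⟨x, hx, rfl⟩

/-- An index bound from a certificate on all of the letters. -/
theorem relIndex_top_le {ev : ℕ → G} {C : VCert} {H : Subgroup G} (hok : C.ok = true) (hone : ev C.R.A.eps = 1)
    (hinv : ∀ x, x < C.R.A.eps → ev (C.R.A.invl x) * ev x = 1) (hrels : ∀ w ∈ C.rels, evW ev w = 1)
    (hsubs : ∀ w ∈ C.subs, evW ev w ∈ H) (hgen : Subgroup.closure (ev '' Set.Iio C.R.A.eps) = ⊤) :
    H.relIndex (⊤ : Subgroup G) ≠ 0 ∧ H.relIndex (⊤ : Subgroup G) ≤ C.R.N :=
  VCert.relIndex_le hok hone hinv hrels hsubs hgen.ge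

/-- Equal bounds from both sides give the order and faithfulness. -/
theorem card_eq_and_injective {P : Type*} [Group P] [Finite P] (φ : G →* P) {n : ℕ}
    (hup : Nat.card G ≠ 0 ∧ Nat.card G ≤ n) (hlow : n ≤ Nat.card φ.range) :
    Nat.card G = n ∧ Function.Injective φ := by
  have hle : Nat.card φ.range ≤ Nat.card G := by
    have : Finite G := Nat.finite_of_card_ne_zero hup.1
    exact Nat.card_le_card_of_surjective φ.rangeRestrict φ.rangeRestrict_surjective
  have hcard : Nat.card G = n := by omega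
  refine ⟨hcard, ?_⟩
  have : Finite G := Nat.finite_of_card_ne_zero hup.1
  have hbij : Function.Bijective φ.rangeRestrict :=
    φ.rangeRestrict_surjective.bijective_of_nat_card_le (by omega)
  intro a b h
  exact hbij.1 (Subtype.ext h)

/-- Trivial subgroup is bounded by 1. -/
theorem card_bot_le (ev : ℕ → G) : Nat.card (genBy ev []) ≠ 0 ∧ Nat.card (genBy ev []) ≤ 1 := by
  rw [genBy_nil, Subgroup.card_bot]
  exact ⟨one_ne_zero, le_refl _⟩

/-- Passing a bound to the whole group. -/
theorem card_top_le {K : Subgroup G} {m n : ℕ} (hK : Nat.card K ≠ 0 ∧ Nat.card K ≤ m)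
    (hi : K.relIndex (⊤ : Subgroup G) ≠ 0 ∧ K.relIndex (⊤ : Subgroup G) ≤ n) :
    Nat.card G ≠ 0 ∧ Nat.card G ≤ n * m := by
  have := card_le_mul le_top hK hi
  rwa [Subgroup.card_top] at this

/-- Relations of a sub-alphabet from a list of known relations. -/
theorem rels_of_check {ev : ℕ → G} {A : Alphabet} {emb : List ℕ} {rels known : List (List ℕ)}
    (hknown : ∀ w ∈ known, evW ev w = 1)
    (h : (rels.all fun w => known.contains (w.map fun x => emb.getD x A.eps)) = true) :
    ∀ w ∈ rels, evW (subEv ev A.eps emb) w = 1 := by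
  simp only [List.all_eq_true, List.contains_iff_mem] at h
  intro w hw
  have := hknown _ (h w hw)
  rwa [evW_map] at this

/-- Membership of words in a subgroup generated by letters, or among known words. -/
theorem subs_of_check {ev : ℕ → G} {A : Alphabet} {emb l : List ℕ} {subs seeds : List (List ℕ)}
    (hseeds : ∀ w ∈ seeds, evW (subEv ev A.eps emb) w ∈ genBy ev l)
    (h : (subs.all fun w => w.all (fun x => l.contains (emb.getD x A.eps)) || seeds.contains w) = true) :
    ∀ w ∈ subs, evW (subEv ev A.eps emb) w ∈ genBy ev l := by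
  simp only [List.all_eq_true, List.contains_iff_mem, Bool.or_eq_true] at h
  intro w hw
  rcases h w hw with h' | h'
  · refine list_prod_mem ?_
    intro g hg
    obtain ⟨x, hx, rfl⟩ := List.mem_map.1 hg
    exact mem_genBy ev (h' x hx)
  · exact hseeds w h'

/-- A fact list on a sub-alphabet, read on the cosets of a subgroup. -/
theorem Enum.interp_sub {ev : ℕ → G} {A : Alphabet} {E : Enum} {emb : List ℕ} {H : Subgroup G}
    (hone : ev A.eps = 1) (hinv : ∀ x, x < A.eps → ev (A.invl x) * ev x = 1)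
    (hemb : ((List.range E.A.eps).all fun x => Nat.blt (emb.getD x A.eps) A.eps &&
      Nat.beq (emb.getD (E.A.invl x) A.eps) (A.invl (emb.getD x A.eps))) = true)
    (hlen : emb.getD E.A.eps A.eps = A.eps) (hrels : ∀ w ∈ E.rels, evW (subEv ev A.eps emb) w = 1)
    (hsubs : ∀ w ∈ E.subs, evW (subEv ev A.eps emb) w ∈ H) :
    E.Interp (subEv ev A.eps emb) ((1 : G) : G ⧸ H) := by
  simp only [List.all_eq_true, List.mem_range, Bool.and_eq_true, Nat.blt_eq] at hemb
  refine ⟨?_, ?_, hrels, fun w hw => ?_⟩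
  · rw [subEv, hlen, hone]
  · intro x hx
    rw [subEv, subEv, Nat.eq_of_beq_eq_true (hemb x hx).2]
    exact hinv _ (hemb x hx).1
  · rw [MulAction.Quotient.smul_coe, smul_eq_mul, mul_one, QuotientGroup.eq]
    simpa using hsubs w hw

/-- An element fixing the base coset lies in the subgroup. -/
theorem mem_of_fix {H : Subgroup G} {g : G} (h : g • ((1 : G) : G ⧸ H) = ((1 : G) : G ⧸ H)) : g ∈ H := by
  rw [MulAction.Quotient.smul_coe, smul_eq_mul, mul_one, QuotientGroup.eq, mul_one] at h
  exact H.inv_mem_iff.1 h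

/-- A subgroup generated by one-letter words. -/
theorem closure_letters_eq (ev : ℕ → G) (l : List ℕ) :
    Subgroup.closure ((fun w => evW ev w) '' {w | w ∈ l.map fun x => [x]}) = genBy ev l := by
  rw [genBy]
  congr 1
  ext g
  simp [evW]

end CfsgLib.Presented
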