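import Cfsg.Agent.Lib.Presented.Fi22OCosets
import Cfsg.Agent.Lib.Presented.Cert.Fi22ASeed
import Cfsg.Agent.Lib.Presented.Cert.Fi22ACert
import Cfsg.Agent.Lib.Presented.Cert.Fi22BCert
import Cfsg.Agent.Lib.Presented.Cert.Fi22CCert
import Cfsg.Agent.Lib.Presented.Cert.Fi22Low
import Cfsg.Agent.Lib.Presented.Order
import Cfsg.Agent.Lib.Presented.Fi22UCosets

/-!
The order of the presented Fischer group on 22 letters.
-/
set_option autoImplicit false
set_option maxRecDepth 8000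

namespace CfsgLib.Presented.Fi22Order

open Fi22OCosets (ev ev_one ev_inv rels_hold gen_top phi phi_ev rep_valid)

theorem indexA_seed : evW (subEv ev Fi22OCert.alphabet.eps [1, 2, 3, 4, 5, 6, 7, 8]) [7, 6, 2, 1, 0, 3, 2, 1, 4, 3, 2, 6, 2, 1, 3, 2, 4, 7, 6, 2, 3, 1, 2, 6, 7, 2, 3, 0, 1, 2, 6, 2, 3, 4, 1, 2, 3, 0, 1, 2, 6, 7] ∈ genBy ev [1, 2, 3, 4, 5, 6, 7] :=
  mem_of_fix (Fi22ASeed.loop0 (Enum.interp_sub ev_one ev_inv (by decide +kernel) (by decide +kernel)
    (rels_of_check rels_hold (by decide +kernel))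
    (subs_of_check (seeds := []) (by simp) (by decide +kernel))))

theorem indexA : (genBy ev [1, 2, 3, 4, 5, 6, 7]).relIndex (genBy ev [1, 2, 3, 4, 5, 6, 7, 8]) ≠ 0 ∧
    (genBy ev [1, 2, 3, 4, 5, 6, 7]).relIndex (genBy ev [1, 2, 3, 4, 5, 6, 7, 8]) ≤ Fi22ACert.cert.R.N :=
  relIndex_le_of_subCert (A := Fi22OCert.alphabet) (emb := [1, 2, 3, 4, 5, 6, 7, 8]) Fi22ACert.cert_ok ev_one ev_inv (by decide +kernel)
    (by decide +kernel) (by decide +kernel) (rels_of_check rels_hold (by decide +kernel))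
    (subs_of_check (seeds := [[7, 6, 2, 1, 0, 3, 2, 1, 4, 3, 2, 6, 2, 1, 3, 2, 4, 7, 6, 2, 3, 1, 2, 6, 7, 2, 3, 0, 1, 2, 6, 2, 3, 4, 1, 2, 3, 0, 1, 2, 6, 7]]) (fun w hw => List.mem_singleton.1 hw ▸ indexA_seed) (by decide +kernel))

theorem indexB : (genBy ev [1, 2, 3, 4, 5, 6]).relIndex (genBy ev [1, 2, 3, 4, 5, 6, 7]) ≠ 0 ∧
    (genBy ev [1, 2, 3, 4, 5, 6]).relIndex (genBy ev [1, 2, 3, 4, 5, 6, 7]) ≤ Fi22BCert.cert.R.N :=
  relIndex_le_of_subCert (A := Fi22OCert.alphabet) (emb := [1, 2, 3, 4, 5, 6, 7]) Fi22BCert.cert_ok ev_one ev_inv (by decide +kernel)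
    (by decide +kernel) (by decide +kernel) (rels_of_check rels_hold (by decide +kernel))
    (subs_of_check (seeds := []) (by simp) (by decide +kernel))

theorem indexC : (genBy ev []).relIndex (genBy ev [1, 2, 3, 4, 5, 6]) ≠ 0 ∧
    (genBy ev []).relIndex (genBy ev [1, 2, 3, 4, 5, 6]) ≤ Fi22CCert.cert.R.N :=
  relIndex_le_of_subCert (A := Fi22OCert.alphabet) (emb := [1, 2, 3, 4, 5, 6]) Fi22CCert.cert_ok ev_one ev_inv (by decide +kernel)
    (by decide +kernel) (by decide +kernel) (rels_of_check rels_hold (by decide +kernel))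
    (subs_of_check (seeds := []) (by simp) (by decide +kernel))

theorem indexTop : (genBy ev [1, 2, 3, 4, 5, 6, 7, 8]).relIndex ⊤ ≠ 0 ∧
    (genBy ev [1, 2, 3, 4, 5, 6, 7, 8]).relIndex ⊤ ≤ Fi22OCert.cert.R.N := by
  have e : Fi22OCosets.H = genBy ev [1, 2, 3, 4, 5, 6, 7, 8] := Fi22OCosets.H_eq.trans (closure_letters_eq ev [1, 2, 3, 4, 5, 6, 7, 8])
  rw [← e]
  exact relIndex_top_le Fi22OCert.cert_ok ev_one ev_inv rels_hold Fi22OCosets.subs_mem gen_top

theorem card_le : Nat.card Cfsg.Spor.Fi22 ≠ 0 ∧ Nat.card Cfsg.Spor.Fi22 ≤ 64561751654400 :=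
  card_top_le (card_le_mul (genBy_mono ev (by decide)) (card_le_mul (genBy_mono ev (by decide)) (card_le_mul (genBy_mono ev (by decide)) (card_bot_le ev) indexC) indexB) indexA) indexTop

theorem card_ge : 64561751654400 ≤ Nat.card Fi22UCosets.phi.range :=
  Fi22Low.levels_prod.symm.le.trans (chainProd_le_card_range Fi22UCosets.rep_valid Fi22Low.rep_valid Fi22UCosets.phi Fi22UCosets.phi_ev (L := Fi22Low.level0) rfl
    Fi22Low.chain_ok (by decide +kernel))

/-- The order. -/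
theorem card_eq : Nat.card Cfsg.Spor.Fi22 = 64561751654400 := (card_eq_and_injective Fi22UCosets.phi card_le card_ge).1

theorem phi_injective : Function.Injective Fi22UCosets.phi := (card_eq_and_injective Fi22UCosets.phi card_le card_ge).2

end CfsgLib.Presented.Fi22Order
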