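import Cfsg.Prelude.Def_SporadicB
import Mathlib.GroupTheory.Complement
import Mathlib.GroupTheory.QuotientGroup.Basic

/-!
The property of being a non-split double cover is invariant under isomorphism.
-/
set_option autoImplicit false

namespace CfsgLib.Presented

theorem isNonsplitDoubleCover_of_equiv {H H' K : Type*} [Group H] [Group H'] [Group K] (e : H ≃* H')
    (h : Cfsg.IsNonsplitDoubleCover H K) : Cfsg.IsNonsplitDoubleCover H' K := by
  obtain ⟨hcard, ⟨q⟩, hns⟩ := h
  have hmap : (Subgroup.center H).map e.toMonoidHom = Subgroup.center H' := by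
    ext x
    obtain ⟨y, rfl⟩ := e.surjective x
    rw [Subgroup.mem_map_equiv, e.symm_apply_apply, Subgroup.mem_center_iff,
      Subgroup.mem_center_iff]
    constructor
    · intro hy g
      obtain ⟨g, rfl⟩ := e.surjective g
      rw [← map_mul, ← map_mul, hy g]
    · intro hy g
      exact e.injective (by rw [map_mul, map_mul, hy (e g)])
  refine ⟨?_, ⟨(QuotientGroup.congr _ _ e hmap).symm.trans q⟩, fun L hL => ?_⟩
  · rw [← hmap, Subgroup.card_map_of_injective e.injective]
    exact hcard
  · refine hns (L.comap e.toMonoidHom) ?_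
    have hbij : ∀ x : H', ∃! p : ((Subgroup.center H' : Subgroup H') : Set H') × ((L : Subgroup H') : Set H'), p.1.1 * p.2.1 = x :=
      fun x => Subgroup.isComplement_iff_existsUnique.1 hL x
    refine Subgroup.isComplement_iff_existsUnique.2 fun g => ?_
    obtain ⟨⟨⟨c, hc⟩, ⟨l, hl⟩⟩, hp, hu⟩ := hbij (e g)
    have hc' : e.symm c ∈ Subgroup.center H := by
      have : c ∈ (Subgroup.center H).map e.toMonoidHom := hmap.symm ▸ hc
      rwa [Subgroup.mem_map_equiv] at this
    refine ⟨(⟨e.symm c, hc'⟩, ⟨e.symm l, by simpa [Subgroup.mem_comap] using hl⟩),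
      e.injective (by simpa using hp), ?_⟩
    rintro ⟨⟨c', hc''⟩, ⟨l', hl'⟩⟩ hg
    have hcin : e c' ∈ Subgroup.center H' := hmap ▸ Subgroup.mem_map_of_mem _ hc''
    have := hu (⟨e c', hcin⟩, ⟨e l', hl'⟩) (by simp only [← map_mul]; exact congrArg e hg)
    have e1 : e c' = c := congrArg (fun p => p.1.1) this
    have e2 : e l' = l := congrArg (fun p => p.2.1) this
    refine Prod.ext (Subtype.ext ?_) (Subtype.ext ?_)
    · show c' = e.symm c
      rw [← e1, e.symm_apply_apply]
    · show l' = e.symm l
      rw [← e2, e.symm_apply_apply]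

end CfsgLib.Presented
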