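import Cfsg.Agent.Lib.Presented.Fi23Simple
import Mathlib.GroupTheory.GroupAction.Quotient

/-!
The class of the centre of the point stabiliser in the presented Fischer group on 23 letters is a class of
3-transpositions.
-/
set_option autoImplicit false
set_option maxRecDepth 8000
set_option Elab.async false

namespace CfsgLib.Presented.Fi23Transpositions

open Fi23Cosets (ev ev_one ev_inv rels_hold gen_top phi phi_ev rep_valid)
open Fi23Simple (zw zw_mem zw_ne toFi22 toFi22_eq_one psi_zw card_ker ker_le_center)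

/-- the transposition -/
noncomputable abbrev z : Cfsg.Spor.Fi23 := evW ev zw

theorem z_comm {h : Cfsg.Spor.Fi23} (hh : h ∈ Fi23Cosets.H) : h * z = z * h := by
  have hc := Subgroup.mem_center_iff.1 (ker_le_center (toFi22_eq_one.2 psi_zw : (⟨_, zw_mem⟩ : Fi23Cosets.H) ∈ toFi22.ker))
    ⟨h, hh⟩
  exact congrArg Subtype.val hc

theorem z_sq : z * z = 1 := by
  have h2 : ((⟨⟨_, zw_mem⟩, toFi22_eq_one.2 psi_zw⟩ : toFi22.ker)) ^ Nat.card toFi22.ker = 1 := pow_card_eq_one'
  rw [card_ker, sq] at h2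
  exact congrArg (fun q : toFi22.ker => ((q : Fi23Cosets.H) : Cfsg.Spor.Fi23)) h2

theorem orderOf_z : orderOf z = 2 := by
  have : Fact (Nat.Prime 2) := ⟨Nat.prime_two⟩
  exact orderOf_eq_prime (by rw [pow_two]; exact z_sq) zw_ne

theorem phi_word {w : List ℕ} (hw : (w.all fun x => Nat.blt x Fi23Cert.rep.A.eps) = true) :
    phi (evW ev w) = evW (Fi23Cert.rep.perm rep_valid) w := by
  simp only [List.all_eq_true, Nat.blt_eq] at hw
  simp only [evW, map_list_prod, List.map_map]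
  exact congrArg List.prod (List.map_congr_left fun x hx => phi_ev x (hw x hx))

theorem inv_word : ∀ {w : List ℕ}, (w.all fun x => Nat.blt x Fi23Cert.alphabet.eps) = true →
    (evW ev w)⁻¹ = evW ev w.reverse
  | [], _ => by simp
  | x :: w, h => by
    rw [List.all_cons, Bool.and_eq_true, Nat.blt_eq] at h
    rw [List.reverse_cons, evW_append, evW_cons, evW_cons, evW_nil, mul_one, mul_inv_rev, inv_word h.2,
      inv_eq_of_mul_eq_one_left (Fi23Simple.sq_one h.1)]

/-- a word to the point 1 -/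
def rB : List ℕ := [7]

/-- a word to the point 52 -/
def rA : List ℕ := [7, 6, 5, 4, 3, 8, 2, 3, 4, 5, 6, 7]

/-- the word of `z * (r * z * r⁻¹)` -/
def uw (r : List ℕ) : List ℕ := zw ++ r ++ zw ++ r.reverse

theorem evW_uw {r : List ℕ} (hr : (r.all fun x => Nat.blt x Fi23Cert.alphabet.eps) = true) :
    evW ev (uw r) = z * (evW ev r * z * (evW ev r)⁻¹) := by
  rw [uw, evW_append, evW_append, evW_append, inv_word hr]
  simp only [mul_assoc]

theorem pow_eq_one_of_relsOK {w : List ℕ} {k : ℕ} (h : Fi23Cert.rep.relsOK [wpow w k] = true) :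
    evW ev w ^ k = 1 := by
  have h1 := Rep.evW_eq_one rep_valid h List.mem_cons_self
  rw [← evW_wpow]
  apply Fi23Order.phi_injective
  rw [map_one, phi_word ?_, h1]
  simp only [Rep.relsOK, List.all_eq_true, Bool.and_eq_true, List.mem_singleton, forall_eq] at h
  exact List.all_eq_true.2 h.1

theorem word_ne_one {w : List ℕ} {p : ℕ} (hw : (w.all fun x => Nat.blt x Fi23Cert.rep.A.eps) = true)
    (hp : p < Fi23Cert.rep.N)
    (h : (Vec.applyNet (Fi23Cert.rep.netW w) (Nat.shiftLeft 1 p)).testBit p = false) : evW ev w ≠ 1 := by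
  intro he
  have h1 := congrArg phi he
  rw [map_one, phi_word hw] at h1
  exact Fi23Simple.ne_one_of_moves rep_valid hp h h1

/-- a word fixes a bit slice of the points -/
noncomputable def fixesSlice (w : List ℕ) (s : ℕ) : Bool :=
  Vec.agreeOn Fi23Cert.rep.N (Vec.applyNet (Fi23Cert.rep.netW w) s) s

theorem relsOK_of_parts {w : List ℕ} (hw : (w.all fun x => Nat.blt x Fi23Cert.rep.A.eps) = true)
    (h1 : (((Vec.slices Fi23Cert.rep.m).drop 0).take 5).all (fixesSlice w) = true)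
    (h2 : (((Vec.slices Fi23Cert.rep.m).drop 5).take 5).all (fixesSlice w) = true)
    (h3 : ((Vec.slices Fi23Cert.rep.m).drop 10).all (fixesSlice w) = true) :
    Fi23Cert.rep.relsOK [w] = true := by
  have e : Vec.slices Fi23Cert.rep.m = ((Vec.slices Fi23Cert.rep.m).drop 0).take 5 ++
      ((((Vec.slices Fi23Cert.rep.m).drop 5).take 5) ++ (Vec.slices Fi23Cert.rep.m).drop 10) := by
    rw [List.drop_zero]
    conv_lhs => rw [← List.take_append_drop 5 (Vec.slices Fi23Cert.rep.m)]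
    congr 1
  have h : (Vec.slices Fi23Cert.rep.m).all (fixesSlice w) = true := by
    rw [e, List.all_append, List.all_append, h1, h2, h3]
    rfl
  simp only [Rep.relsOK, List.all_cons, List.all_nil, Bool.and_true, hw, Bool.true_and]
  exact h

theorem uB_pow_0 : (((Vec.slices Fi23Cert.rep.m).drop 0).take 5).all (fixesSlice (wpow (uw rB) 3)) = true := by decide +kernel

theorem uB_pow_1 : (((Vec.slices Fi23Cert.rep.m).drop 5).take 5).all (fixesSlice (wpow (uw rB) 3)) = true := by decide +kernel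

theorem uB_pow_2 : ((Vec.slices Fi23Cert.rep.m).drop 10).all (fixesSlice (wpow (uw rB) 3)) = true := by decide +kernel

theorem uB_pow : evW ev (uw rB) ^ 3 = 1 :=
  pow_eq_one_of_relsOK (relsOK_of_parts (by decide +kernel) uB_pow_0 uB_pow_1 uB_pow_2)

theorem uA_pow_0 : (((Vec.slices Fi23Cert.rep.m).drop 0).take 5).all (fixesSlice (wpow (uw rA) 2)) = true := by decide +kernel

theorem uA_pow_1 : (((Vec.slices Fi23Cert.rep.m).drop 5).take 5).all (fixesSlice (wpow (uw rA) 2)) = true := by decide +kernel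

theorem uA_pow_2 : ((Vec.slices Fi23Cert.rep.m).drop 10).all (fixesSlice (wpow (uw rA) 2)) = true := by decide +kernel

theorem uA_pow : evW ev (uw rA) ^ 2 = 1 :=
  pow_eq_one_of_relsOK (relsOK_of_parts (by decide +kernel) uA_pow_0 uA_pow_1 uA_pow_2)

theorem uB_ne : evW ev (uw rB) ≠ 1 := word_ne_one (p := 0) (by decide +kernel) (by decide +kernel) (by decide +kernel)

theorem uA_ne : evW ev (uw rA) ≠ 1 := word_ne_one (p := 1) (by decide +kernel) (by decide +kernel) (by decide +kernel)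

theorem equiv_word {w : List ℕ} {p : ℕ} (hp : p < Fi23Cert.rep.N)
    (hw : (w.all fun x => Nat.blt x Fi23Cert.rep.A.eps) = true)
    (hb : (Vec.applyNet (Fi23Cert.rep.netW w) (Nat.shiftLeft 1 p)).testBit 0 = true) :
    ((evW ev w : Cfsg.Spor.Fi23) : Cfsg.Spor.Fi23 ⧸ Fi23Cosets.H) = Fi23Cosets.equiv.symm ⟨p, hp⟩ := by
  rw [Equiv.eq_symm_apply]
  have h0 : Fi23Cosets.equiv _ = ⟨0, VCert.pos Fi23Cert.cert_ok⟩ := Fi23Cosets.exists_equiv.choose_spec.2
  have e : ((evW ev w : Cfsg.Spor.Fi23) : Cfsg.Spor.Fi23 ⧸ Fi23Cosets.H)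
      = evW ev w • ((1 : Cfsg.Spor.Fi23) : Cfsg.Spor.Fi23 ⧸ Fi23Cosets.H) := by
    rw [MulAction.Quotient.smul_coe, smul_eq_mul, mul_one]
  rw [e, Fi23Cosets.equiv_smul, h0, phi_word hw]
  apply Fin.ext
  rw [Rep.netW_perm rep_valid]
  rw [Vec.testBit_applyNet (Rep.netOk_netW rep_valid w)] at hb
  change Nat.testBit (1 <<< p) _ = true at hb
  simp [Nat.testBit_shiftLeft, Nat.testBit_one_eq_true_iff_self_eq_zero] at hb
  have : Vec.netPerm (Fi23Cert.rep.netW w) 0 = p := by omega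
  exact this

theorem orbit0_eq : Fi23Cosets.orbit0 = ((1 : Cfsg.Spor.Fi23) : Cfsg.Spor.Fi23 ⧸ Fi23Cosets.H) :=
  (Equiv.symm_apply_eq _).2 Fi23Cosets.exists_equiv.choose_spec.2.symm

theorem orbitB_eq : Fi23Cosets.orbitB = ((evW ev rB : Cfsg.Spor.Fi23) : Cfsg.Spor.Fi23 ⧸ Fi23Cosets.H) :=
  (equiv_word _ (by decide +kernel) (by decide +kernel)).symm

theorem orbitA_eq : Fi23Cosets.orbitA = ((evW ev rA : Cfsg.Spor.Fi23) : Cfsg.Spor.Fi23 ⧸ Fi23Cosets.H) :=
  (equiv_word _ (by decide +kernel) (by decide +kernel)).symm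

/-- the three double cosets -/
theorem double_cosets (g : Cfsg.Spor.Fi23) :
    ∃ h ∈ Fi23Cosets.H, ∃ r, (r = 1 ∨ r = evW ev rB ∨ r = evW ev rA) ∧ ∃ h' ∈ Fi23Cosets.H, g = h * r * h' := by
  have hfin : Finite (Cfsg.Spor.Fi23 ⧸ Fi23Cosets.H) := Finite.of_equiv _ Fi23Cosets.equiv.symm
  set U := MulAction.orbit Fi23Cosets.H Fi23Cosets.orbit0 ∪ MulAction.orbit Fi23Cosets.H Fi23Cosets.orbitB
    ∪ MulAction.orbit Fi23Cosets.H Fi23Cosets.orbitA with hU
  have hd : ∀ x y : Cfsg.Spor.Fi23 ⧸ Fi23Cosets.H,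
      (MulAction.orbit Fi23Cosets.H x).ncard ≠ (MulAction.orbit Fi23Cosets.H y).ncard →
      Disjoint (MulAction.orbit Fi23Cosets.H x) (MulAction.orbit Fi23Cosets.H y) := by
    intro x y hxy
    rw [Set.disjoint_left]
    intro q hx hy
    exact hxy (by rw [← MulAction.orbit_eq_iff.2 hx, ← MulAction.orbit_eq_iff.2 hy])
  have hcard : U.ncard = Nat.card (Cfsg.Spor.Fi23 ⧸ Fi23Cosets.H) := by
    rw [hU, Set.ncard_union_eq (by
      refine Set.disjoint_union_left.2 ⟨hd _ _ ?_, hd _ _ ?_⟩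
      · rw [Fi23Cosets.orbit0_ncard, Fi23Cosets.orbitA_ncard]; norm_num
      · rw [Fi23Cosets.orbitB_ncard, Fi23Cosets.orbitA_ncard]; norm_num) (Set.toFinite _) (Set.toFinite _),
      Set.ncard_union_eq (hd _ _ (by rw [Fi23Cosets.orbit0_ncard, Fi23Cosets.orbitB_ncard]; norm_num))
        (Set.toFinite _) (Set.toFinite _),
      Fi23Cosets.orbit0_ncard, Fi23Cosets.orbitB_ncard, Fi23Cosets.orbitA_ncard]
    exact Fi23Cosets.index_eq.symm
  have huniv : U = Set.univ := (Set.eq_univ_iff_ncard U).2 hcard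
  have hg : ((g : Cfsg.Spor.Fi23) : Cfsg.Spor.Fi23 ⧸ Fi23Cosets.H) ∈ U := by rw [huniv]; exact Set.mem_univ _
  have key : ∀ r : Cfsg.Spor.Fi23, ((g : Cfsg.Spor.Fi23) : Cfsg.Spor.Fi23 ⧸ Fi23Cosets.H) ∈
      MulAction.orbit Fi23Cosets.H ((r : Cfsg.Spor.Fi23) : Cfsg.Spor.Fi23 ⧸ Fi23Cosets.H) →
      ∃ h ∈ Fi23Cosets.H, ∃ h' ∈ Fi23Cosets.H, g = h * r * h' := by
    rintro r ⟨⟨h, hh⟩, he⟩
    have he' : ((h * r : Cfsg.Spor.Fi23) : Cfsg.Spor.Fi23 ⧸ Fi23Cosets.H) = g := he
    rw [QuotientGroup.eq] at he'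
    exact ⟨h, hh, _, he', by rw [mul_inv_cancel_left]⟩
  rcases hg with (h | h) | h
  · rw [orbit0_eq] at h
    obtain ⟨a, ha, b, hb, e⟩ := key _ h
    exact ⟨a, ha, _, Or.inl rfl, b, hb, e⟩
  · rw [orbitB_eq] at h
    obtain ⟨a, ha, b, hb, e⟩ := key _ h
    exact ⟨a, ha, _, Or.inr (Or.inl rfl), b, hb, e⟩
  · rw [orbitA_eq] at h
    obtain ⟨a, ha, b, hb, e⟩ := key _ h
    exact ⟨a, ha, _, Or.inr (Or.inr rfl), b, hb, e⟩

theorem conj_z_of_double {h r h' : Cfsg.Spor.Fi23} (hh : h ∈ Fi23Cosets.H) (hh' : h' ∈ Fi23Cosets.H) :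
    (h * r * h') * z * (h * r * h')⁻¹ = h * (r * z * r⁻¹) * h⁻¹ ∧
      z * ((h * r * h') * z * (h * r * h')⁻¹) = h * (z * (r * z * r⁻¹)) * h⁻¹ := by
  have e1 : (h * r * h') * z * (h * r * h')⁻¹ = h * (r * z * r⁻¹) * h⁻¹ := by
    calc (h * r * h') * z * (h * r * h')⁻¹ = h * r * (h' * z) * h'⁻¹ * r⁻¹ * h⁻¹ := by group
      _ = h * r * (z * h') * h'⁻¹ * r⁻¹ * h⁻¹ := by rw [z_comm hh']
      _ = _ := by group
  refine ⟨e1, ?_⟩
  rw [e1]
  calc z * (h * (r * z * r⁻¹) * h⁻¹) = (z * h) * (r * z * r⁻¹) * h⁻¹ := by group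
    _ = (h * z) * (r * z * r⁻¹) * h⁻¹ := by rw [z_comm hh]
    _ = _ := by group

theorem centralizer_z : Subgroup.centralizer ({z} : Set Cfsg.Spor.Fi23) = Fi23Cosets.H := by
  refine le_antisymm (fun g hg => ?_) fun h hh => Subgroup.mem_centralizer_singleton_iff.2 (z_comm hh)
  rw [Subgroup.mem_centralizer_singleton_iff] at hg
  obtain ⟨h, hh, r, hr, h', hh', rfl⟩ := double_cosets g
  have h1 := (conj_z_of_double (r := r) hh hh').1
  rw [hg, mul_inv_cancel_right] at h1
  have h2 : r * z * r⁻¹ = z := by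
    calc r * z * r⁻¹ = h⁻¹ * (h * (r * z * r⁻¹) * h⁻¹) * h := by group
      _ = h⁻¹ * (z * h) := by rw [← h1]; group
      _ = z := by rw [← z_comm hh]; group
  rcases hr with rfl | rfl | rfl
  · simpa using Fi23Cosets.H.mul_mem hh hh'
  · exact absurd (by rw [evW_uw (by decide +kernel), h2, z_sq]) uB_ne
  · exact absurd (by rw [evW_uw (by decide +kernel), h2, z_sq]) uA_ne

theorem pow_dichotomy (g : Cfsg.Spor.Fi23) : (z * (g * z * g⁻¹)) ^ 2 = 1 ∨ (z * (g * z * g⁻¹)) ^ 3 = 1 := by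
  obtain ⟨h, hh, r, hr, h', hh', rfl⟩ := double_cosets g
  rw [(conj_z_of_double hh hh').2]
  rcases hr with rfl | rfl | rfl
  · left
    rw [conj_pow, one_mul, inv_one, mul_one, z_sq]
    group
  · right
    rw [conj_pow, ← evW_uw (by decide +kernel), uB_pow]
    group
  · left
    rw [conj_pow, ← evW_uw (by decide +kernel), uA_pow]
    group

/-- The class is a class of 3-transpositions. -/
theorem isThreeTranspositionClass : Cfsg.IsThreeTranspositionClass (conjugatesOf z) := by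
  refine ⟨⟨fun d hd => ?_, fun d hd e he => ?_⟩, ⟨z, mem_conjugatesOf_self, rfl⟩, ?_⟩
  · obtain ⟨c, rfl⟩ := isConj_iff.1 (show IsConj z _ from hd)
    rw [show c * z * c⁻¹ = MulAut.conj c z from rfl, MulEquiv.orderOf_eq]
    exact orderOf_z
  · obtain ⟨a, rfl⟩ := isConj_iff.1 (show IsConj z _ from hd)
    obtain ⟨b, rfl⟩ := isConj_iff.1 (show IsConj z _ from he)
    have e1 : a * z * a⁻¹ * (b * z * b⁻¹) = a * (z * ((a⁻¹ * b) * z * (a⁻¹ * b)⁻¹)) * a⁻¹ := by group
    rw [e1, conj_pow, conj_pow]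
    rcases pow_dichotomy (a⁻¹ * b) with h | h
    · exact Or.inl (by rw [h]; group)
    · exact Or.inr (by rw [h]; group)
  · have hs := Fi23Simple.simple
    have hn : (Subgroup.normalClosure ({z} : Set Cfsg.Spor.Fi23)).Normal := Subgroup.normalClosure_normal
    rcases hs.eq_bot_or_eq_top_of_normal _ hn with h | h
    · exact absurd (Subgroup.mem_bot.1 (h ▸ Subgroup.subset_normalClosure rfl)) zw_ne
    · rw [← h, Subgroup.normalClosure, Group.conjugatesOfSet]
      simp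

theorem card_class : Nat.card (conjugatesOf z : Set Cfsg.Spor.Fi23) = 31671 := by
  rw [← Fi23Cosets.index_eq, Subgroup.index]
  have key : ∀ a b : Cfsg.Spor.Fi23, a⁻¹ * b ∈ Fi23Cosets.H ↔ a * z * a⁻¹ = b * z * b⁻¹ := by
    intro a b
    rw [← centralizer_z, Subgroup.mem_centralizer_singleton_iff]
    constructor
    · intro h
      calc a * z * a⁻¹ = a * (z * (a⁻¹ * b)) * b⁻¹ := by group
        _ = a * ((a⁻¹ * b) * z) * b⁻¹ := by rw [h]
        _ = b * z * b⁻¹ := by group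
    · intro h
      calc a⁻¹ * b * z = a⁻¹ * (b * z * b⁻¹) * b := by group
        _ = a⁻¹ * (a * z * a⁻¹) * b := by rw [h]
        _ = z * (a⁻¹ * b) := by group
  refine (Nat.card_congr (Equiv.ofBijective
    (Quotient.lift (s := QuotientGroup.leftRel Fi23Cosets.H)
      (fun a => (⟨a * z * a⁻¹, isConj_iff.2 ⟨a, rfl⟩⟩ : (conjugatesOf z : Set Cfsg.Spor.Fi23)))
      (fun a b h => Subtype.ext ((key a b).1 (QuotientGroup.leftRel_apply.1 h)))) ⟨?_, ?_⟩)).symm
  · intro p q
    induction p using Quotient.inductionOn with | _ a =>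
    induction q using Quotient.inductionOn with | _ b =>
    intro h
    exact Quotient.sound (QuotientGroup.leftRel_apply.2 ((key a b).2 (congrArg Subtype.val h)))
  · rintro ⟨d, hd⟩
    obtain ⟨a, rfl⟩ := isConj_iff.1 (show IsConj z _ from hd)
    exact ⟨Quotient.mk _ a, rfl⟩

/-- being a nonsplit double cover passes along isomorphisms -/
theorem doubleCover_congr {H₁ H₂ K : Type*} [Group H₁] [Group H₂] [Group K] (e : H₁ ≃* H₂)
    (h : Cfsg.IsNonsplitDoubleCover H₁ K) : Cfsg.IsNonsplitDoubleCover H₂ K := by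
  obtain ⟨h1, ⟨f⟩, h3⟩ := h
  have hmap : (Subgroup.center H₁).map e.toMonoidHom = Subgroup.center H₂ := by
    ext x
    simp only [Subgroup.mem_map, Subgroup.mem_center_iff, MulEquiv.coe_toMonoidHom]
    constructor
    · rintro ⟨y, hy, rfl⟩ g
      obtain ⟨g, rfl⟩ := e.surjective g
      rw [← map_mul, ← map_mul, hy]
    · intro hx
      refine ⟨e.symm x, fun g => e.injective ?_, e.apply_symm_apply x⟩
      simpa using hx (e g)
  refine ⟨?_, ⟨(QuotientGroup.congr _ _ e hmap).symm.trans f⟩, fun L hL => h3 (L.comap e.toMonoidHom) ?_⟩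
  · rw [← hmap, ← Nat.card_congr ((Subgroup.center H₁).equivMapOfInjective e.toMonoidHom e.injective).toEquiv]
    exact h1
  · refine Subgroup.isComplement'_of_disjoint_and_mul_eq_univ ?_ ?_
    · rw [disjoint_iff, eq_bot_iff]
      intro x hx
      have hmem : e x ∈ Subgroup.center H₂ ⊓ L := ⟨hmap ▸ Subgroup.mem_map_of_mem _ hx.1, hx.2⟩
      rw [disjoint_iff.1 hL.disjoint, Subgroup.mem_bot, MulEquiv.map_eq_one_iff] at hmem
      exact Subgroup.mem_bot.2 hmem
    · refine Set.eq_univ_of_forall fun x => ?_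
      obtain ⟨⟨⟨c, hc⟩, ⟨l, hl⟩⟩, he⟩ := hL.2 (e x)
      rw [← hmap] at hc
      obtain ⟨c', hc', rfl⟩ := hc
      refine ⟨c', hc', e.symm l, by simpa using hl, ?_⟩
      apply e.injective
      simpa using he

theorem doubleCover {d : Cfsg.Spor.Fi23} (hd : d ∈ conjugatesOf z) :
    Cfsg.IsNonsplitDoubleCover (Subgroup.centralizer ({d} : Set Cfsg.Spor.Fi23)) Cfsg.Spor.Fi22 := by
  obtain ⟨a, rfl⟩ := isConj_iff.1 (show IsConj z _ from hd)
  have e : Fi23Cosets.H.map (MulAut.conj a).toMonoidHom = Subgroup.centralizer ({a * z * a⁻¹} : Set Cfsg.Spor.Fi23) := by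
    rw [← centralizer_z]
    ext x
    rw [Subgroup.mem_centralizer_singleton_iff, Subgroup.mem_map_equiv, MulAut.conj_symm_apply,
      Subgroup.mem_centralizer_singleton_iff]
    constructor
    · intro h
      calc x * (a * z * a⁻¹) = a * (a⁻¹ * x * a * z) * a⁻¹ := by group
        _ = a * (z * (a⁻¹ * x * a)) * a⁻¹ := by rw [h]
        _ = a * z * a⁻¹ * x := by group
    · intro h
      calc a⁻¹ * x * a * z = a⁻¹ * (x * (a * z * a⁻¹)) * a := by group
        _ = a⁻¹ * (a * z * a⁻¹ * x) * a := by rw [h]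
        _ = z * (a⁻¹ * x * a) := by group
  exact doubleCover_congr
    ((Fi23Cosets.H.equivMapOfInjective _ (MulAut.conj a).injective).trans (MulEquiv.subgroupCongr e))
    Fi23Simple.doubleCover

end CfsgLib.Presented.Fi23Transpositions
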