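import Cfsg.Agent.Lib.Presented.Tree
import Mathlib.Algebra.Group.Subgroup.Lattice
import Mathlib.Algebra.BigOperators.Group.List.Basic

/-!
Words in numbered letters: evaluation in a group, cancellation, rotation of relators.
-/
set_option autoImplicit false

namespace CfsgLib.Presented

variable {G : Type*} [Group G]

/-- The product of the values of the letters. -/
def evW (ev : ℕ → G) (w : List ℕ) : G := (w.map ev).prod

@[simp] theorem evW_nil (ev : ℕ → G) : evW ev [] = 1 := rfl
@[simp] theorem evW_cons (ev : ℕ → G) (x : ℕ) (w : List ℕ) : evW ev (x :: w) = ev x * evW ev w := by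
  simp [evW]
theorem evW_append (ev : ℕ → G) (u v : List ℕ) : evW ev (u ++ v) = evW ev u * evW ev v := by
  simp [evW]

/-- The alphabet: letters below `eps`, `eps` itself stands for the identity, `inv` gives inverse letters. -/
structure Alphabet where
  eps : ℕ
  inv : NTree

/-- The inverse of a letter. -/
noncomputable def Alphabet.invl (A : Alphabet) (x : ℕ) : ℕ := A.inv.get 6 x

/-- `ev` respects the alphabet. -/
structure Alphabet.Good (A : Alphabet) (ev : ℕ → G) : Prop where
  one : ev A.eps = 1
  inv : ∀ x, x ≤ A.eps → ev (A.invl x) * ev x = 1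

/-- Push a letter on a reversed word, cancelling. -/
noncomputable def push (A : Alphabet) (x : ℕ) : List ℕ → List ℕ
  | [] => cond (Nat.beq x A.eps) [] [x]
  | y :: ys => cond (Nat.beq x A.eps) (y :: ys) (cond (Nat.beq (A.invl x) y) ys (x :: y :: ys))

theorem push_ev {A : Alphabet} {ev : ℕ → G} (hA : A.Good ev) {x : ℕ} (hx : x ≤ A.eps) (acc : List ℕ) :
    evW ev (push A x acc).reverse = evW ev acc.reverse * ev x := by
  cases acc with
  | nil =>
    rw [push]
    cases h : Nat.beq x A.eps
    · simp
    · simp [Nat.eq_of_beq_eq_true h, hA.one]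
  | cons y ys =>
    rw [push]
    cases h : Nat.beq x A.eps
    · cases h' : Nat.beq (A.invl x) y
      · simp [evW_append, mul_assoc]
      · have hy := Nat.eq_of_beq_eq_true h'
        simp only [cond, List.reverse_cons, evW_append, evW_cons, evW_nil, mul_one, ← hy, mul_assoc,
          hA.inv x hx]
    · simp [Nat.eq_of_beq_eq_true h, hA.one]

/-- Push all letters of a word. -/
noncomputable def pushAll (A : Alphabet) : List ℕ → List ℕ → List ℕ
  | [], acc => acc
  | x :: xs, acc => pushAll A xs (push A x acc)

theorem pushAll_ev {A : Alphabet} {ev : ℕ → G} (hA : A.Good ev) :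
    ∀ {w : List ℕ} (acc : List ℕ), (∀ x ∈ w, x ≤ A.eps) →
      evW ev (pushAll A w acc).reverse = evW ev acc.reverse * evW ev w
  | [], acc, _ => by simp [pushAll]
  | x :: xs, acc, h => by
    rw [pushAll, pushAll_ev hA _ (fun y hy => h y (List.mem_cons_of_mem _ hy)), push_ev hA (h x List.mem_cons_self)]
    simp [mul_assoc]

/-- The inverse word. -/
noncomputable def invWord (A : Alphabet) (w : List ℕ) : List ℕ := (w.map A.invl).reverse

theorem evW_invWord {A : Alphabet} {ev : ℕ → G} (hA : A.Good ev) :
    ∀ {w : List ℕ}, (∀ x ∈ w, x ≤ A.eps) → evW ev (invWord A w) = (evW ev w)⁻¹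
  | [], _ => by simp [invWord]
  | x :: xs, h => by
    have := evW_invWord hA (fun y hy => h y (List.mem_cons_of_mem x hy))
    simp only [invWord] at this ⊢
    simp only [List.map_cons, List.reverse_cons, evW_append, evW_cons, evW_nil, mul_one, this, mul_inv_rev]
    rw [eq_inv_of_mul_eq_one_left (hA.inv x (h x List.mem_cons_self))]

theorem evW_rotate_eq_one (ev : ℕ → G) {u v : List ℕ} (h : evW ev (u ++ v) = 1) : evW ev (v ++ u) = 1 := by
  rw [evW_append] at h ⊢
  exact mul_eq_one_comm.1 h

theorem evW_flatten_replicate (ev : ℕ → G) (w : List ℕ) : ∀ n : ℕ,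
    evW ev (List.replicate n w).flatten = evW ev w ^ n
  | 0 => by simp
  | n + 1 => by rw [List.replicate_succ, List.flatten_cons, evW_append, evW_flatten_replicate ev w n, pow_succ']

/-- The power of a word. -/
def wpow (w : List ℕ) (n : ℕ) : List ℕ := (List.replicate n w).flatten

theorem evW_wpow (ev : ℕ → G) (w : List ℕ) (n : ℕ) : evW ev (wpow w n) = evW ev w ^ n :=
  evW_flatten_replicate ev w n

end CfsgLib.Presented
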