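import Cfsg.Agent.Lib.Presented.Orbit
import Mathlib.GroupTheory.GroupAction.Quotient

/-!
Lower bounds for orders of permutation groups given by networks: a descending chain of subgroups, each
fixing the point whose orbit is measured one step earlier.
-/
set_option autoImplicit false

namespace CfsgLib.Presented

open Vec

/-- One level: generators (letters), a point, its orbit (found in `rounds` rounds, of size `size`), and the
next level's generators written as words in this level's letters. -/
structure BLevel where
  gens : List ℕ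
  point : ℕ
  rounds : ℕ
  orb : ℕ
  size : ℕ
  next : List (ℕ × List ℕ)

/-- checks of one level -/
noncomputable def levelOK (R : Rep) (L : BLevel) : Bool :=
  orbitOK R (L.gens.map fun x => [x]) L.point L.rounds L.orb &&
    Nat.beq (bitCount L.orb R.N) L.size &&
    L.next.all fun d =>
      Nat.blt d.1 R.A.eps && (applyNet (R.net d.1) (Nat.shiftLeft 1 L.point)).testBit L.point &&
        d.2.all (fun z => L.gens.contains z || L.gens.contains (R.A.invl z)) &&
        R.relsOK [d.2 ++ [R.A.invl d.1]]

/-- checks of a chain -/
noncomputable def chainOK (R : Rep) : List BLevel → Bool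
  | [] => true
  | [L] => levelOK R L
  | L :: M :: rest => levelOK R L && listEq (L.next.map Prod.fst) M.gens && chainOK R (M :: rest)

/-- the bound of a chain -/
def chainProd (Ls : List BLevel) : ℕ := (Ls.map BLevel.size).prod

theorem le_natCard_of_chainOK {R : Rep} (hR : R.valid = true) :
    ∀ (Ls : List BLevel) (L : BLevel) (rest : List BLevel), Ls = L :: rest → chainOK R Ls = true →
      ∀ K : Subgroup (Equiv.Perm (Fin R.N)), (∀ x ∈ L.gens, R.perm hR x ∈ K) → chainProd Ls ≤ Nat.card K := by
  intro Ls
  induction Ls with
  | nil => intro L rest h; exact absurd h (by simp)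
  | cons L0 tl ih =>
    intro L rest h hok K hK
    obtain ⟨rfl, rfl⟩ : L0 = L ∧ tl = rest := List.cons.inj h
    have hlev : levelOK R L0 = true := by
      cases tl with
      | nil => exact hok
      | cons M r => simp only [chainOK, Bool.and_eq_true] at hok; exact hok.1.1
    simp only [levelOK, Bool.and_eq_true, List.all_eq_true] at hlev
    obtain ⟨⟨horb, hsize⟩, hnext⟩ := hlev
    let K0 : Subgroup (Equiv.Perm (Fin R.N)) :=
      Subgroup.closure ((fun w => evW (R.perm hR) w) '' {w | w ∈ L0.gens.map fun x => [x]})
    have hle : K0 ≤ K := by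
      rw [Subgroup.closure_le]
      rintro _ ⟨w, hw, rfl⟩
      obtain ⟨x, hx, rfl⟩ := List.mem_map.1 hw
      simpa using hK x hx
    have hi : L0.point < R.N := by
      simp only [orbitOK, Bool.and_eq_true, Nat.blt_eq] at horb
      exact horb.1.1
    have horbit := orbit_eq_of_ok hR horb (ev := R.perm hR) (MonoidHom.id _) (fun x _ => rfl)
      (H := K0) rfl hi
    have hsz : (MulAction.orbit K0 (⟨L0.point, hi⟩ : Fin R.N)).ncard = L0.size := by
      rw [← Nat.eq_of_beq_eq_true hsize, bitCount_eq, ← Set.ncard_coe_finset]
      refine Set.ncard_congr (fun q _ => (q : ℕ)) ?_ (fun p q _ _ h => Fin.ext h) ?_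
      · intro q hq
        obtain ⟨⟨h, hh⟩, rfl⟩ := hq
        have := (horbit (h ⟨L0.point, hi⟩)).1 ⟨h, hh, rfl⟩
        simp only [Finset.coe_filter, Finset.mem_range]
        exact ⟨(h ⟨L0.point, hi⟩).2, this⟩
      · intro k hk
        simp only [Finset.coe_filter, Finset.mem_range] at hk
        obtain ⟨h, hh, he⟩ := (horbit ⟨k, hk.1⟩).2 hk.2
        exact ⟨⟨k, hk.1⟩, ⟨⟨h, hh⟩, he⟩, rfl⟩
    let S := MulAction.stabilizer K0 (⟨L0.point, hi⟩ : Fin R.N)
    have hindex : S.index = L0.size := (MulAction.index_stabilizer K0 _).trans hsz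
    have hrest : chainProd tl ≤ Nat.card S := by
      cases tl with
      | nil => exact Nat.card_pos
      | cons M r =>
        simp only [chainOK, Bool.and_eq_true] at hok
        have hg := listEq_eq hok.1.2
        refine (ih M r rfl hok.2 (S.map K0.subtype) ?_).trans_eq
          (Subgroup.card_map_of_injective K0.subtype_injective)
        intro y hy
        rw [← hg] at hy
        obtain ⟨d, hd, rfl⟩ := List.mem_map.1 hy
        obtain ⟨⟨⟨hlt, hfix⟩, hletters⟩, hrel⟩ := hnext d hd
        rw [Nat.blt_eq] at hlt
        simp only [List.all_eq_true, Bool.or_eq_true, List.contains_iff_mem] at hletters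
        have hgood := Rep.perm_good hR
        have hinK : ∀ z ∈ L0.gens, R.perm hR z ∈ K0 := fun z hz =>
          Subgroup.subset_closure ⟨[z], List.mem_map.2 ⟨z, hz, rfl⟩, by simp⟩
        have hzle : ∀ z ∈ d.2, z ≤ R.A.eps := by
          have h2 := hrel
          simp only [Rep.relsOK, List.all_eq_true, Bool.and_eq_true] at h2
          intro z hz
          have h3 := (h2 (d.2 ++ [R.A.invl d.1]) (by simp)).1 z (List.mem_append.2 (Or.inl hz))
          rw [Nat.blt_eq] at h3
          exact h3.le
        have hy1 : evW (R.perm hR) d.2 = R.perm hR d.1 := by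
          have h1 := Rep.evW_eq_one hR hrel (w := d.2 ++ [R.A.invl d.1]) (by simp)
          rw [evW_append, evW_cons, evW_nil, mul_one] at h1
          rw [eq_inv_of_mul_eq_one_left h1, eq_inv_of_mul_eq_one_left (hgood.inv d.1 hlt.le), inv_inv]
        have hy0 : R.perm hR d.1 ∈ K0 := by
          rw [← hy1]
          refine list_prod_mem ?_
          intro g hg
          obtain ⟨z, hz, rfl⟩ := List.mem_map.1 hg
          rcases hletters z hz with h | h
          · exact hinK z h
          · have hinv := hgood.inv z (hzle z hz)
            rw [eq_inv_of_mul_eq_one_right hinv]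
            exact K0.inv_mem (hinK _ h)
        refine ⟨⟨R.perm hR d.1, hy0⟩, MulAction.mem_stabilizer_iff.2 (Fin.ext ?_), rfl⟩
        show ((R.perm hR d.1) ⟨L0.point, hi⟩ : ℕ) = L0.point
        rw [Rep.perm_val]
        rw [testBit_applyNet ((Rep.valid_spec hR).2.2.1 d.1)] at hfix
        change Nat.testBit (1 <<< L0.point) _ = true at hfix
        rw [Nat.testBit_shiftLeft, Bool.and_eq_true, decide_eq_true_eq] at hfix
        have := VCert.one_bit hfix.2
        have hf1 := hfix.1
        simp only
        omega
    calc chainProd (L0 :: tl) = L0.size * chainProd tl := by simp [chainProd]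
      _ ≤ L0.size * Nat.card S := Nat.mul_le_mul_left _ hrest
      _ = Nat.card K0 := by rw [← hindex, mul_comm]; exact S.card_mul_index
      _ ≤ Nat.card K := Subgroup.card_le_of_le hle

/-- A chain on an extended alphabet bounds the image of a representation of the first letters. -/
theorem chainProd_le_card_range {G : Type*} [Group G] {R : Rep} (hR : R.valid = true) {A' : Alphabet}
    {new : List (List Stage)} (hR' : (Rep.mk A' R.m R.N (R.nets ++ new)).valid = true)
    (φ : G →* Equiv.Perm (Fin R.N)) {ev : ℕ → G} (hφ : ∀ x, x < R.A.eps → φ (ev x) = R.perm hR x)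
    {Ls : List BLevel} {L : BLevel} {rest : List BLevel} (hLs : Ls = L :: rest)
    (hok : chainOK (Rep.mk A' R.m R.N (R.nets ++ new)) Ls = true)
    (hgens : (L.gens.all fun x => Nat.blt x R.A.eps) = true) : chainProd Ls ≤ Nat.card φ.range := by
  refine le_natCard_of_chainOK hR' Ls L rest hLs hok φ.range fun x hx => ⟨ev x, ?_⟩
  have hlt : x < R.A.eps := by
    have := List.all_eq_true.1 hgens x hx
    rwa [Nat.blt_eq] at this
  rw [hφ x hlt]
  refine Equiv.ext fun i => Fin.ext ?_
  rw [Rep.perm_val]
  refine Eq.trans ?_ (Rep.perm_val hR' x i).symm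
  have e : (Rep.mk A' R.m R.N (R.nets ++ new)).net x = R.net x := by
    simp only [Rep.net]
    exact List.getD_append _ _ _ _ ((Rep.valid_spec hR).2.2.2.1 ▸ hlt)
  rw [e]

end CfsgLib.Presented
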