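import Mathlib.GroupTheory.GroupAction.Basic

/-!
Lookup structures for kernel computation: packed tables of natural numbers and small trees of data.
-/
set_option autoImplicit false

namespace CfsgLib.Presented

/-- A binary tree whose leaves are natural numbers holding a packed block of entries. -/
inductive NTree
  | leaf (v : ℕ)
  | node (l r : NTree)

/-- The entry `n` (low bits choose the branch, the rest is the position inside the leaf; `w` bits per entry). -/
noncomputable def NTree.get (w : ℕ) (t : NTree) : ℕ → ℕ :=
  NTree.rec (motive := fun _ => ℕ → ℕ)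
    (fun v n => Nat.mod (Nat.shiftRight v (Nat.mul n w)) (Nat.pow 2 w))
    (fun _ _ il ir n =>
      Bool.rec (motive := fun _ => ℕ) (ir (Nat.div n 2)) (il (Nat.div n 2)) (Nat.beq (Nat.mod n 2) 0)) t

/-- A binary tree of data. -/
inductive ATree (α : Type)
  | leaf (v : α)
  | node (l r : ATree α)

variable {α : Type}

/-- The entry `n`. -/
noncomputable def ATree.get (t : ATree α) : ℕ → α :=
  ATree.rec (motive := fun _ => ℕ → α) (fun v _ => v)
    (fun _ _ il ir n =>
      Bool.rec (motive := fun _ => α) (ir (Nat.div n 2)) (il (Nat.div n 2)) (Nat.beq (Nat.mod n 2) 0)) t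

/-- All entries satisfy a test. -/
def ATree.all (p : α → Bool) : ATree α → Bool
  | .leaf v => p v
  | .node l r => l.all p && r.all p

theorem ATree.all_get {p : α → Bool} : ∀ {t : ATree α}, t.all p = true → ∀ n, p (t.get n) = true
  | .leaf _, h, _ => h
  | .node l r, h, n => by
    simp only [ATree.all, Bool.and_eq_true] at h
    show p (Bool.rec (r.get _) (l.get _) (Nat.beq (Nat.mod n 2) 0)) = true
    cases Nat.beq (Nat.mod n 2) 0
    · exact ATree.all_get h.2 _
    · exact ATree.all_get h.1 _

/-- Equality of lists of numbers, cheap for the kernel. -/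
def listEq : List ℕ → List ℕ → Bool
  | [], [] => true
  | a :: as, b :: bs => Nat.beq a b && listEq as bs
  | _, _ => false

theorem listEq_eq : ∀ {a b : List ℕ}, listEq a b = true → a = b
  | [], [], _ => rfl
  | [], _ :: _, h => by simp [listEq] at h
  | _ :: _, [], h => by simp [listEq] at h
  | a :: as, b :: bs, h => by
    simp only [listEq, Bool.and_eq_true] at h
    rw [Nat.eq_of_beq_eq_true h.1, listEq_eq h.2]

end CfsgLib.Presented
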