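import Mathlib.Logic.Equiv.Basic
import Mathlib.Algebra.BigOperators.Group.List.Basic
import Mathlib.Algebra.Group.End
import Mathlib.Data.Nat.Bitwise

/-!
Bit vectors as natural numbers, moved around by networks of delta swaps.
-/
set_option autoImplicit false

namespace CfsgLib.Presented.Vec

/-- A delta swap: exchange positions `i` and `i + d` for the bits `i` of `mask`. -/
structure Stage where
  d : ℕ
  mask : ℕ

/-- no position takes part twice -/
def Stage.ok (s : Stage) : Bool := Nat.beq (Nat.land s.mask (Nat.shiftLeft s.mask s.d)) 0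

/-- position `i` is really swapped with `i + d` -/
def Stage.act (s : Stage) (i : ℕ) : Bool :=
  s.mask.testBit i && !(decide (s.d ≤ i) && s.mask.testBit (i - s.d)) && !s.mask.testBit (i + s.d)

/-- the exchange -/
def Stage.swp (s : Stage) (i : ℕ) : ℕ :=
  if s.act i then i + s.d else if s.d ≤ i ∧ s.act (i - s.d) then i - s.d else i

theorem Stage.swp_involutive (s : Stage) : Function.Involutive s.swp := by
  intro i
  by_cases h1 : s.act i = true
  · have e : s.swp i = i + s.d := by simp [Stage.swp, h1]
    rw [e]
    have h2 : s.act (i + s.d) = false := by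
      simp only [Stage.act, Bool.and_eq_true, Bool.not_eq_true', Bool.and_eq_false_imp] at h1 ⊢
      intro h; rw [h1.2] at h; simp at h
    simp [Stage.swp, h2, h1]
  · by_cases h2 : s.d ≤ i ∧ s.act (i - s.d) = true
    · have e : s.swp i = i - s.d := by simp [Stage.swp, h1, h2]
      rw [e, Stage.swp, if_pos h2.2]
      omega
    · have e : s.swp i = i := by simp [Stage.swp, h1, h2]
      rw [e, e]

/-- the permutation of a stage -/
def Stage.perm (s : Stage) : Equiv.Perm ℕ := s.swp_involutive.toPerm s.swp

/-- evaluate a number before continuing (this only matters for the kernel) -/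
noncomputable def force {α : Sort*} (v : ℕ) (f : ℕ → α) : α :=
  Nat.rec (motive := fun _ => α) (f 0) (fun _ _ => f v) v

theorem force_eq {α : Sort*} (v : ℕ) (f : ℕ → α) : force v f = f v := by cases v <;> rfl

/-- the effect of a stage on a bit vector -/
noncomputable def Stage.apply (s : Stage) (v : ℕ) : ℕ :=
  Stage.rec (motive := fun _ => ℕ) (fun d mask =>
    force (Nat.land (Nat.xor v (Nat.shiftRight v d)) mask) fun t => Nat.xor (Nat.xor v t) (Nat.shiftLeft t d)) s

theorem Stage.mask_disjoint {s : Stage} (h : s.ok = true) (i : ℕ) (hi : s.mask.testBit i = true) :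
    s.mask.testBit (i + s.d) = false := by
  have h0 : s.mask &&& (s.mask <<< s.d) = 0 := Nat.eq_of_beq_eq_true h
  have := congrArg (fun n => n.testBit (i + s.d)) h0
  simp [Nat.testBit_shiftLeft, hi] at this
  exact this

theorem Stage.act_eq {s : Stage} (h : s.ok = true) (i : ℕ) : s.act i = s.mask.testBit i := by
  cases hm : s.mask.testBit i
  · simp [Stage.act, hm]
  · have h1 := Stage.mask_disjoint h i hm
    simp only [Stage.act, hm, h1, Bool.not_false, Bool.and_true, Bool.true_and, Bool.not_eq_true']
    by_cases hd : s.d ≤ i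
    · cases h2 : s.mask.testBit (i - s.d)
      · simp
      · have := Stage.mask_disjoint h (i - s.d) h2
        rw [Nat.sub_add_cancel hd, hm] at this
        simp at this
    · simp [hd]

theorem Stage.testBit_apply {s : Stage} (h : s.ok = true) (v i : ℕ) :
    (s.apply v).testBit i = v.testBit (s.perm i) := by
  have hp : s.perm i = s.swp i := rfl
  rw [hp, Stage.swp, Stage.act_eq h i, Stage.act_eq h (i - s.d)]
  have e : s.apply v = Nat.xor (Nat.xor v (Nat.land (Nat.xor v (Nat.shiftRight v s.d)) s.mask))
      (Nat.shiftLeft (Nat.land (Nat.xor v (Nat.shiftRight v s.d)) s.mask) s.d) := by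
    cases s
    simp only [Stage.apply, force_eq]
  rw [e]
  show ((v ^^^ ((v ^^^ v >>> s.d) &&& s.mask)) ^^^ (((v ^^^ v >>> s.d) &&& s.mask) <<< s.d)).testBit i = _
  simp only [Nat.testBit_xor, Nat.testBit_and, Nat.testBit_shiftLeft, Nat.testBit_shiftRight]
  cases hm : s.mask.testBit i
  · by_cases hd : s.d ≤ i
    · cases hm2 : s.mask.testBit (i - s.d)
      · simp [hd]
      · have e : s.d + (i - s.d) = i := by omega
        simp [hd, e]
        cases v.testBit i <;> simp
    · simp [hd]
  · have h1 := Stage.mask_disjoint h i hm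
    by_cases hd : s.d ≤ i
    · have hm2 : s.mask.testBit (i - s.d) = false := by
        cases h2 : s.mask.testBit (i - s.d)
        · rfl
        · have := Stage.mask_disjoint h (i - s.d) h2
          rw [Nat.sub_add_cancel hd, hm] at this
          simp at this
      simp [hd, hm2, Nat.add_comm i s.d]
    · simp [hd, Nat.add_comm i s.d]

/-- run a network on a vector -/
noncomputable def applyNet (l : List Stage) : ℕ → ℕ :=
  List.rec (motive := fun _ => ℕ → ℕ) (fun v => v) (fun s _ ih v => force v fun v => ih (s.apply v)) l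

theorem applyNet_nil (v : ℕ) : applyNet [] v = v := rfl
theorem applyNet_cons (s : Stage) (l : List Stage) (v : ℕ) :
    applyNet (s :: l) v = force v fun v => applyNet l (s.apply v) := rfl

/-- the permutation of a network -/
def netPerm (l : List Stage) : Equiv.Perm ℕ := (l.map Stage.perm).prod

/-- all stages are well formed -/
def netOk (l : List Stage) : Bool := l.all Stage.ok

theorem netPerm_append (k l : List Stage) : netPerm (k ++ l) = netPerm k * netPerm l := by
  simp [netPerm]

theorem testBit_applyNet : ∀ {l : List Stage}, netOk l = true → ∀ v i : ℕ,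
    (applyNet l v).testBit i = v.testBit (netPerm l i)
  | [], _, _, _ => rfl
  | s :: l, h, v, i => by
    simp only [netOk, List.all_cons, Bool.and_eq_true] at h
    rw [applyNet_cons, force_eq, testBit_applyNet (l := l) h.2, Stage.testBit_apply h.1]
    rfl

/-- the vector with the first `n` bits set -/
def ones (n : ℕ) : ℕ := Nat.sub (Nat.pow 2 n) 1

theorem testBit_ones (n i : ℕ) : (ones n).testBit i = decide (i < n) :=
  Nat.testBit_two_pow_sub_one n i

/-- the bit slices of the identity on `[0, 2^m)` -/
def slices : ℕ → List ℕ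
  | 0 => []
  | k + 1 => (slices k).map (fun s => Nat.lor s (Nat.shiftLeft s (Nat.pow 2 k))) ++
      [Nat.shiftLeft (ones (Nat.pow 2 k)) (Nat.pow 2 k)]

theorem slices_spec : ∀ m : ℕ, (slices m).length = m ∧ ∀ b, b < m → ∀ i,
    ((slices m).getD b 0).testBit i = (decide (i < 2 ^ m) && i.testBit b)
  | 0 => by simp [slices]
  | k + 1 => by
    obtain ⟨hl, hs⟩ := slices_spec k
    refine ⟨by simp [slices, hl], fun b hb i => ?_⟩
    rcases Nat.lt_or_ge b k with h | h
    · have e : (slices (k + 1)).getD b 0 =
          (slices k).getD b 0 ||| ((slices k).getD b 0) <<< (2 ^ k) := by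
        rw [slices, List.getD_append _ _ _ _ (by simp [hl, h]), List.getD_eq_getElem _ _ (by simp [hl, h]),
          List.getElem_map, List.getD_eq_getElem _ _ (by simp [hl, h])]
        rfl
      rw [e, Nat.testBit_or, Nat.testBit_shiftLeft, hs b h i, hs b h (i - 2 ^ k)]
      have h2 : 2 ^ (k + 1) = 2 ^ k + 2 ^ k := by omega
      rcases Nat.lt_or_ge i (2 ^ k) with h1 | h1
      · simp [h1, show ¬ 2 ^ k ≤ i by omega, show i < 2 ^ (k + 1) by omega]
      · rcases Nat.lt_or_ge i (2 ^ (k + 1)) with h3 | h3
        · have h4 : i.testBit b = (i - 2 ^ k).testBit b := by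
            conv_lhs => rw [show i = 2 ^ k + (i - 2 ^ k) by omega]
            exact Nat.testBit_two_pow_add_gt h _
          simp [h1, show ¬ i < 2 ^ k by omega, h3, h4, show i - 2 ^ k < 2 ^ k by omega]
        · simp [show ¬ i < 2 ^ k by omega, show ¬ i < 2 ^ (k + 1) by omega, show ¬ i - 2 ^ k < 2 ^ k by omega]
    · obtain rfl : b = k := by omega
      have e : (slices (b + 1)).getD b 0 = ones (2 ^ b) <<< (2 ^ b) := by
        rw [slices, List.getD_append_right _ _ _ _ (by simp [hl])]
        simp [hl]
      rw [e, Nat.testBit_shiftLeft, testBit_ones]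
      have h2 : 2 ^ (b + 1) = 2 ^ b + 2 ^ b := by omega
      rcases Nat.lt_or_ge i (2 ^ b) with h1 | h1
      · simp [show ¬ 2 ^ b ≤ i by omega, Nat.testBit_lt_two_pow h1]
      · rcases Nat.lt_or_ge i (2 ^ (b + 1)) with h3 | h3
        · have h4 : i.testBit b = true := by
            rw [show i = 2 ^ b + (i - 2 ^ b) by omega, Nat.testBit_two_pow_add_eq,
              Nat.testBit_lt_two_pow (by omega : i - 2 ^ b < 2 ^ b)]
            rfl
          simp [h1, h3, h4, show i - 2 ^ b < 2 ^ b by omega]
        · simp [show ¬ i < 2 ^ (b + 1) by omega, show ¬ i - 2 ^ b < 2 ^ b by omega]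

theorem eq_of_slices {m i j : ℕ} (hi : i < 2 ^ m) (hj : j < 2 ^ m)
    (h : ∀ s ∈ slices m, s.testBit i = s.testBit j) : i = j := by
  refine Nat.eq_of_testBit_eq fun b => ?_
  obtain ⟨hl, hs⟩ := slices_spec m
  rcases Nat.lt_or_ge b m with hb | hb
  · have hmem : (slices m).getD b 0 ∈ slices m := by
      rw [List.getD_eq_getElem _ _ (by omega)]
      exact List.getElem_mem _
    have := h _ hmem
    rw [hs b hb, hs b hb] at this
    simpa [hi, hj] using this
  · rw [Nat.testBit_lt_two_pow (lt_of_lt_of_le hi (Nat.pow_le_pow_right (by omega) hb)),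
      Nat.testBit_lt_two_pow (lt_of_lt_of_le hj (Nat.pow_le_pow_right (by omega) hb))]

/-- `v` and `w` agree on `[0, n)` -/
def agreeOn (n v w : ℕ) : Bool := Nat.beq (Nat.land v (ones n)) (Nat.land w (ones n))

theorem agreeOn_spec {n v w : ℕ} (h : agreeOn n v w = true) {i : ℕ} (hi : i < n) : v.testBit i = w.testBit i := by
  have h0 : v &&& ones n = w &&& ones n := Nat.eq_of_beq_eq_true h
  have := congrArg (fun x => x.testBit i) h0
  simpa [Nat.testBit_and, testBit_ones, hi] using this

/-- lexicographic comparison of two slice vectors, from the low bit up: where `as` is below `bs` -/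
def ltVec : List ℕ → List ℕ → ℕ → ℕ
  | a :: as, b :: bs, acc =>
    ltVec as bs (Nat.lor (Nat.xor b (Nat.land a b)) (Nat.xor acc (Nat.land acc (Nat.xor a b))))
  | _, _, acc => acc

theorem ltVec_spec : ∀ (as bs : List ℕ) (acc k p q i : ℕ), as.length = bs.length →
    (∀ b, b < as.length → (as.getD b 0).testBit i = p.testBit (k + b) ∧ (bs.getD b 0).testBit i = q.testBit (k + b)) →
    (acc.testBit i = decide (p % 2 ^ k < q % 2 ^ k)) →
    (ltVec as bs acc).testBit i = decide (p % 2 ^ (k + as.length) < q % 2 ^ (k + as.length))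
  | [], [], acc, k, p, q, i, _, _, h => by simpa [ltVec] using h
  | a :: as, b :: bs, acc, k, p, q, i, hlen, hb, h => by
    have h0 := hb 0 (by simp)
    simp only [List.getD_cons_zero, Nat.add_zero] at h0
    have hnew : (Nat.lor (Nat.xor b (Nat.land a b)) (Nat.xor acc (Nat.land acc (Nat.xor a b)))).testBit i =
        decide (p % 2 ^ (k + 1) < q % 2 ^ (k + 1)) := by
      show ((b ^^^ (a &&& b)) ||| (acc ^^^ (acc &&& (a ^^^ b)))).testBit i = _
      simp only [Nat.testBit_or, Nat.testBit_xor, Nat.testBit_and, h0.1, h0.2, h]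
      have hp := Nat.lt_two_pow_self (n := k)
      have e1 := Nat.mod_pow_succ (x := p) (b := 2) (k := k)
      have e2 := Nat.mod_pow_succ (x := q) (b := 2) (k := k)
      have b1 : p.testBit k = decide (p / 2 ^ k % 2 = 1) := Nat.testBit_eq_decide_div_mod_eq
      have b2 : q.testBit k = decide (q / 2 ^ k % 2 = 1) := Nat.testBit_eq_decide_div_mod_eq
      have l1 : p % 2 ^ k < 2 ^ k := Nat.mod_lt _ (Nat.two_pow_pos k)
      have l2 : q % 2 ^ k < 2 ^ k := Nat.mod_lt _ (Nat.two_pow_pos k)
      rcases Nat.mod_two_eq_zero_or_one (p / 2 ^ k) with u | u <;>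
        rcases Nat.mod_two_eq_zero_or_one (q / 2 ^ k) with v | v <;>
        · simp only [u, v, Nat.mul_zero, Nat.mul_one, Nat.add_zero] at e1 e2
          simp [b1, b2, u, v, e1, e2]
          try omega
    simp only [ltVec, List.length_cons]
    rw [ltVec_spec as bs _ (k + 1) p q i (by simpa using hlen) (fun c hc => by
      have := hb (c + 1) (by simpa using hc)
      simpa [Nat.add_assoc, Nat.add_comm 1 c] using this) hnew]
    rw [Nat.add_assoc, Nat.add_comm 1]
  | [], _ :: _, _, _, _, _, _, h, _, _ => by simp at h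
  | _ :: _, [], _, _, _, _, _, h, _, _ => by simp at h

/-- `below m l`: where the image under the network `l` is below the position, on `[0, 2^m)` -/
noncomputable def below (m : ℕ) (l : List Stage) : ℕ := ltVec ((slices m).map (applyNet l)) (slices m) 0

theorem below_spec {m : ℕ} {l : List Stage} (hl : netOk l = true) {j : ℕ} (hj : j < 2 ^ m)
    (hj' : netPerm l j < 2 ^ m) (h : (below m l).testBit j = true) : netPerm l j < j := by
  obtain ⟨hlen, hs⟩ := slices_spec m
  rw [below, ltVec_spec ((slices m).map (applyNet l)) (slices m) 0 0 (netPerm l j) j j (by simp) ?_ (by simp [Nat.mod_one]),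
    decide_eq_true_eq, List.length_map, hlen, Nat.zero_add, Nat.mod_eq_of_lt hj', Nat.mod_eq_of_lt hj] at h
  · exact h
  · intro b hb
    rw [List.length_map, hlen] at hb
    refine ⟨?_, ?_⟩
    · rw [List.getD_eq_getElem _ _ (by simp [hlen, hb]), List.getElem_map, testBit_applyNet hl,
        ← List.getD_eq_getElem _ 0 (by simp [hlen, hb]), hs b hb]
      simp [hj']
    · rw [hs b hb]
      simp [hj]

end CfsgLib.Presented.Vec
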