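import Cfsg.Agent.Lib.Presented.Cox

/-!
From a vectorised certificate to the coset space.
-/
set_option autoImplicit false

namespace CfsgLib.Presented

variable {G : Type*} [Group G] {C : VCert} {ev : ℕ → G}

/-- Membership of the checked words in `H` makes the certificate meaningful on the cosets of `H`. -/
theorem VCert.interp_coset {H : Subgroup G} (hone : ev C.R.A.eps = 1)
    (hinv : ∀ x, x < C.R.A.eps → ev (C.R.A.invl x) * ev x = 1) (hrels : ∀ w ∈ C.rels, evW ev w = 1)
    (hsubs : ∀ w ∈ C.subs, evW ev w ∈ H) : C.Interp ev ((1 : G) : G ⧸ H) :=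
  ⟨hone, hinv, hrels, fun w hw => by
    rw [MulAction.Quotient.smul_coe, smul_eq_mul, mul_one, QuotientGroup.eq]
    simpa using hsubs w hw⟩

/-- Every coset met by the group generated by the letters is one of the named points. -/
theorem VCert.orbit_cover {X : Type*} [MulAction G X] {base : X} (hok : C.ok = true) (hI : C.Interp ev base) :
    ∀ g ∈ Subgroup.closure (ev '' Set.Iio C.R.A.eps), ∀ i : Fin C.R.N,
      ∃ j : Fin C.R.N, g • C.pt ev base i = C.pt ev base j ∧ ∀ (φ : G →* Equiv.Perm (Fin C.R.N))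
        (hR : C.R.valid = true), (∀ x, x < C.R.A.eps → φ (ev x) = C.R.perm hR x) → φ g i = j := by
  have hv : C.valid = true := by simp only [VCert.ok, Bool.and_eq_true] at hok; exact hok.1
  have hR := VCert.rvalid hv
  have key : ∀ x, x < C.R.A.eps → ∀ i : Fin C.R.N,
      ev x • C.pt ev base i = C.pt ev base (C.R.perm hR x i) := fun x hx i => VCert.pt_smul hok hI hx i.2
  intro g hg
  induction hg using Subgroup.closure_induction'' with
  | one => exact fun i => ⟨i, one_smul _ _, fun φ _ _ => by simp⟩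
  | mem y hy =>
    obtain ⟨x, hx, rfl⟩ := hy
    exact fun i => ⟨_, key x hx i, fun φ hR' hφ => by rw [hφ x hx]⟩
  | inv_mem y hy =>
    obtain ⟨x, hx, rfl⟩ := hy
    intro i
    refine ⟨(C.R.perm hR x).symm i, ?_, fun φ hR' hφ => by rw [map_inv, hφ x hx]; rfl⟩
    rw [inv_smul_eq_iff, key x hx, Equiv.apply_symm_apply]
  | mul y z _ _ ihy ihz =>
    intro i
    obtain ⟨j, hj, hjφ⟩ := ihz i
    obtain ⟨k, hk, hkφ⟩ := ihy j
    exact ⟨k, by rw [mul_smul, hj, hk], fun φ hR' hφ => by
      rw [map_mul, Equiv.Perm.mul_apply, hjφ φ hR' hφ, hkφ φ hR' hφ]⟩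

theorem VCert.pos (hok : C.ok = true) : 0 < C.R.N := by
  simp only [VCert.ok, VCert.valid, Bool.and_eq_true, Nat.blt_eq] at hok
  exact hok.1.1.1.1.1.2

/-- The certificate bounds the index. -/
theorem VCert.relIndex_le {H K : Subgroup G} (hok : C.ok = true) (hone : ev C.R.A.eps = 1)
    (hinv : ∀ x, x < C.R.A.eps → ev (C.R.A.invl x) * ev x = 1) (hrels : ∀ w ∈ C.rels, evW ev w = 1)
    (hsubs : ∀ w ∈ C.subs, evW ev w ∈ H) (hK : K ≤ Subgroup.closure (ev '' Set.Iio C.R.A.eps)) :
    H.relIndex K ≠ 0 ∧ H.relIndex K ≤ C.R.N := by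
  have hv : C.valid = true := by have := hok; simp only [VCert.ok, Bool.and_eq_true] at this; exact this.1
  have hI := VCert.interp_coset hone hinv hrels hsubs
  have hcov := VCert.orbit_cover hok hI
  let f : K ⧸ H.subgroupOf K → G ⧸ H := Quotient.map' Subtype.val (fun a b h => by
    rw [QuotientGroup.leftRel_apply] at h ⊢; exact h)
  have hf : Function.Injective f := by
    intro p q
    induction p using QuotientGroup.induction_on with
    | _ a => induction q using QuotientGroup.induction_on with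
      | _ b =>
        intro h
        have h' : ((a : G) : G ⧸ H) = ((b : G) : G ⧸ H) := h
        have h2 := QuotientGroup.eq.1 h'
        exact QuotientGroup.eq.2 h2
  have hr : ∀ p, ∃ i : Fin C.R.N, C.pt ev ((1 : G) : G ⧸ H) i = f p := by
    intro p
    induction p using QuotientGroup.induction_on with
    | _ a =>
      obtain ⟨j, hj, -⟩ := hcov a (hK a.2) ⟨0, VCert.pos hok⟩
      refine ⟨j, ?_⟩
      show _ = ((a : G) : G ⧸ H)
      rw [← hj, VCert.pt_zero hv, MulAction.Quotient.smul_coe, smul_eq_mul, mul_one]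
  choose g hg using hr
  have hg' : Function.Injective g := fun p q h => hf (by rw [← hg p, ← hg q, h])
  have : Finite (K ⧸ H.subgroupOf K) := Finite.of_injective g hg'
  refine ⟨Subgroup.index_ne_zero_of_finite, ?_⟩
  rw [Subgroup.relIndex, Subgroup.index, ← Nat.card_fin C.R.N]
  exact Nat.card_le_card_of_injective g hg'

theorem VCert.transitive (hok : C.ok = true) (φ : G →* Equiv.Perm (Fin C.R.N)) (hR : C.R.valid = true)
    (hφ : ∀ x, x < C.R.A.eps → φ (ev x) = C.R.perm hR x) :
    ∀ (j : ℕ) (hj : j < C.R.N), ∃ g, φ g ⟨0, VCert.pos hok⟩ = ⟨j, hj⟩ := by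
  have hok' := hok
  simp only [VCert.ok, VCert.valid, Bool.and_eq_true, List.all_eq_true, List.mem_range] at hok'
  obtain ⟨⟨⟨-, htree⟩, hcover⟩, -⟩ := hok'
  have hfold : ∀ (l : List ℕ) (a j : ℕ), (l.foldl (fun a x => Nat.lor a (C.tree.getD x 0)) a).testBit j = true →
      a.testBit j = true ∨ ∃ x ∈ l, (C.tree.getD x 0).testBit j = true := by
    intro l
    induction l with
    | nil => intro a j h; exact Or.inl h
    | cons y l ih =>
      intro a j h
      rcases ih _ j h with h | ⟨x, hx, h⟩
      · change Nat.testBit (a ||| C.tree.getD y 0) j = true at h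
        rw [Nat.testBit_or, Bool.or_eq_true] at h
        exact h.imp id fun h => ⟨y, List.mem_cons_self, h⟩
      · exact Or.inr ⟨x, List.mem_cons_of_mem _ hx, h⟩
  intro j
  induction j using Nat.strong_induction_on with
  | _ j IH =>
    intro hj
    have hb : Nat.testBit ((List.range C.R.A.eps).foldl (fun a x => Nat.lor a (C.tree.getD x 0)) 1) j = true := by
      rw [Nat.eq_of_beq_eq_true hcover, Vec.testBit_ones]
      simpa using hj
    rcases hfold _ _ _ hb with h | ⟨x, hx, h⟩
    · obtain rfl := VCert.one_bit h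
      exact ⟨1, by simp⟩
    · rw [List.mem_range] at hx
      obtain ⟨⟨-, hlt⟩, -⟩ := htree x hx
      have hlt' : (Vec.below C.R.m (C.R.net (C.R.A.invl x))).testBit j = true := by
        have := congrArg (fun n => n.testBit j) (Nat.eq_of_beq_eq_true hlt)
        change Nat.testBit ((_ : ℕ) &&& _) j = _ at this
        rw [Nat.testBit_and, h] at this
        simpa using this
      obtain ⟨hA, hN, hnets, -, hx'⟩ := Rep.valid_spec hR
      have hi := (Rep.netPerm_lt_iff hR (C.R.A.invl x) j).2 hj
      have hless := Vec.below_spec (hnets _) (lt_of_lt_of_le hj hN) (lt_of_lt_of_le hi hN) hlt'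
      obtain ⟨g, hg⟩ := IH _ hless hi
      refine ⟨ev x * g, ?_⟩
      rw [map_mul, Equiv.Perm.mul_apply, hg, hφ x hx]
      have hgood := (Rep.perm_good hR).inv _ (Alphabet.le_of_valid hA hx.le)
      rw [(hx' x hx).2.1] at hgood
      have := congrArg (fun p : Equiv.Perm _ => p ⟨j, hj⟩) hgood
      exact this

/-- The coset space as the table's points, equivariantly. -/
theorem VCert.exists_cosetEquiv {H : Subgroup G} (hok : C.ok = true) (hone : ev C.R.A.eps = 1)
    (hinv : ∀ x, x < C.R.A.eps → ev (C.R.A.invl x) * ev x = 1) (hrels : ∀ w ∈ C.rels, evW ev w = 1)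
    (hsubs : ∀ w ∈ C.subs, evW ev w ∈ H) (hgen : Subgroup.closure (ev '' Set.Iio C.R.A.eps) = ⊤)
    (φ : G →* Equiv.Perm (Fin C.R.N)) (hR : C.R.valid = true)
    (hφ : ∀ x, x < C.R.A.eps → φ (ev x) = C.R.perm hR x)
    (hH : ∀ h ∈ H, φ h ⟨0, VCert.pos hok⟩ = ⟨0, VCert.pos hok⟩) :
    ∃ e : G ⧸ H ≃ Fin C.R.N, (∀ (g : G) (q : G ⧸ H), e (g • q) = φ g (e q)) ∧
      e ((1 : G) : G ⧸ H) = ⟨0, VCert.pos hok⟩ := by
  have hv : C.valid = true := by have := hok; simp only [VCert.ok, Bool.and_eq_true] at this; exact this.1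
  have hI := VCert.interp_coset hone hinv hrels hsubs
  have hcov := VCert.orbit_cover hok hI
  let z : Fin C.R.N := ⟨0, VCert.pos hok⟩
  let f : G ⧸ H → Fin C.R.N := Quotient.lift (fun g : G => φ g z) (fun a b h => by
    have h' : a⁻¹ * b ∈ H := QuotientGroup.leftRel_apply.1 h
    calc φ a z = φ a (φ (a⁻¹ * b) z) := by rw [hH _ h']
      _ = φ b z := by rw [← Equiv.Perm.mul_apply, ← map_mul, mul_inv_cancel_left])
  have hf : ∀ g : G, f ((g : G) : G ⧸ H) = φ g z := fun g => rfl
  have hpt : ∀ g : G, C.pt ev ((1 : G) : G ⧸ H) (φ g z) = ((g : G) : G ⧸ H) := by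
    intro g
    obtain ⟨j, hj, hjφ⟩ := hcov g (hgen ▸ Subgroup.mem_top g) z
    rw [hjφ φ hR hφ, ← hj, show ((z : Fin C.R.N) : ℕ) = 0 from rfl, VCert.pt_zero hv,
      MulAction.Quotient.smul_coe, smul_eq_mul, mul_one]
  have hbij : Function.Bijective f := by
    constructor
    · intro p q
      induction p using QuotientGroup.induction_on with
      | _ a => induction q using QuotientGroup.induction_on with
        | _ b =>
          intro h
          rw [hf, hf] at h
          rw [← hpt a, ← hpt b, h]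
    · intro j
      obtain ⟨g, hg⟩ := VCert.transitive hok φ hR hφ j j.2
      exact ⟨(g : G), by rw [hf]; exact hg⟩
  refine ⟨Equiv.ofBijective f hbij, fun g q => ?_, ?_⟩
  · induction q using QuotientGroup.induction_on with
    | _ a =>
      simp only [Equiv.ofBijective_apply]
      rw [MulAction.Quotient.smul_coe, smul_eq_mul, hf, hf, map_mul, Equiv.Perm.mul_apply]
  · simp only [Equiv.ofBijective_apply]
    rw [hf, map_one]
    rfl

end CfsgLib.Presented
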