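import Cfsg.Agent.Lib.Presented.Simple

/-!
Counting set bits in blocks, to keep the recursion shallow on long bit sets.
-/
set_option autoImplicit false

namespace CfsgLib.Presented

open Vec

/-- number of set bits in `m` blocks of 256 -/
noncomputable def blockCount (v m : ℕ) : ℕ :=
  Nat.rec (motive := fun _ => ℕ) 0
    (fun k ih => force ih fun ih => Nat.add ih (bitCount (Nat.shiftRight v (Nat.mul k 256)) 256)) m

/-- number of set bits below `n`, by blocks -/
noncomputable def bitCountBig (v n : ℕ) : ℕ :=
  Nat.add (blockCount v (Nat.div n 256)) (bitCount (Nat.shiftRight v (Nat.mul (Nat.div n 256) 256)) (Nat.mod n 256))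

theorem bitCount_zero' (v : ℕ) : bitCount v 0 = 0 := rfl

theorem bitCount_succ' (v n : ℕ) : bitCount v (n + 1) = bitCount v n + (v >>> n) % 2 := by
  show (force (bitCount v n) fun ih => Nat.add ih (Nat.mod (Nat.shiftRight v n) 2)) = _
  rw [force_eq]
  rfl

theorem bitCount_add (v a : ℕ) : ∀ b : ℕ, bitCount v (a + b) = bitCount v a + bitCount (v >>> a) b
  | 0 => by rw [Nat.add_zero, bitCount_zero', Nat.add_zero]
  | b + 1 => by
    rw [← Nat.add_assoc, bitCount_succ', bitCount_succ', bitCount_add v a b, Nat.shiftRight_add, Nat.add_assoc]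

theorem blockCount_eq (v : ℕ) : ∀ m : ℕ, blockCount v m = bitCount v (m * 256)
  | 0 => by rw [Nat.zero_mul, bitCount_zero']; rfl
  | m + 1 => by
    have h : blockCount v (m + 1) = blockCount v m + bitCount (v >>> (m * 256)) 256 := by
      show (force (blockCount v m) fun ih => Nat.add ih (bitCount (Nat.shiftRight v (Nat.mul m 256)) 256)) = _
      rw [force_eq]
      rfl
    rw [h, blockCount_eq v m, Nat.succ_mul, bitCount_add]

theorem bitCountBig_eq (v n : ℕ) : bitCountBig v n = bitCount v n := by
  show blockCount v (n / 256) + bitCount (v >>> (n / 256 * 256)) (n % 256) = _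
  rw [blockCount_eq, ← bitCount_add, Nat.mul_comm, Nat.div_add_mod]

theorem bitCount_of_big {v n k : ℕ} (h : Nat.beq (bitCountBig v n) k = true) : Nat.beq (bitCount v n) k = true := by
  rwa [bitCountBig_eq] at h

/-- `coverOK` counting in blocks -/
noncomputable def coverOKBig (n : ℕ) : List HOrbit → ℕ → Bool
  | [], acc => Nat.beq acc (ones n)
  | O :: l, acc => Nat.beq (Nat.land O.bits acc) 0 && Nat.beq (bitCountBig O.bits n) O.size &&
      force (Nat.lor acc O.bits) (coverOKBig n l)

theorem coverOKBig_eq (n : ℕ) : ∀ (l : List HOrbit) (acc : ℕ), coverOKBig n l acc = coverOK n l acc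
  | [], _ => rfl
  | O :: l, acc => by simp only [coverOKBig, coverOK, force_eq, bitCountBig_eq, coverOKBig_eq n l]

theorem coverOK_of_big {n acc : ℕ} {l : List HOrbit} (h : coverOKBig n l acc = true) : coverOK n l acc = true :=
  (coverOKBig_eq n l acc).symm.trans h

end CfsgLib.Presented
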