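import Cfsg.Agent.Lib.Presented.VCert

/-!
Checking a vectorised certificate in chunks of steps.
-/
set_option autoImplicit false

namespace CfsgLib.Presented.VCert

variable {C : VCert}

/-- running the steps of a chunk gives exactly the expected state -/
noncomputable def runTo (C : VCert) : List VStep → List ℕ → List ℕ → Bool
  | [], g, g' => listEq g g'
  | s :: ss, g, g' => strictL (C.stepRun g s) fun h => runTo C ss h g'

theorem runAll_append {a b : List VStep} {g g' : List ℕ} (h : C.runTo a g g' = true)
    (h' : C.runAll b g' = true) : C.runAll (a ++ b) g = true := by
  induction a generalizing g with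
  | nil => rw [listEq_eq h]; exact h'
  | cons s ss ih =>
    rw [runTo, strictL_eq] at h
    rw [List.cons_append, runAll, strictL_eq]
    exact ih h

theorem ok_of_run (hv : C.valid = true) (h : C.runAll C.steps C.init = true) : C.ok = true := by
  rw [ok, strictL_eq, hv, h, Bool.true_and]

end CfsgLib.Presented.VCert
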