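import Cfsg.Agent.Lib.Presented.Word
import Mathlib.GroupTheory.Index
import Mathlib.GroupTheory.GroupAction.Quotient

/-!
Kernel-checkable certificates of coset enumerations.

A certificate is a list of facts `(x, a, b)` about points `c 0, c 1, …` of a set with a group action,
each meaning `ev x • c b = c a`, justified by a definition, by a path of earlier facts whose letters
cancel to `x`, by a relator, or by a word fixing the base point.
-/
set_option autoImplicit false

namespace CfsgLib.Presented

/-- letter of a packed fact -/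
def fx (f : ℕ) : ℕ := f % 64
/-- source of a packed fact -/
def fa (f : ℕ) : ℕ := f / 64 % 4194304
/-- target of a packed fact -/
def fb (f : ℕ) : ℕ := f / 268435456

/-- A relator rearranged to express a letter: `word` (reversed) has the same value as `x`. -/
structure EqEntry where
  x : ℕ
  word : List ℕ
  r : ℕ
  k : ℕ
  flag : Bool

/-- A word `w` fixing the base point, split as `x = u₁ w u₂` (`u1`, `u2` reversed). -/
structure SubEntry where
  x : ℕ
  u1 : List ℕ
  u2 : List ℕ
  idx : ℕ

/-- The data of a coset enumeration. -/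
structure Enum where
  A : Alphabet
  rels : List (List ℕ)
  subs : List (List ℕ)
  facts : NTree
  par : NTree
  eqs : ATree EqEntry
  sube : ATree SubEntry
  neq : ℕ

/-- the rotation -/
def rotW (w : List ℕ) (k : ℕ) : List ℕ := w.drop k ++ w.take k

/-- validity of a relator rearrangement -/
noncomputable def eqValid (A : Alphabet) (rels : List (List ℕ)) (e : EqEntry) : Bool :=
  let w0 := cond e.flag (invWord A (rels.getD e.r [])) (rels.getD e.r [])
  Nat.ble e.x A.eps && cond (Nat.beq e.x A.eps) (listEq (rotW w0 e.k) e.word.reverse)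
    (listEq (rotW w0 e.k) (e.word.reverse ++ [A.invl e.x]))

/-- validity of a base-point entry -/
noncomputable def subValid (A : Alphabet) (subs : List (List ℕ)) (e : SubEntry) : Bool :=
  let all := e.u1.reverse ++ subs.getD e.idx [] ++ e.u2.reverse
  Nat.ble e.x A.eps && all.all (fun y => Nat.ble y A.eps) &&
    listEq (pushAll A all []) (pushAll A [e.x] [])

/-- One step along an earlier fact. -/
noncomputable def hopAux (A : Alphabet) (f dir cur : ℕ) (acc : List ℕ) : Option (ℕ × List ℕ) :=
  cond (Nat.beq dir 0) (cond (Nat.beq (fa f) cur) (some (fb f, push A (fx f) acc)) none)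
    (cond (Nat.beq (fb f) cur) (some (fa f, push A (A.invl (fx f)) acc)) none)

/-- One step along the signed fact `h`, which must be older than `k`. -/
noncomputable def Enum.hop (d : Enum) (k h cur : ℕ) (acc : List ℕ) : Option (ℕ × List ℕ) :=
  cond (Nat.blt (h / 2) k) (hopAux d.A (d.facts.get 50 (h / 2)) (h % 2) cur acc) none

/-- A path read from a stream of digits in base `2^22`. -/
noncomputable def Enum.walk (d : Enum) (k : ℕ) : ℕ → ℕ → ℕ → List ℕ → Option (ℕ × ℕ × List ℕ)
  | 0, s, cur, acc => some (s, cur, acc)
  | n + 1, s, cur, acc =>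
    match d.hop k (s % 4194304) cur acc with
    | none => none
    | some (c, acc') => d.walk k n (s / 4194304) c acc'

/-- check a path from `src` to `dst` with reversed word `word`, returning the remaining stream -/
noncomputable def Enum.chkPath (d : Enum) (k src dst s : ℕ) (word : List ℕ) : Option ℕ :=
  match d.walk k (s % 4194304) (s / 4194304) src [] with
  | none => none
  | some (s', cur, acc) => cond (Nat.beq cur dst && listEq acc word) (some s') none

/-- check two paths through the base point -/
noncomputable def Enum.chkSub (d : Enum) (k f s : ℕ) (e : SubEntry) : Option ℕ :=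
  cond (Nat.beq e.x (fx f))
    (match d.chkPath k (fa f) 0 s e.u1 with
     | none => none
     | some s' => d.chkPath k 0 (fb f) s' e.u2)
    none

/-- check a relator step -/
noncomputable def Enum.chkEq (d : Enum) (k f s : ℕ) (e : EqEntry) : Option ℕ :=
  cond (Nat.beq e.x (fx f)) (d.chkPath k (fa f) (fb f) s e.word) none

/-- check the justification of fact `k` (packed value `f`) with rule `rule` -/
noncomputable def Enum.chkRule (d : Enum) (k f rule s : ℕ) : Option ℕ :=
  cond (Nat.beq rule 0)
    (cond (Nat.blt (fa f) (fb f) && Nat.beq (d.par.get 22 (fb f)) k) (some s) none)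
    (cond (Nat.beq rule 1)
      (d.chkPath k (fa f) (fb f) s (cond (Nat.beq (fx f) d.A.eps) [] [fx f]))
      (cond (Nat.blt (rule - 2) d.neq) (d.chkEq k f s (d.eqs.get (rule - 2)))
        (d.chkSub k f s (d.sube.get (rule - 2 - d.neq)))))

/-- check fact `k` -/
noncomputable def Enum.chkFact (d : Enum) (k s : ℕ) : Option ℕ :=
  cond (Nat.ble (fx (d.facts.get 50 k)) d.A.eps)
    (d.chkRule k (d.facts.get 50 k) (s % 4194304) (s / 4194304)) none

/-- check `n` facts from `k` on -/
noncomputable def Enum.chkRange (d : Enum) : ℕ → ℕ → ℕ → Bool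
  | 0, _, _ => true
  | n + 1, k, s =>
    match d.chkFact k s with
    | none => false
    | some s' => d.chkRange n (k + 1) s'

/-- The facts in `[lo, hi)` are justified. -/
noncomputable def Enum.OKOn (d : Enum) (lo hi : ℕ) : Prop :=
  ∀ k, lo ≤ k → k < hi → ∃ s s', d.chkFact k s = some s'

theorem Enum.okOn_of_chkRange (d : Enum) : ∀ n k s, d.chkRange n k s = true → d.OKOn k (k + n)
  | 0, k, _, _ => fun j h1 h2 => absurd h2 (by omega)
  | n + 1, k, s, h => by
    intro j h1 h2
    unfold Enum.chkRange at h
    cases hf : d.chkFact k s with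
    | none => simp [hf] at h
    | some s' =>
      simp only [hf] at h
      rcases Nat.eq_or_lt_of_le h1 with e | e
      · exact ⟨s, s', e ▸ hf⟩
      · exact d.okOn_of_chkRange n (k + 1) s' h j e (by omega)

theorem Enum.OKOn.append {d : Enum} {a b c : ℕ} (h1 : d.OKOn a b) (h2 : d.OKOn b c) : d.OKOn a c :=
  fun k ha hc => (Nat.lt_or_ge k b).elim (fun h => h1 k ha h) (fun h => h2 k h hc)

/-- The alphabet is well formed. -/
noncomputable def Alphabet.valid (A : Alphabet) : Bool :=
  (List.range A.eps).all (fun x => Nat.blt (A.invl x) A.eps) && Nat.beq (A.invl A.eps) A.eps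

/-- The static part of a certificate is well formed. -/
noncomputable def Enum.valid (d : Enum) : Bool :=
  d.A.valid && d.eqs.all (eqValid d.A d.rels) && d.sube.all (subValid d.A d.subs) &&
    d.rels.all (fun w => w.all fun y => Nat.ble y d.A.eps)

section Sound

variable {G : Type*} [Group G] {X : Type*} [MulAction G X]

/-- The points named by a certificate. -/
noncomputable def Enum.pt (d : Enum) (ev : ℕ → G) (base : X) (b : ℕ) : X :=
  if fa (d.facts.get 50 (d.par.get 22 b)) < b then
    (ev (fx (d.facts.get 50 (d.par.get 22 b))))⁻¹ • d.pt ev base (fa (d.facts.get 50 (d.par.get 22 b)))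
  else base
termination_by b

/-- The hypotheses making a certificate meaningful. -/
structure Enum.Interp (d : Enum) (ev : ℕ → G) (base : X) : Prop where
  one : ev d.A.eps = 1
  inv : ∀ x, x < d.A.eps → ev (d.A.invl x) * ev x = 1
  rels : ∀ w ∈ d.rels, evW ev w = 1
  subs : ∀ w ∈ d.subs, evW ev w • base = base

variable {d : Enum} {ev : ℕ → G} {base : X}

theorem Alphabet.le_of_valid {A : Alphabet} (hA : A.valid = true) {x : ℕ} (hx : x ≤ A.eps) : A.invl x ≤ A.eps := by
  simp only [Alphabet.valid, Bool.and_eq_true, List.all_eq_true, List.mem_range] at hA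
  rcases Nat.eq_or_lt_of_le hx with rfl | h
  · exact (Nat.eq_of_beq_eq_true hA.2).le
  · have := hA.1 x h
    rw [Nat.blt_eq] at this
    exact this.le

theorem Enum.good (hv : d.valid = true) (hI : d.Interp ev base) : d.A.Good ev := by
  refine ⟨hI.one, fun x hx => ?_⟩
  rcases Nat.eq_or_lt_of_le hx with rfl | h
  · have hA : d.A.valid = true := by
      simp only [Enum.valid, Bool.and_eq_true] at hv; exact hv.1.1.1
    simp only [Alphabet.valid, Bool.and_eq_true] at hA
    rw [Nat.eq_of_beq_eq_true hA.2, hI.one, one_mul]
  · exact hI.inv x h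

/-- Fact `j` holds. -/
noncomputable def Enum.Holds (d : Enum) (ev : ℕ → G) (base : X) (j : ℕ) : Prop :=
  fx (d.facts.get 50 j) ≤ d.A.eps ∧
    ev (fx (d.facts.get 50 j)) • d.pt ev base (fb (d.facts.get 50 j)) = d.pt ev base (fa (d.facts.get 50 j))

theorem Enum.hop_sound (hv : d.valid = true) (hI : d.Interp ev base) {k : ℕ}
    (ih : ∀ j < k, d.Holds ev base j) {h cur : ℕ} {acc : List ℕ} {c : ℕ} {acc' : List ℕ}
    (hh : d.hop k h cur acc = some (c, acc')) :
    evW ev acc'.reverse • d.pt ev base c = evW ev acc.reverse • d.pt ev base cur := by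
  have hA := Enum.good hv hI
  unfold Enum.hop at hh
  cases hlt : Nat.blt (h / 2) k
  · simp [hlt] at hh
  rw [Nat.blt_eq] at hlt
  obtain ⟨hxe, hfact⟩ := ih _ hlt
  have hv' : d.A.valid = true := by
    simp only [Enum.valid, Bool.and_eq_true] at hv; exact hv.1.1.1
  rw [show Nat.blt (h / 2) k = true by rw [Nat.blt_eq]; exact hlt, cond_true] at hh
  unfold hopAux at hh
  cases hd : Nat.beq (h % 2) 0
  · rw [hd, cond_false] at hh
    cases hc : Nat.beq (fb (d.facts.get 50 (h / 2))) cur
    · simp [hc] at hh
    · simp only [hc, cond_true, Option.some.injEq, Prod.mk.injEq] at hh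
      obtain ⟨rfl, rfl⟩ := hh
      obtain rfl := Nat.eq_of_beq_eq_true hc
      rw [push_ev hA (Alphabet.le_of_valid hv' hxe), mul_smul, ← hfact, smul_smul (ev (d.A.invl _)),
        hA.inv _ hxe, one_smul]
  · rw [hd, cond_true] at hh
    cases hc : Nat.beq (fa (d.facts.get 50 (h / 2))) cur
    · simp [hc] at hh
    · simp only [hc, cond_true, Option.some.injEq, Prod.mk.injEq] at hh
      obtain ⟨rfl, rfl⟩ := hh
      obtain rfl := Nat.eq_of_beq_eq_true hc
      rw [push_ev hA hxe, mul_smul, hfact]

theorem Enum.walk_sound (hv : d.valid = true) (hI : d.Interp ev base) {k : ℕ}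
    (ih : ∀ j < k, d.Holds ev base j) : ∀ {n s cur : ℕ} {acc : List ℕ} {r : ℕ × ℕ × List ℕ},
    d.walk k n s cur acc = some r →
      evW ev r.2.2.reverse • d.pt ev base r.2.1 = evW ev acc.reverse • d.pt ev base cur
  | 0, s, cur, acc, r, h => by
    simp only [Enum.walk, Option.some.injEq] at h
    subst h
    rfl
  | n + 1, s, cur, acc, r, h => by
    simp only [Enum.walk] at h
    cases hh : d.hop k (s % 4194304) cur acc with
    | none => simp [hh] at h
    | some p =>
      obtain ⟨c, acc'⟩ := p
      simp only [hh] at h
      rw [Enum.walk_sound hv hI ih h, Enum.hop_sound hv hI ih hh]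

theorem Enum.chkPath_sound (hv : d.valid = true) (hI : d.Interp ev base) {k : ℕ}
    (ih : ∀ j < k, d.Holds ev base j) {src dst s s' : ℕ} {word : List ℕ}
    (h : d.chkPath k src dst s word = some s') :
    evW ev word.reverse • d.pt ev base dst = d.pt ev base src := by
  unfold Enum.chkPath at h
  cases hw : d.walk k (s % 4194304) (s / 4194304) src [] with
  | none => simp [hw] at h
  | some r =>
    obtain ⟨r1, cur, acc⟩ := r
    simp only [hw] at h
    cases hc : (Nat.beq cur dst && listEq acc word)
    · simp [hc] at h
    · rw [Bool.and_eq_true] at hc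
      have := Enum.walk_sound hv hI ih hw
      rw [Nat.eq_of_beq_eq_true hc.1, listEq_eq hc.2] at this
      simpa using this

theorem eqValid_sound {A : Alphabet} (hA : A.Good ev) {rels : List (List ℕ)}
    (hl : ∀ w ∈ rels, (∀ y ∈ w, y ≤ A.eps) ∧ evW ev w = 1) {e : EqEntry} (h : eqValid A rels e = true) :
    evW ev e.word.reverse = ev e.x := by
  have hw : (∀ y ∈ rels.getD e.r [], y ≤ A.eps) ∧ evW ev (rels.getD e.r []) = 1 := by
    rw [List.getD_eq_getElem?_getD]
    cases hr : rels[e.r]? with
    | none => simp
    | some w => exact hl w (List.mem_of_getElem? hr)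
  simp only [eqValid, Bool.and_eq_true, Nat.ble_eq] at h
  obtain ⟨hx, h⟩ := h
  have hrot : evW ev (rotW (cond e.flag (invWord A (rels.getD e.r [])) (rels.getD e.r [])) e.k) = 1 := by
    apply evW_rotate_eq_one
    rw [List.take_append_drop]
    cases e.flag
    · exact hw.2
    · rw [cond_true, evW_invWord hA hw.1, hw.2, inv_one]
  cases he : Nat.beq e.x A.eps
  · simp only [he, cond_false] at h
    rw [listEq_eq h, evW_append] at hrot
    simp only [evW_cons, evW_nil, mul_one] at hrot
    rw [eq_inv_of_mul_eq_one_left hrot, eq_inv_of_mul_eq_one_left (hA.inv e.x hx), inv_inv]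
  · simp only [he, cond_true] at h
    rw [listEq_eq h] at hrot
    rw [hrot, Nat.eq_of_beq_eq_true he, hA.one]

theorem subValid_sound {A : Alphabet} (hA : A.Good ev) {subs : List (List ℕ)}
    (hs : ∀ w ∈ subs, evW ev w • base = base) {e : SubEntry} (h : subValid A subs e = true) :
    ∃ g : G, g • base = base ∧ evW ev e.u1.reverse * g * evW ev e.u2.reverse = ev e.x := by
  simp only [subValid, Bool.and_eq_true, List.all_eq_true, Nat.ble_eq] at h
  obtain ⟨⟨hx, hall⟩, heq⟩ := h
  refine ⟨evW ev (subs.getD e.idx []), ?_, ?_⟩
  · rw [List.getD_eq_getElem?_getD]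
    cases hr : subs[e.idx]? with
    | none => simp
    | some w => exact hs w (List.mem_of_getElem? hr)
  · have h1 := pushAll_ev hA (w := e.u1.reverse ++ subs.getD e.idx [] ++ e.u2.reverse) [] (fun y hy => hall y hy)
    rw [listEq_eq heq, pushAll_ev hA _ (by simpa using hx)] at h1
    simpa [evW_append, mul_assoc] using h1.symm

theorem Enum.holds_of_ok (hv : d.valid = true) (hI : d.Interp ev base) {nF : ℕ} (hok : d.OKOn 0 nF) :
    ∀ k, k < nF → d.Holds ev base k := by
  have hA := Enum.good hv hI
  have hv' := hv
  simp only [Enum.valid, Bool.and_eq_true] at hv'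
  obtain ⟨⟨⟨-, heqs⟩, hsubs⟩, hrl⟩ := hv'
  intro k
  induction k using Nat.strong_induction_on with
  | _ k IH =>
    intro hk
    have ih : ∀ j < k, d.Holds ev base j := fun j hj => IH j hj (hj.trans hk)
    obtain ⟨s, s', hs⟩ := hok k (Nat.zero_le _) hk
    unfold Enum.chkFact at hs
    cases hx : Nat.ble (fx (d.facts.get 50 k)) d.A.eps
    · simp [hx] at hs
    rw [hx, cond_true] at hs
    rw [Nat.ble_eq] at hx
    refine ⟨hx, ?_⟩
    unfold Enum.chkRule at hs
    generalize hrule : s % 4194304 = rule at hs
    cases h0 : Nat.beq rule 0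
    · rw [h0, cond_false] at hs
      cases h1 : Nat.beq rule 1
      · rw [h1, cond_false] at hs
        cases h2 : Nat.blt (rule - 2) d.neq
        · rw [h2, cond_false] at hs
          unfold Enum.chkSub at hs
          have hval := ATree.all_get hsubs (rule - 2 - d.neq)
          generalize d.sube.get (rule - 2 - d.neq) = e at hs hval
          cases hx' : Nat.beq e.x (fx (d.facts.get 50 k))
          · simp [hx'] at hs
          rw [hx', cond_true] at hs
          cases hp : d.chkPath k (fa (d.facts.get 50 k)) 0 (s / 4194304) e.u1 with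
          | none => simp [hp] at hs
          | some s1 =>
            simp only [hp] at hs
            obtain ⟨g, hg, hge⟩ := subValid_sound (base := base) hA hI.subs hval
            have p1 := Enum.chkPath_sound hv hI ih hp
            have p2 := Enum.chkPath_sound hv hI ih hs
            have hc0 : d.pt ev base 0 = base := by rw [Enum.pt]; simp
            rw [hc0] at p1 p2
            rw [← Nat.eq_of_beq_eq_true hx', ← hge, mul_smul, mul_smul, p2, hg, p1]
        · rw [h2, cond_true] at hs
          unfold Enum.chkEq at hs
          have hval := ATree.all_get heqs (rule - 2)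
          generalize d.eqs.get (rule - 2) = e at hs hval
          cases hx' : Nat.beq e.x (fx (d.facts.get 50 k))
          · simp [hx'] at hs
          rw [hx', cond_true] at hs
          have p := Enum.chkPath_sound hv hI ih hs
          have hl : ∀ w ∈ d.rels, (∀ y ∈ w, y ≤ d.A.eps) ∧ evW ev w = 1 := fun w hw =>
            ⟨fun y hy => by
              have := List.all_eq_true.1 (List.all_eq_true.1 hrl w hw) y hy
              rwa [Nat.ble_eq] at this, hI.rels w hw⟩
          rwa [eqValid_sound hA hl hval, Nat.eq_of_beq_eq_true hx'] at p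
      · rw [h1, cond_true] at hs
        have p := Enum.chkPath_sound hv hI ih hs
        cases he : Nat.beq (fx (d.facts.get 50 k)) d.A.eps
        · simpa [he] using p
        · rw [he, cond_true] at p
          rw [Nat.eq_of_beq_eq_true he, hA.one]
          simpa using p
    · rw [h0, cond_true] at hs
      cases hc : (Nat.blt (fa (d.facts.get 50 k)) (fb (d.facts.get 50 k)) &&
          Nat.beq (d.par.get 22 (fb (d.facts.get 50 k))) k)
      · simp [hc] at hs
      rw [Bool.and_eq_true, Nat.blt_eq] at hc
      have hpar := Nat.eq_of_beq_eq_true hc.2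
      conv_lhs => rw [Enum.pt]
      rw [hpar, if_pos hc.1, smul_inv_smul]

end Sound

/-- A loop at the base point: reading `len` facts from the stream `s` gives the reversed word `word`. -/
theorem Enum.loop {G : Type*} [Group G] {X : Type*} [MulAction G X] {d : Enum} {ev : ℕ → G} {base : X}
    (hv : d.valid = true) (hI : d.Interp ev base) {nF : ℕ} (hok : d.OKOn 0 nF) {s s' : ℕ} {word : List ℕ}
    (h : d.chkPath nF 0 0 s word = some s') : evW ev word.reverse • base = base := by
  have := Enum.chkPath_sound hv hI (fun j hj => Enum.holds_of_ok hv hI hok j hj) h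
  have h0 : d.pt ev base 0 = base := by rw [Enum.pt]; simp
  rwa [h0] at this

end CfsgLib.Presented
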