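import Cfsg.Agent.Lib.Presented.Vec
import Cfsg.Agent.Lib.Presented.Word
import Cfsg.Agent.Lib.Presented.Enum
import Mathlib.GroupTheory.Perm.Basic

/-!
Vectorised certificates for coset tables: letters act by networks of delta swaps; the proof that a group
action follows the table is a short list of closure steps, each deducing a whole set of edges at once.
-/
set_option autoImplicit false

namespace CfsgLib.Presented

open Vec

/-- Letters acting on `[0, N)` by networks. -/
structure Rep where
  A : Alphabet
  m : ℕ
  N : ℕ
  nets : List (List Stage)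

/-- the network of a letter -/
def Rep.net (R : Rep) (x : ℕ) : List Stage := R.nets.getD x []

/-- the network of a word -/
def Rep.netW (R : Rep) (w : List ℕ) : List Stage := w.flatMap R.net

/-- the network is the identity on `[0, N)` -/
noncomputable def Rep.idOn (R : Rep) (l : List Stage) : Bool := (slices R.m).all fun s => agreeOn R.N (applyNet l s) s

/-- well-formedness -/
noncomputable def Rep.valid (R : Rep) : Bool :=
  R.A.valid && Nat.ble R.N (Nat.pow 2 R.m) && R.nets.all netOk && Nat.beq R.nets.length R.A.eps &&
    (List.range R.A.eps).all fun x =>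
      Nat.beq (applyNet (R.net x) (ones R.N)) (ones R.N) && Nat.beq (R.A.invl (R.A.invl x)) x &&
        R.idOn (R.net (R.A.invl x) ++ R.net x)

/-- the words act trivially -/
noncomputable def Rep.relsOK (R : Rep) (ws : List (List ℕ)) : Bool :=
  ws.all fun w => w.all (fun y => Nat.blt y R.A.eps) && R.idOn (R.netW w)

theorem Rep.valid_spec {R : Rep} (h : R.valid = true) :
    R.A.valid = true ∧ R.N ≤ 2 ^ R.m ∧ (∀ x, netOk (R.net x) = true) ∧ R.nets.length = R.A.eps ∧
      ∀ x, x < R.A.eps → applyNet (R.net x) (ones R.N) = ones R.N ∧ R.A.invl (R.A.invl x) = x ∧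
        R.idOn (R.net (R.A.invl x) ++ R.net x) = true := by
  simp only [Rep.valid, Bool.and_eq_true, List.all_eq_true, List.mem_range, Nat.ble_eq] at h
  refine ⟨h.1.1.1.1, h.1.1.1.2, fun x => ?_, Nat.eq_of_beq_eq_true h.1.2, fun x hx => ⟨Nat.eq_of_beq_eq_true (h.2 x hx).1.1,
    Nat.eq_of_beq_eq_true (h.2 x hx).1.2, (h.2 x hx).2⟩⟩
  rw [Rep.net, List.getD_eq_getElem?_getD]
  cases hr : R.nets[x]? with
  | none => rfl
  | some l => exact h.1.1.2 l (List.mem_of_getElem? hr)

theorem Rep.netPerm_lt_iff {R : Rep} (h : R.valid = true) (x i : ℕ) :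
    netPerm (R.net x) i < R.N ↔ i < R.N := by
  obtain ⟨-, -, hok, hlen, hx⟩ := Rep.valid_spec h
  rcases Nat.lt_or_ge x R.A.eps with hlt | hge
  · have := testBit_applyNet (hok x) (ones R.N) i
    rw [(hx x hlt).1, testBit_ones, testBit_ones, decide_eq_decide] at this
    exact this.symm
  · have : R.net x = [] := by
      rw [Rep.net, List.getD_eq_getElem?_getD, List.getElem?_eq_none (by omega)]
      rfl
    simp [this, netPerm]

/-- the permutation of `Fin N` of a letter -/
def Rep.perm (R : Rep) (h : R.valid = true) (x : ℕ) : Equiv.Perm (Fin R.N) where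
  toFun i := ⟨netPerm (R.net x) i, (Rep.netPerm_lt_iff h x i).2 i.2⟩
  invFun i := ⟨(netPerm (R.net x)).symm i, (Rep.netPerm_lt_iff h x _).1 (by rw [Equiv.apply_symm_apply]; exact i.2)⟩
  left_inv i := Fin.ext (Equiv.symm_apply_apply _ _)
  right_inv i := Fin.ext (Equiv.apply_symm_apply _ _)

@[simp] theorem Rep.perm_val {R : Rep} (h : R.valid = true) (x : ℕ) (i : Fin R.N) :
    (R.perm h x i : ℕ) = netPerm (R.net x) i := rfl

theorem Rep.netW_perm {R : Rep} (h : R.valid = true) : ∀ (w : List ℕ) (i : Fin R.N),
    (evW (R.perm h) w i : ℕ) = netPerm (R.netW w) i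
  | [], i => rfl
  | x :: w, i => by
    rw [evW_cons, Equiv.Perm.mul_apply, Rep.perm_val, Rep.netW_perm h w i]
    simp [Rep.netW, netPerm_append]

theorem Rep.netOk_netW {R : Rep} (h : R.valid = true) (w : List ℕ) : netOk (R.netW w) = true := by
  simp only [netOk, Rep.netW, List.all_eq_true, List.mem_flatMap]
  rintro s ⟨x, -, hs⟩
  exact List.all_eq_true.1 ((Rep.valid_spec h).2.2.1 x) s hs

theorem Rep.idOn_spec {R : Rep} (h : R.valid = true) {l : List Stage} (hl : netOk l = true)
    (hlt : ∀ i, i < R.N → netPerm l i < R.N) (hid : R.idOn l = true) {i : ℕ} (hi : i < R.N) :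
    netPerm l i = i := by
  have hN := (Rep.valid_spec h).2.1
  apply eq_of_slices (lt_of_lt_of_le (hlt i hi) hN) (lt_of_lt_of_le hi hN)
  intro s hs
  simp only [Rep.idOn, List.all_eq_true] at hid
  rw [← testBit_applyNet hl]
  exact agreeOn_spec (hid s hs) hi

theorem Rep.evW_eq_one {R : Rep} (h : R.valid = true) {ws : List (List ℕ)} (hws : R.relsOK ws = true)
    {w : List ℕ} (hw : w ∈ ws) : evW (R.perm h) w = 1 := by
  simp only [Rep.relsOK, List.all_eq_true, Bool.and_eq_true] at hws
  refine Equiv.ext fun i => Fin.ext ?_
  rw [Rep.netW_perm h w i]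
  refine Rep.idOn_spec h (Rep.netOk_netW h w) (fun j hj => ?_) (hws w hw).2 i.2
  have := (evW (R.perm h) w ⟨j, hj⟩).2
  rwa [Rep.netW_perm h w ⟨j, hj⟩] at this

theorem Rep.perm_good {R : Rep} (h : R.valid = true) : R.A.Good (R.perm h) := by
  obtain ⟨hA, -, hok, hlen, hx⟩ := Rep.valid_spec h
  have hone : R.perm h R.A.eps = 1 := by
    refine Equiv.ext fun i => Fin.ext ?_
    have : R.net R.A.eps = [] := by
      rw [Rep.net, List.getD_eq_getElem?_getD, List.getElem?_eq_none (by omega)]
      rfl
    simp [this, netPerm]
  refine ⟨hone, fun x hxe => ?_⟩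
  rcases Nat.eq_or_lt_of_le hxe with rfl | hlt
  · simp only [Alphabet.valid, Bool.and_eq_true] at hA
    rw [Nat.eq_of_beq_eq_true hA.2, hone, one_mul]
  · refine Equiv.ext fun i => Fin.ext ?_
    rw [Equiv.Perm.mul_apply, Rep.perm_val, Rep.perm_val, ← Equiv.Perm.mul_apply, ← netPerm_append]
    refine Rep.idOn_spec h ?_ (fun j hj => ?_) (hx x hlt).2.2 i.2
    · rw [netOk, List.all_append, Bool.and_eq_true]
      exact ⟨hok _, hok _⟩
    · rw [netPerm_append, Equiv.Perm.mul_apply, Rep.netPerm_lt_iff h, Rep.netPerm_lt_iff h]
      exact hj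

/-- A closure step: deduce the edges of a letter from a rotated relator, or one edge from a word fixing
the base point. -/
inductive VStep
  | rel (r k : ℕ) (flag : Bool)
  | sub (idx split : ℕ)

/-- A vectorised certificate. -/
structure VCert where
  R : Rep
  rels : List (List ℕ)
  subs : List (List ℕ)
  tree : List ℕ
  steps : List VStep

namespace VCert

theorem one_bit {i : ℕ} (h : (1 : ℕ).testBit i = true) : i = 0 := by
  cases i with
  | zero => rfl
  | succ j => simp [Nat.testBit_succ] at h

variable (C : VCert)

/-- well-formedness of the static part -/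
noncomputable def valid : Bool :=
  C.R.valid && Nat.blt 0 C.R.N && C.R.relsOK C.rels &&
    C.subs.all (fun w => w.all (fun y => Nat.blt y C.R.A.eps) && (applyNet (C.R.netW w) 1).testBit 0) &&
    (List.range C.R.A.eps).all (fun x =>
      Nat.beq (Nat.land (C.tree.getD x 0) (ones C.R.N)) (C.tree.getD x 0) &&
      Nat.beq (Nat.land (C.tree.getD x 0) (below C.R.m (C.R.net (C.R.A.invl x)))) (C.tree.getD x 0) &&
      (List.range C.R.A.eps).all fun y => Nat.beq x y || Nat.beq (Nat.land (C.tree.getD x 0) (C.tree.getD y 0)) 0) &&
    Nat.beq ((List.range C.R.A.eps).foldl (fun a x => Nat.lor a (C.tree.getD x 0)) 1) (ones C.R.N)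

/-- record new edges of a letter, and their reverses -/
noncomputable def update (g : List ℕ) (x new : ℕ) : List ℕ :=
  (fun g1 : List ℕ =>
    g1.set (C.R.A.invl x) (Nat.lor (g1.getD (C.R.A.invl x) 0) (applyNet (C.R.net (C.R.A.invl x)) new)))
    (g.set x (Nat.lor (g.getD x 0) new))

/-- initial knowledge: the tree -/
noncomputable def init : List ℕ :=
  (List.range C.R.A.eps).foldl (fun g x => C.update g (C.R.A.invl x) (C.tree.getD x 0))
    (List.replicate C.R.A.eps 0)

/-- where one can get from `S` along `u` using known edges only -/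
noncomputable def fwd (g : List ℕ) (S : ℕ) : List ℕ → ℕ
  | [] => S
  | y :: u => applyNet (C.R.net (C.R.A.invl y)) (Nat.land (fwd g S u) (g.getD y 0))

/-- one step -/
noncomputable def stepRun (g : List ℕ) : VStep → List ℕ
  | .rel r k flag =>
    match rotW (cond flag (invWord C.R.A (C.rels.getD r [])) (C.rels.getD r [])) k with
    | [] => g
    | x :: rest => C.update g x (applyNet (C.R.net x) (C.fwd g (ones C.R.N) (invWord C.R.A rest)))
  | .sub idx split =>
    match (C.subs.getD idx []).drop split with
    | [] => g
    | x :: u2 =>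
      cond (Nat.beq (C.fwd g 1 (invWord C.R.A ((C.subs.getD idx []).take split))) 0) g
        (C.update g x (C.fwd g 1 u2))

/-- evaluate a list before continuing -/
noncomputable def strictL : List ℕ → (List ℕ → Bool) → Bool
  | [], f => f []
  | a :: l, f => force a fun a => strictL l fun l => f (a :: l)

theorem strictL_eq : ∀ (l : List ℕ) (f : List ℕ → Bool), strictL l f = f l
  | [], _ => rfl
  | a :: l, f => by rw [strictL, force_eq, strictL_eq l]

/-- run the steps and test completeness -/
noncomputable def runAll : List VStep → List ℕ → Bool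
  | [], g => (List.range C.R.A.eps).all fun x => agreeOn C.R.N (g.getD x 0) (ones C.R.N)
  | s :: ss, g => strictL (C.stepRun g s) (runAll ss)

/-- the whole certificate is correct -/
noncomputable def ok : Bool := C.valid && strictL C.init (C.runAll C.steps)

variable {C} {G : Type*} [Group G] {X : Type*} [MulAction G X] {ev : ℕ → G} {base : X}

/-- The points named by the tree. -/
noncomputable def pt (C : VCert) (ev : ℕ → G) (base : X) (j : ℕ) : X :=
  match (List.range C.R.A.eps).find? (fun x => (C.tree.getD x 0).testBit j) with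
  | none => base
  | some x =>
    if netPerm (C.R.net (C.R.A.invl x)) j < j then ev x • C.pt ev base (netPerm (C.R.net (C.R.A.invl x)) j)
    else base
termination_by j

/-- The hypotheses making a certificate meaningful. -/
structure Interp (C : VCert) (ev : ℕ → G) (base : X) : Prop where
  one : ev C.R.A.eps = 1
  inv : ∀ x, x < C.R.A.eps → ev (C.R.A.invl x) * ev x = 1
  rels : ∀ w ∈ C.rels, evW ev w = 1
  subs : ∀ w ∈ C.subs, evW ev w • base = base

/-- Every recorded edge is true. -/
def Known (C : VCert) (ev : ℕ → G) (base : X) (g : List ℕ) : Prop :=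
  ∀ x, x < C.R.A.eps → ∀ i, i < C.R.N → (g.getD x 0).testBit i = true →
    ev x • C.pt ev base i = C.pt ev base (netPerm (C.R.net x) i)

section

variable (hv : C.valid = true)

include hv

theorem rvalid : C.R.valid = true := by
  simp only [valid, Bool.and_eq_true] at hv; exact hv.1.1.1.1.1

theorem invl_lt {x : ℕ} (hx : x < C.R.A.eps) : C.R.A.invl x < C.R.A.eps := by
  have := (Rep.valid_spec (rvalid hv)).1
  simp only [Alphabet.valid, Bool.and_eq_true, List.all_eq_true, List.mem_range] at this
  have h := this.1 x hx
  rwa [Nat.blt_eq] at h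

theorem net_inv {x : ℕ} (hx : x < C.R.A.eps) {i : ℕ} (hi : i < C.R.N) :
    netPerm (C.R.net (C.R.A.invl x)) (netPerm (C.R.net x) i) = i := by
  have h := (Rep.perm_good (rvalid hv)).inv x hx.le
  have := congrArg Fin.val (Equiv.ext_iff.1 h ⟨i, hi⟩)
  simpa using this

theorem known_update (hI : C.Interp ev base) {g : List ℕ} (hg : C.Known ev base g) {x new : ℕ}
    (hx : x < C.R.A.eps)
    (hnew : ∀ i, i < C.R.N → new.testBit i = true → ev x • C.pt ev base i = C.pt ev base (netPerm (C.R.net x) i)) :
    C.Known ev base (C.update g x new) := by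
  intro y hy i hi hb
  have hxi := invl_lt hv hx
  have step1 : ∀ y, y < C.R.A.eps → ∀ i, i < C.R.N →
      ((g.set x (Nat.lor (g.getD x 0) new)).getD y 0).testBit i = true →
      ev y • C.pt ev base i = C.pt ev base (netPerm (C.R.net y) i) := by
    intro y hy i hi hb
    rw [List.getD_eq_getElem?_getD, List.getElem?_set] at hb
    by_cases hxy : x = y
    · subst hxy
      by_cases hl : x < g.length
      · simp only [hl, if_true, Option.getD_some] at hb
        change (g.getD x 0 ||| new).testBit i = true at hb
        rw [Nat.testBit_or, Bool.or_eq_true] at hb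
        exact hb.elim (hg x hy i hi) (hnew i hi)
      · simp [hl] at hb
    · rw [if_neg hxy, ← List.getD_eq_getElem?_getD] at hb
      exact hg y hy i hi hb
  rw [update, List.getD_eq_getElem?_getD, List.getElem?_set] at hb
  by_cases hxy : C.R.A.invl x = y
  · subst hxy
    by_cases hl : C.R.A.invl x < (g.set x (Nat.lor (g.getD x 0) new)).length
    · simp only [hl, if_true, Option.getD_some] at hb
      change (_ ||| applyNet (C.R.net (C.R.A.invl x)) new).testBit i = true at hb
      rw [Nat.testBit_or, Bool.or_eq_true] at hb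
      refine hb.elim (step1 _ hy i hi) fun hb => ?_
      rw [testBit_applyNet ((Rep.valid_spec (rvalid hv)).2.2.1 _)] at hb
      have hk : netPerm (C.R.net (C.R.A.invl x)) i < C.R.N := (Rep.netPerm_lt_iff (rvalid hv) _ _).2 hi
      have h1 := hnew _ hk hb
      have h2 := net_inv hv hxi hi
      rw [((Rep.valid_spec (rvalid hv)).2.2.2.2 x hx).2.1] at h2
      rw [h2] at h1
      rw [← h1, smul_smul, hI.inv x hx, one_smul]
    · simp [List.length_set] at hl hb
      simp [show ¬ C.R.A.invl x < g.length by omega] at hb
  · rw [if_neg hxy, ← List.getD_eq_getElem?_getD] at hb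
    exact step1 y hy i hi hb

theorem fwd_sound {g : List ℕ} (hg : C.Known ev base g) {S : ℕ}
    (hS : ∀ i, S.testBit i = true → i < C.R.N) :
    ∀ u : List ℕ, (∀ y ∈ u, y < C.R.A.eps) → ∀ j, (C.fwd g S u).testBit j = true →
      ∃ i : Fin C.R.N, S.testBit i = true ∧ (evW (C.R.perm (rvalid hv)) u i : ℕ) = j ∧
        evW ev u • C.pt ev base i = C.pt ev base j
  | [], _, j, hj => ⟨⟨j, hS j hj⟩, hj, rfl, by simp⟩
  | y :: u, hu, j, hj => by
    rw [fwd, testBit_applyNet ((Rep.valid_spec (rvalid hv)).2.2.1 _)] at hj
    change Nat.testBit ((_ : ℕ) &&& _) _ = true at hj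
    rw [Nat.testBit_and, Bool.and_eq_true] at hj
    obtain ⟨i, hi, hik, hev⟩ := fwd_sound hg hS u (fun z hz => hu z (List.mem_cons_of_mem y hz)) _ hj.1
    have hy := hu y List.mem_cons_self
    have hyi := invl_lt hv hy
    have hk : netPerm (C.R.net (C.R.A.invl y)) j < C.R.N := hik ▸ (evW (C.R.perm (rvalid hv)) u i).2
    have h1 := hg y hy _ hk hj.2
    have h2 := net_inv hv hyi ((Rep.netPerm_lt_iff (rvalid hv) _ _).1 hk)
    rw [((Rep.valid_spec (rvalid hv)).2.2.2.2 y hy).2.1] at h2
    refine ⟨i, hi, ?_, ?_⟩
    · rw [evW_cons, Equiv.Perm.mul_apply, Rep.perm_val, hik, h2]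
    · rw [evW_cons, mul_smul, hev, h1, h2]

theorem evW_good (hI : C.Interp ev base) : C.R.A.Good ev := by
  refine ⟨hI.one, fun x hx => ?_⟩
  rcases Nat.eq_or_lt_of_le hx with rfl | h
  · have := (Rep.valid_spec (rvalid hv)).1
    simp only [Alphabet.valid, Bool.and_eq_true] at this
    rw [Nat.eq_of_beq_eq_true this.2, hI.one, one_mul]
  · exact hI.inv x h

theorem pt_zero : C.pt ev base 0 = base := by
  rw [pt]
  split
  · rfl
  · simp

theorem invWord_lt {w : List ℕ} (hw : ∀ y ∈ w, y < C.R.A.eps) : ∀ y ∈ invWord C.R.A w, y < C.R.A.eps := by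
  intro y hy
  simp only [invWord, List.mem_reverse, List.mem_map] at hy
  obtain ⟨z, hz, rfl⟩ := hy
  exact invl_lt hv (hw z hz)

theorem step_sound (hI : C.Interp ev base) {g : List ℕ} (hg : C.Known ev base g) (s : VStep) :
    C.Known ev base (C.stepRun g s) := by
  have hR := rvalid hv
  have hv' := hv
  simp only [valid, Bool.and_eq_true, List.all_eq_true] at hv'
  obtain ⟨⟨⟨⟨-, hrels⟩, hsubs⟩, -⟩, -⟩ := hv'
  have hAp := Rep.perm_good hR
  have hAe := evW_good hv hI
  cases s with
  | rel r k flag =>
    have hw : (∀ y ∈ C.rels.getD r [], y < C.R.A.eps) ∧ evW (C.R.perm hR) (C.rels.getD r []) = 1 ∧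
        evW ev (C.rels.getD r []) = 1 := by
      rw [List.getD_eq_getElem?_getD]
      cases hr : C.rels[r]? with
      | none => simp
      | some w =>
        have hm := List.mem_of_getElem? hr
        refine ⟨fun y hy => ?_, Rep.evW_eq_one hR hrels hm, hI.rels w hm⟩
        simp only [Rep.relsOK, List.all_eq_true, Bool.and_eq_true] at hrels
        have := (hrels w hm).1 y hy
        rwa [Nat.blt_eq] at this
    have hlt : ∀ y ∈ rotW (cond flag (invWord C.R.A (C.rels.getD r [])) (C.rels.getD r [])) k, y < C.R.A.eps := by
      intro y hy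
      have hy' : y ∈ cond flag (invWord C.R.A (C.rels.getD r [])) (C.rels.getD r []) := by
        rcases List.mem_append.1 hy with h | h
        · exact List.mem_of_mem_drop h
        · exact List.mem_of_mem_take h
      cases flag
      · exact hw.1 y hy'
      · exact invWord_lt hv hw.1 y hy'
    have kp : evW (C.R.perm hR)
        (rotW (cond flag (invWord C.R.A (C.rels.getD r [])) (C.rels.getD r [])) k) = 1 := by
      apply evW_rotate_eq_one
      rw [List.take_append_drop]
      cases flag
      · exact hw.2.1
      · rw [cond_true, evW_invWord hAp (fun y hy => (hw.1 y hy).le), hw.2.1, inv_one]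
    have ke : evW ev (rotW (cond flag (invWord C.R.A (C.rels.getD r [])) (C.rels.getD r [])) k) = 1 := by
      apply evW_rotate_eq_one
      rw [List.take_append_drop]
      cases flag
      · exact hw.2.2
      · rw [cond_true, evW_invWord hAe (fun y hy => (hw.1 y hy).le), hw.2.2, inv_one]
    simp only [stepRun]
    cases hrot : rotW (cond flag (invWord C.R.A (C.rels.getD r [])) (C.rels.getD r [])) k with
    | nil => exact hg
    | cons x rest =>
      rw [hrot] at hlt kp ke
      have hx := hlt x List.mem_cons_self
      have hrest : ∀ y ∈ rest, y < C.R.A.eps := fun y hy => hlt y (List.mem_cons_of_mem _ hy)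
      have he : evW ev (invWord C.R.A rest) = ev x ∧
          evW (C.R.perm hR) (invWord C.R.A rest) = C.R.perm hR x := by
        constructor
        · rw [evW_invWord hAe (fun y hy => (hrest y hy).le), inv_eq_iff_mul_eq_one]
          exact mul_eq_one_comm.1 (by simpa using ke)
        · rw [evW_invWord hAp (fun y hy => (hrest y hy).le), inv_eq_iff_mul_eq_one]
          exact mul_eq_one_comm.1 (by simpa using kp)
      refine known_update hv hI hg hx fun i hi hb => ?_
      rw [testBit_applyNet ((Rep.valid_spec hR).2.2.1 _)] at hb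
      obtain ⟨i', -, hi', hev⟩ := fwd_sound hv hg
        (fun j hj => by rw [testBit_ones, decide_eq_true_eq] at hj; exact hj) _ (invWord_lt hv hrest) _ hb
      rw [he.2, Rep.perm_val] at hi'
      rw [← (netPerm (C.R.net x)).injective hi', ← he.1, hev, (netPerm (C.R.net x)).injective hi']
  | sub idx split =>
    have hw : (∀ y ∈ C.subs.getD idx [], y < C.R.A.eps) ∧
        (∀ h0 : 0 < C.R.N, evW (C.R.perm hR) (C.subs.getD idx []) ⟨0, h0⟩ = ⟨0, h0⟩) ∧
        evW ev (C.subs.getD idx []) • base = base := by
      rw [List.getD_eq_getElem?_getD]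
      cases hr : C.subs[idx]? with
      | none => simp
      | some w =>
        have hm := List.mem_of_getElem? hr
        obtain ⟨h1, h2⟩ := hsubs w hm
        refine ⟨fun y hy => ?_, fun h0 => ?_, hI.subs w hm⟩
        · have := h1 y hy
          rwa [Nat.blt_eq] at this
        · apply Fin.ext
          simp only [Option.getD_some]
          rw [Rep.netW_perm hR w ⟨0, h0⟩]
          rw [testBit_applyNet (Rep.netOk_netW hR w)] at h2
          exact one_bit h2
    simp only [stepRun]
    cases hd : (C.subs.getD idx []).drop split with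
    | nil => exact hg
    | cons x u2 =>
      simp only
      cases h0 : Nat.beq (C.fwd g 1 (invWord C.R.A ((C.subs.getD idx []).take split))) 0
      · rw [cond_false]
        have hsplit : C.subs.getD idx [] = (C.subs.getD idx []).take split ++ (x :: u2) := by
          rw [← hd, List.take_append_drop]
        generalize hu1 : (C.subs.getD idx []).take split = u1 at hsplit h0
        have hmem : ∀ y ∈ u1 ++ (x :: u2), y < C.R.A.eps := hsplit ▸ hw.1
        have h1lt : ∀ y ∈ u1, y < C.R.A.eps := fun y hy => hmem y (List.mem_append.2 (Or.inl hy))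
        have hne : C.fwd g 1 (invWord C.R.A u1) ≠ 0 := by
          intro h; rw [h] at h0; simp [Nat.beq_refl] at h0
        obtain ⟨k, hk⟩ : ∃ k, (C.fwd g 1 (invWord C.R.A u1)).testBit k = true := by
          by_contra hc
          simp only [not_exists, Bool.not_eq_true] at hc
          exact hne (Nat.eq_of_testBit_eq fun i => by simp [hc i])
        have hN : ∀ i, (1 : ℕ).testBit i = true → i < C.R.N := by
          intro i hi
          rcases Nat.eq_zero_or_pos i with rfl | hp
          · have := hv; simp only [valid, Bool.and_eq_true, Nat.blt_eq] at this; exact this.1.1.1.1.2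
          · exact absurd (one_bit hi) (by omega)
        obtain ⟨a, ha, hak, haev⟩ := fwd_sound hv hg hN _ (invWord_lt hv h1lt) _ hk
        refine known_update hv hI hg (hmem x (by simp)) fun i hi hb => ?_
        obtain ⟨b, hb', hbi, hbev⟩ := fwd_sound hv hg hN u2 (fun y hy => hmem y (by simp [hy])) _ hb
        have ha0 : (a : ℕ) = 0 := one_bit ha
        have hb0 : (b : ℕ) = 0 := one_bit hb'
        have hN0 : 0 < C.R.N := ha0 ▸ a.2
        obtain rfl : a = ⟨0, hN0⟩ := Fin.ext ha0
        obtain rfl : b = ⟨0, hN0⟩ := Fin.ext hb0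
        simp only [pt_zero hv] at haev hbev
        have hxe : ev x • C.pt ev base i = C.pt ev base k := by
          have h := hw.2.2
          rw [hsplit, evW_append, evW_cons, mul_smul, mul_smul, hbev] at h
          rw [← haev, evW_invWord hAe (fun y hy => (h1lt y hy).le), eq_inv_smul_iff, h]
        have hperm : netPerm (C.R.net x) i = k := by
          have h := hw.2.1 hN0
          rw [hsplit, evW_append, evW_cons, Equiv.Perm.mul_apply, Equiv.Perm.mul_apply] at h
          have h' := congrArg (⇑(evW (C.R.perm hR) (invWord C.R.A u1))) h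
          rw [← Equiv.Perm.mul_apply, evW_invWord hAp (fun y hy => (h1lt y hy).le), inv_mul_cancel,
            Equiv.Perm.one_apply, ← evW_invWord hAp (fun y hy => (h1lt y hy).le)] at h'
          have h'' := congrArg Fin.val h'
          rw [Rep.perm_val, hbi, hak] at h''
          exact h''
        rw [hperm, hxe]
      · exact hg

theorem init_known (hI : C.Interp ev base) : C.Known ev base C.init := by
  have hv' := hv
  simp only [valid, Bool.and_eq_true, List.all_eq_true, List.mem_range] at hv'
  have htree := hv'.1.2
  have h0 : C.Known ev base (List.replicate C.R.A.eps 0) := by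
    intro x hx i _ hb
    simp [List.getD_eq_getElem _ _ (by simpa using hx : x < (List.replicate C.R.A.eps 0).length)] at hb
  suffices h : ∀ (l : List ℕ) (g : List ℕ), (∀ x ∈ l, x < C.R.A.eps) → C.Known ev base g →
      C.Known ev base (l.foldl (fun g x => C.update g (C.R.A.invl x) (C.tree.getD x 0)) g) from
    h _ _ (fun x hx => List.mem_range.1 hx) h0
  intro l
  induction l with
  | nil => intro g _ hg; exact hg
  | cons x l ih =>
    intro g hl hg
    rw [List.foldl_cons]
    refine ih _ (fun y hy => hl y (List.mem_cons_of_mem _ hy)) ?_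
    have hx := hl x List.mem_cons_self
    refine known_update hv hI hg (invl_lt hv hx) fun j hj hb => ?_
    obtain ⟨⟨-, hlt⟩, hdis⟩ := htree x hx
    have hlt' : (below C.R.m (C.R.net (C.R.A.invl x))).testBit j = true := by
      have := congrArg (fun n => n.testBit j) (Nat.eq_of_beq_eq_true hlt)
      change Nat.testBit ((_ : ℕ) &&& _) j = _ at this
      rw [Nat.testBit_and, hb] at this
      simpa using this
    obtain ⟨-, hN, hok, -, -⟩ := Rep.valid_spec (rvalid hv)
    have hi := (Rep.netPerm_lt_iff (rvalid hv) (C.R.A.invl x) j).2 hj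
    have hless := below_spec (hok _) (lt_of_lt_of_le hj hN) (lt_of_lt_of_le hi hN) hlt'
    have hfind : (List.range C.R.A.eps).find? (fun y => (C.tree.getD y 0).testBit j) = some x := by
      cases hf : (List.range C.R.A.eps).find? (fun y => (C.tree.getD y 0).testBit j) with
      | none =>
        have := List.find?_eq_none.1 hf x (List.mem_range.2 hx)
        exact absurd hb this
      | some y =>
        by_cases hxy : x = y
        · rw [hxy]
        · exfalso
          have hy := List.mem_of_find?_eq_some hf
          have hby := List.find?_some hf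
          have := hdis y (List.mem_range.1 hy)
          rw [Bool.or_eq_true] at this
          rcases this with h | h
          · exact hxy (Nat.eq_of_beq_eq_true h)
          · have := congrArg (fun n => n.testBit j) (Nat.eq_of_beq_eq_true h)
            change Nat.testBit ((_ : ℕ) &&& _) j = _ at this
            rw [Nat.testBit_and, hb] at this
            rw [Bool.true_and, Nat.zero_testBit] at this
            exact absurd hby (by simp only [this]; simp)
    conv_lhs => rw [pt, hfind]
    simp only [if_pos hless]
    rw [smul_smul, hI.inv x hx, one_smul]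

end

/-- The points follow the table. -/
theorem pt_smul (hok : C.ok = true) (hI : C.Interp ev base) {x : ℕ} (hx : x < C.R.A.eps) {i : ℕ}
    (hi : i < C.R.N) : ev x • C.pt ev base i = C.pt ev base (netPerm (C.R.net x) i) := by
  simp only [ok, Bool.and_eq_true] at hok
  obtain ⟨hv, hrun⟩ := hok
  rw [strictL_eq] at hrun
  suffices h : ∀ ss g, C.Known ev base g → C.runAll ss g = true →
      ev x • C.pt ev base i = C.pt ev base (netPerm (C.R.net x) i) from h _ _ (init_known hv hI) hrun
  intro ss
  induction ss with
  | nil =>
    intro g hg hr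
    simp only [runAll, List.all_eq_true, List.mem_range] at hr
    refine hg x hx i hi ?_
    rw [agreeOn_spec (hr x hx) hi, testBit_ones]
    simpa using hi
  | cons s ss ih =>
    intro g hg hr
    rw [runAll, strictL_eq] at hr
    exact ih _ (step_sound hv hI hg s) hr

end VCert

end CfsgLib.Presented
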