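import Cfsg.Prelude.Def_SporCoxeter
import Cfsg.Agent.Lib.Presented.Enum
import Cfsg.Agent.Lib.Presented.VCert
import Mathlib.GroupTheory.PresentedGroup

/-!
Connecting numbered letters with the Coxeter-style presented groups.
-/
set_option autoImplicit false

namespace CfsgLib.Presented

open Cfsg.Spor

/-- The meaning of the letters: `idx` numbers the generators, `gen` reads a letter back as a signed
generator (`true` for the generator itself). -/
structure Letters (α : Type) where
  A : Alphabet
  idx : α → ℕ
  gen : ℕ → α × Bool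
  nodes : List α

variable {α : Type} [DecidableEq α]

/-- consistency of the letters -/
noncomputable def Letters.valid (L : Letters α) : Bool :=
  L.A.valid &&
    (List.range L.A.eps).all fun x =>
      Nat.beq (L.A.invl (L.A.invl x)) x &&
      Nat.beq x (cond (L.gen x).2 (L.idx (L.gen x).1) (L.A.invl (L.idx (L.gen x).1))) &&
      decide ((L.gen (L.A.invl x)).1 = (L.gen x).1) &&
      cond (Nat.beq (L.A.invl x) x) (decide ((L.gen x).1 ∈ L.nodes))
        ((L.gen (L.A.invl x)).2 != (L.gen x).2)

/-- the letter of a signed generator -/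
noncomputable def Letters.letter (L : Letters α) (p : α × Bool) : ℕ := cond p.2 (L.idx p.1) (L.A.invl (L.idx p.1))

/-- The value of a letter in a group, given the values of the generators. -/
noncomputable def Letters.ev {Γ : Type*} [Group Γ] (L : Letters α) (f : α → Γ) (x : ℕ) : Γ :=
  if x < L.A.eps then cond (L.gen x).2 (f (L.gen x).1) (f (L.gen x).1)⁻¹ else 1

/-- the words of the Coxeter relators of pairs `x, y` of nodes with `idx x < idx y` -/
noncomputable def Letters.coxWords (L : Letters α) (edges : List (α × ℕ × α)) : List (List ℕ) :=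
  L.nodes.flatMap fun x => (L.nodes.filter fun y => Nat.blt (L.idx x) (L.idx y)).map fun y =>
    wpow [L.idx x, L.idx y] (coxLabel edges x y)

/-- the words of further relators -/
noncomputable def Letters.extraWords (L : Letters α) (extra : List (FreeGroup α)) : List (List ℕ) :=
  extra.map fun r => r.toWord.map L.letter

/-- consistency of the nodes -/
noncomputable def Letters.nodesValid (L : Letters α) (edges : List (α × ℕ × α)) : Bool :=
  ((coxNodes edges).all fun x => decide (x ∈ L.nodes)) &&
    (L.nodes.all fun x => decide (x ∈ coxNodes edges) && Nat.beq (L.A.invl (L.idx x)) (L.idx x)) &&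
    (L.nodes.all fun x => L.nodes.all fun y =>
      decide (x = y) || (!(Nat.beq (L.idx x) (L.idx y)) && decide (coxLabel edges x y = coxLabel edges y x)))

section

variable {Γ : Type*} [Group Γ] {L : Letters α} {f : α → Γ}

theorem Letters.ev_eps : L.ev f L.A.eps = 1 := by simp [Letters.ev]

theorem Letters.ev_inv (hv : L.valid = true) (hf : ∀ g ∈ L.nodes, f g * f g = 1) :
    ∀ x, x < L.A.eps → L.ev f (L.A.invl x) * L.ev f x = 1 := by
  intro x hx
  simp only [Letters.valid, Alphabet.valid, Bool.and_eq_true, List.all_eq_true, List.mem_range] at hv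
  have h1 := hv.1.1 x hx
  rw [Nat.blt_eq] at h1
  obtain ⟨⟨⟨h2, h3⟩, h4⟩, h5⟩ := hv.2 x hx
  rw [decide_eq_true_eq] at h4
  simp only [Letters.ev, if_pos h1, if_pos hx, h4]
  cases hb : Nat.beq (L.A.invl x) x
  · rw [hb, cond_false] at h5
    revert h5
    cases (L.gen (L.A.invl x)).2 <;> cases (L.gen x).2 <;> simp
  · rw [hb, cond_true, decide_eq_true_eq] at h5
    have hinv := inv_eq_of_mul_eq_one_right (hf _ h5)
    cases (L.gen (L.A.invl x)).2 <;> cases (L.gen x).2 <;> simp [hinv, hf _ h5]

theorem Letters.ev_idx (hv : L.valid = true) (hf : ∀ g ∈ L.nodes, f g * f g = 1) {g : α} (hg : L.idx g < L.A.eps)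
    (hgen : L.gen (L.idx g) = (g, true)) : L.ev f (L.idx g) = f g ∧ L.ev f (L.A.invl (L.idx g)) = (f g)⁻¹ := by
  have h1 : L.ev f (L.idx g) = f g := by simp [Letters.ev, hg, hgen]
  refine ⟨h1, eq_inv_of_mul_eq_one_left ?_⟩
  rw [← h1]
  exact L.ev_inv hv hf _ hg

/-- all generators are numbered correctly -/
def Letters.Full (L : Letters α) : Prop := ∀ g, L.idx g < L.A.eps ∧ L.gen (L.idx g) = (g, true)

theorem Letters.evW_letters (hv : L.valid = true) (hf : ∀ g ∈ L.nodes, f g * f g = 1) (hfull : L.Full)
    (r : FreeGroup α) : evW (L.ev f) (r.toWord.map L.letter) = FreeGroup.lift f r := by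
  conv_rhs => rw [← FreeGroup.mk_toWord (x := r)]
  rw [FreeGroup.lift_mk]
  generalize r.toWord = w
  induction w with
  | nil => rfl
  | cons p w ih =>
    rw [List.map_cons, evW_cons, List.map_cons, List.prod_cons, ih]
    obtain ⟨g, b⟩ := p
    obtain ⟨h1, h2⟩ := L.ev_idx hv hf (hfull g).1 (hfull g).2
    cases b <;> simp [Letters.letter, h1, h2]

variable {edges : List (α × ℕ × α)} {extra : List (FreeGroup α)}

/-- A map of the generators killing all relators of a Coxeter-style presentation. -/
theorem Letters.kills (hv : L.valid = true) (hn : L.nodesValid edges = true) (hfull : L.Full)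
    (hf : ∀ g ∈ L.nodes, f g * f g = 1) (hcox : ∀ w ∈ L.coxWords edges, evW (L.ev f) w = 1)
    (hext : ∀ w ∈ L.extraWords extra, evW (L.ev f) w = 1) :
    ∀ r ∈ coxRelators edges ∪ {r | r ∈ extra}, FreeGroup.lift f r = 1 := by
  simp only [Letters.nodesValid, Bool.and_eq_true, List.all_eq_true, decide_eq_true_eq, Bool.or_eq_true] at hn
  rintro r (⟨x, hx, y, hy, rfl⟩ | hr)
  · have hx' := hn.1.1 x hx
    have hy' := hn.1.1 y hy
    rw [map_pow, map_mul, FreeGroup.lift_apply_of, FreeGroup.lift_apply_of]
    have key : ∀ u ∈ L.nodes, ∀ v ∈ L.nodes, L.idx u < L.idx v → (f u * f v) ^ coxLabel edges u v = 1 := by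
      intro u hu v hv' hlt
      have hmem : wpow [L.idx u, L.idx v] (coxLabel edges u v) ∈ L.coxWords edges := by
        simp only [Letters.coxWords, List.mem_flatMap, List.mem_map, List.mem_filter]
        exact ⟨u, hu, v, ⟨hv', by rw [Nat.blt_eq]; exact hlt⟩, rfl⟩
      have := hcox _ hmem
      rwa [evW_wpow, evW_cons, evW_cons, evW_nil, mul_one, (L.ev_idx hv hf (hfull u).1 (hfull u).2).1,
        (L.ev_idx hv hf (hfull v).1 (hfull v).2).1] at this
    by_cases hxy : x = y
    · subst hxy
      simp [coxLabel, hf x hx']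
    · rcases hn.2 x hx' y hy' with h | h
      · exact absurd h hxy
      · obtain ⟨h1, h2⟩ := h
        rcases Nat.lt_or_gt_of_ne (fun e : L.idx x = L.idx y => by
          rw [e] at h1; simp [Nat.beq_refl] at h1) with hlt | hlt
        · exact key x hx' y hy' hlt
        · have h3 := key y hy' x hx' hlt
          rw [h2]
          have : f x * f y = f x * (f y * f x) * (f x)⁻¹ := by group
          rw [this, conj_pow, h3, mul_one, mul_inv_cancel]
  · have := hext _ (List.mem_map.2 ⟨r, hr, rfl⟩)
    rwa [L.evW_letters hv hf hfull] at this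

theorem Letters.of_sq (hn : L.nodesValid edges = true) :
    ∀ g ∈ L.nodes, (PresentedGroup.of g : CoxPresented α edges extra) * PresentedGroup.of g = 1 := by
  intro g hg
  simp only [Letters.nodesValid, Bool.and_eq_true, List.all_eq_true, decide_eq_true_eq, Bool.or_eq_true] at hn
  have hmem : (FreeGroup.of g * FreeGroup.of g) ^ coxLabel edges g g ∈ coxRelators edges ∪ {r | r ∈ extra} :=
    Or.inl ⟨g, (hn.1.2 g hg).1, g, (hn.1.2 g hg).1, rfl⟩
  have := PresentedGroup.one_of_mem hmem
  simpa [coxLabel, PresentedGroup.of] using this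

theorem Letters.lift_of :
    FreeGroup.lift (fun g => (PresentedGroup.of g : CoxPresented α edges extra)) =
      PresentedGroup.mk (coxRelators edges ∪ {r | r ∈ extra}) := by
  apply FreeGroup.ext_hom
  intro g
  simp [PresentedGroup.of]

/-- The relator words hold in the presented group. -/
theorem Letters.rels_hold (hv : L.valid = true) (hn : L.nodesValid edges = true) (hfull : L.Full) :
    ∀ w ∈ L.coxWords edges ++ L.extraWords extra,
      evW (L.ev fun g => (PresentedGroup.of g : CoxPresented α edges extra)) w = 1 := by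
  have hf := Letters.of_sq (extra := extra) hn
  simp only [Letters.nodesValid, Bool.and_eq_true, List.all_eq_true, decide_eq_true_eq, Bool.or_eq_true] at hn
  intro w hw
  rcases List.mem_append.1 hw with h | h
  · simp only [Letters.coxWords, List.mem_flatMap, List.mem_map, List.mem_filter] at h
    obtain ⟨x, hx, y, ⟨hy, -⟩, rfl⟩ := h
    rw [evW_wpow, evW_cons, evW_cons, evW_nil, mul_one, (L.ev_idx hv hf (hfull x).1 (hfull x).2).1,
      (L.ev_idx hv hf (hfull y).1 (hfull y).2).1]
    have hmem : (FreeGroup.of x * FreeGroup.of y) ^ coxLabel edges x y ∈ coxRelators edges ∪ {r | r ∈ extra} :=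
      Or.inl ⟨x, (hn.1.2 x hx).1, y, (hn.1.2 y hy).1, rfl⟩
    simpa [PresentedGroup.of] using PresentedGroup.one_of_mem hmem
  · obtain ⟨r, hr, rfl⟩ := List.mem_map.1 h
    rw [L.evW_letters hv hf hfull, Letters.lift_of]
    exact PresentedGroup.one_of_mem (Or.inr hr)

/-- The letters' values generate the presented group. -/
theorem Letters.gen_top (hv : L.valid = true) (hn : L.nodesValid edges = true) (hfull : L.Full) :
    Subgroup.closure ((L.ev fun g => (PresentedGroup.of g : CoxPresented α edges extra)) '' Set.Iio L.A.eps) = ⊤ := by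
  rw [eq_top_iff, ← PresentedGroup.closure_range_of]
  apply Subgroup.closure_mono
  rintro _ ⟨g, rfl⟩
  exact ⟨L.idx g, (hfull g).1, (L.ev_idx hv (Letters.of_sq hn) (hfull g).1 (hfull g).2).1⟩

end

theorem Letters.lift_evW {L : Letters α} {edges : List (α × ℕ × α)} {extra : List (FreeGroup α)}
    (hv : L.valid = true) (hn : L.nodesValid edges = true) (hfull : L.Full) (r : FreeGroup α) :
    evW (L.ev fun g => (PresentedGroup.of g : CoxPresented α edges extra)) (r.toWord.map L.letter) =
      PresentedGroup.mk (coxRelators edges ∪ {r | r ∈ extra}) r := by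
  rw [L.evW_letters hv (Letters.of_sq hn) hfull, Letters.lift_of]

/-- The action of a presented group given by checked networks. -/
theorem Letters.exists_rep {L : Letters α} {R : Rep} {edges : List (α × ℕ × α)} {extra : List (FreeGroup α)}
    {ws : List (List ℕ)} (hA : R.A = L.A) (hv : L.valid = true) (hn : L.nodesValid edges = true)
    (hfull : L.Full) (hws : ws = L.coxWords edges ++ L.extraWords extra) (hR : R.valid = true)
    (hrels : R.relsOK ws = true) :
    ∃ φ : CoxPresented α edges extra →* Equiv.Perm (Fin R.N),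
      ∀ x, x < L.A.eps → φ (L.ev (fun g => PresentedGroup.of g) x) = R.perm hR x := by
  let f : α → Equiv.Perm (Fin R.N) := fun g => R.perm hR (L.idx g)
  have hgood := Rep.perm_good hR
  have hn' := hn
  simp only [Letters.nodesValid, Bool.and_eq_true, List.all_eq_true, decide_eq_true_eq] at hn'
  have hf : ∀ g ∈ L.nodes, f g * f g = 1 := by
    intro g hg
    have := hgood.inv (L.idx g) (by rw [hA]; exact (hfull g).1.le)
    rwa [show R.A.invl (L.idx g) = L.idx g by rw [hA]; exact Nat.eq_of_beq_eq_true (hn'.1.2 g hg).2] at this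
  have hev : ∀ x, x < L.A.eps → L.ev f x = R.perm hR x := by
    intro x hx
    have hv' := hv
    simp only [Letters.valid, Bool.and_eq_true, List.all_eq_true, List.mem_range] at hv'
    obtain ⟨⟨⟨-, h3⟩, -⟩, -⟩ := hv'.2 x hx
    have h3' := Nat.eq_of_beq_eq_true h3
    simp only [Letters.ev, if_pos hx, f]
    cases hb : (L.gen x).2
    · rw [hb, cond_false] at h3'
      rw [cond_false]
      have h4 := hgood.inv (L.idx (L.gen x).1) (by rw [hA]; exact (hfull _).1.le)
      rw [hA, ← h3'] at h4
      exact (eq_inv_of_mul_eq_one_left h4).symm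
    · rw [hb, cond_true] at h3'
      rw [cond_true, ← h3']
  have hrel : ∀ w ∈ ws, evW (L.ev f) w = 1 := by
    intro w hw
    have hw' : ∀ x ∈ w, x < L.A.eps := fun x hx => by
      simp only [Rep.relsOK, List.all_eq_true, Bool.and_eq_true] at hrels
      have := (hrels w hw).1 x hx
      rw [Nat.blt_eq, hA] at this
      exact this
    have : evW (L.ev f) w = evW (R.perm hR) w := by
      unfold evW
      rw [List.map_congr_left fun x hx => hev x (hw' x hx)]
    rw [this]
    exact Rep.evW_eq_one hR hrels hw
  have hk := Letters.kills (extra := extra) hv hn hfull hf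
    (fun w hw => hrel w (by rw [hws]; exact List.mem_append.2 (Or.inl hw)))
    (fun w hw => hrel w (by rw [hws]; exact List.mem_append.2 (Or.inr hw)))
  refine ⟨PresentedGroup.toGroup hk, fun x hx => ?_⟩
  rw [← hev x hx]
  simp only [Letters.ev, if_pos hx]
  cases (L.gen x).2 <;> simp [PresentedGroup.toGroup.of]

/-- A subgroup generated by the images of listed words, in letters. -/
theorem Letters.map_closure_eq {L : Letters α} {edges : List (α × ℕ × α)} {extra : List (FreeGroup α)}
    (hv : L.valid = true) (hn : L.nodesValid edges = true) (hfull : L.Full) {S : Set (FreeGroup α)}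
    (Sx : List (FreeGroup α)) (hS : S = {r | r ∈ Sx}) {ws : List (List ℕ)}
    (hws : ws = Sx.map fun r => r.toWord.map L.letter) :
    (Subgroup.closure S).map (PresentedGroup.mk (coxRelators edges ∪ {r | r ∈ extra})) =
      Subgroup.closure ((fun w => evW (L.ev fun g => (PresentedGroup.of g : CoxPresented α edges extra)) w) ''
        {w | w ∈ ws}) := by
  rw [MonoidHom.map_closure]
  congr 1
  subst hS hws
  ext y
  simp only [Set.mem_image, Set.mem_ofPred_eq, List.mem_map]
  constructor
  · rintro ⟨r, hr, rfl⟩
    exact ⟨_, ⟨r, hr, rfl⟩, Letters.lift_evW hv hn hfull r⟩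
  · rintro ⟨_, ⟨r, hr, rfl⟩, rfl⟩
    exact ⟨r, hr, (Letters.lift_evW hv hn hfull r).symm⟩

end CfsgLib.Presented
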