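import Cfsg.Agent.Lib.Presented.VCert
import Mathlib.Algebra.Group.Subgroup.Finite
import Mathlib.GroupTheory.Index
import Mathlib.Data.Fintype.Perm

/-!
A small action sitting inside a large one: the pairs of permutations given by the letters of the small one.
-/
set_option autoImplicit false

namespace CfsgLib.Presented

open Vec

/-- `e` carries the points of `R'` into those of `R`, commuting with the chosen letters. -/
noncomputable def embOK (R R' : Rep) (e : List Stage) (letters : List ℕ) : Bool :=
  netOk e && Nat.ble R'.N R.N && agreeOn R'.N (applyNet e (ones R.N)) (ones R.N) &&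
    letters.all (fun y => Nat.blt y R.A.eps) && Nat.beq letters.length R'.A.eps &&
    (List.range R'.A.eps).all fun x => (slices R.m).all fun s =>
      agreeOn R'.N (applyNet (R.net (letters.getD x R.A.eps) ++ e) s) (applyNet (e ++ R'.net x) s)

variable {R R' : Rep} {e : List Stage} {letters : List ℕ}

/-- the values of the two actions at a letter of the small one -/
def pairGen (hR : R.valid = true) (hR' : R'.valid = true) (letters : List ℕ) (x : ℕ) :
    Equiv.Perm (Fin R.N) × Equiv.Perm (Fin R'.N) :=
  (R.perm hR (letters.getD x R.A.eps), R'.perm hR' x)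

/-- the pairs generated by the letters -/
def pairGroup (hR : R.valid = true) (hR' : R'.valid = true) (letters : List ℕ) :
    Subgroup (Equiv.Perm (Fin R.N) × Equiv.Perm (Fin R'.N)) :=
  Subgroup.closure (pairGen hR hR' letters '' Set.Iio R'.A.eps)

theorem pairGroup_map_fst (hR : R.valid = true) (hR' : R'.valid = true) (hlen : letters.length = R'.A.eps) :
    (pairGroup hR hR' letters).map (MonoidHom.fst _ _) =
      Subgroup.closure (R.perm hR '' {y | y ∈ letters}) := by
  rw [pairGroup, MonoidHom.map_closure]
  congr 1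
  ext p
  constructor
  · rintro ⟨_, ⟨x, hx, rfl⟩, rfl⟩
    refine ⟨letters.getD x R.A.eps, ?_, rfl⟩
    rw [Set.mem_ofPred_eq, List.getD_eq_getElem _ _ (by rw [hlen]; exact hx)]
    exact List.getElem_mem _
  · rintro ⟨y, hy, rfl⟩
    obtain ⟨x, hx, rfl⟩ := List.getElem_of_mem hy
    refine ⟨_, ⟨x, by rw [Set.mem_Iio, ← hlen]; exact hx, rfl⟩, ?_⟩
    show R.perm hR (letters.getD x R.A.eps) = _
    rw [List.getD_eq_getElem _ _ hx]

theorem pairGroup_map_snd (hR : R.valid = true) (hR' : R'.valid = true) :
    (pairGroup hR hR' letters).map (MonoidHom.snd _ _) =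
      Subgroup.closure (R'.perm hR' '' Set.Iio R'.A.eps) := by
  rw [pairGroup, MonoidHom.map_closure, Set.image_image]
  rfl

theorem embOK_lt (h : embOK R R' e letters = true) {i : ℕ} (hi : i < R'.N) : netPerm e i < R.N := by
  simp only [embOK, Bool.and_eq_true, Nat.ble_eq] at h
  have h1 := agreeOn_spec h.1.1.1.2 hi
  rw [testBit_applyNet h.1.1.1.1.1, testBit_ones, testBit_ones, decide_eq_decide] at h1
  exact h1.2 (lt_of_lt_of_le hi h.1.1.1.1.2)

theorem embOK_comm (hR : R.valid = true) (hR' : R'.valid = true) (h : embOK R R' e letters = true) {x : ℕ}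
    (hx : x < R'.A.eps) {i : ℕ} (hi : i < R'.N) :
    netPerm (R.net (letters.getD x R.A.eps)) (netPerm e i) = netPerm e (netPerm (R'.net x) i) := by
  have hlt := embOK_lt h hi
  have hlt' := embOK_lt h ((Rep.netPerm_lt_iff hR' x i).2 hi)
  have hN := (Rep.valid_spec hR).2.1
  apply eq_of_slices (lt_of_lt_of_le ((Rep.netPerm_lt_iff hR _ _).2 hlt) hN) (lt_of_lt_of_le hlt' hN)
  intro s hs
  simp only [embOK, Bool.and_eq_true, List.all_eq_true, List.mem_range] at h
  have he := h.1.1.1.1.1
  have h1 := agreeOn_spec (h.2 x hx s hs) hi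
  rwa [testBit_applyNet (by rw [netOk, List.all_append, Bool.and_eq_true]; exact ⟨(Rep.valid_spec hR).2.2.1 _, he⟩),
    testBit_applyNet (by rw [netOk, List.all_append, Bool.and_eq_true]; exact ⟨he, (Rep.valid_spec hR').2.2.1 _⟩),
    netPerm_append, netPerm_append, Equiv.Perm.mul_apply, Equiv.Perm.mul_apply] at h1

theorem pairGroup_comm (hR : R.valid = true) (hR' : R'.valid = true) (h : embOK R R' e letters = true) :
    ∀ p ∈ pairGroup hR hR' letters, ∀ i : Fin R'.N,
      p.1 ⟨netPerm e i, embOK_lt h i.2⟩ = ⟨netPerm e (p.2 i), embOK_lt h (p.2 i).2⟩ := by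
  intro p hp
  induction hp using Subgroup.closure_induction with
  | mem y hy =>
    obtain ⟨x, hx, rfl⟩ := hy
    intro i
    apply Fin.ext
    show ((R.perm hR (letters.getD x R.A.eps)) _ : ℕ) = netPerm e ((R'.perm hR' x i : Fin R'.N) : ℕ)
    rw [Rep.perm_val, Rep.perm_val]
    exact embOK_comm hR hR' h hx i.2
  | one => intro i; rfl
  | mul y z _ _ ihy ihz =>
    intro i
    show y.1 (z.1 _) = _
    rw [ihz i, ihy (z.2 i)]
    rfl
  | inv y _ ih =>
    intro i
    show y.1⁻¹ _ = _
    rw [Equiv.Perm.inv_eq_iff_eq]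
    refine Eq.trans ?_ (ih (y.2⁻¹ i)).symm
    apply Fin.ext
    simp

theorem pairGroup_fst_injective (hR : R.valid = true) (hR' : R'.valid = true) (h : embOK R R' e letters = true) :
    Function.Injective ((MonoidHom.fst _ _).comp (pairGroup hR hR' letters).subtype) := by
  rw [injective_iff_map_eq_one]
  rintro ⟨p, hp⟩ h1
  replace h1 : p.1 = 1 := h1
  apply Subtype.ext
  show p = 1
  refine Prod.ext h1 (Equiv.ext fun i => ?_)
  have h2 := pairGroup_comm hR hR' h p hp i
  rw [h1, Equiv.Perm.one_apply, Fin.mk.injEq] at h2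
  exact Fin.ext ((netPerm e).injective h2).symm

theorem pairGroup_evW_mem (hR : R.valid = true) (hR' : R'.valid = true) {w : List ℕ}
    (hw : ∀ x ∈ w, x < R'.A.eps) : evW (pairGen hR hR' letters) w ∈ pairGroup hR hR' letters := by
  refine list_prod_mem ?_
  intro p hp
  obtain ⟨x, hx, rfl⟩ := List.mem_map.1 hp
  exact Subgroup.subset_closure ⟨x, hw x hx, rfl⟩

/-- A word trivial on the small action but not on the large one doubles the bound. -/
theorem two_mul_le_card (hR : R.valid = true) (hR' : R'.valid = true) (h : embOK R R' e letters = true)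
    (w : List ℕ) (p : ℕ) (hw : R'.relsOK [w] = true)
    (hp : (Nat.blt p R.N && !(applyNet (R.netW (w.map fun x => letters.getD x R.A.eps))
      (Nat.shiftLeft 1 p)).testBit p) = true) :
    2 * Nat.card (Subgroup.closure (R'.perm hR' '' Set.Iio R'.A.eps)) ≤
      Nat.card (Subgroup.closure (R.perm hR '' {y | y ∈ letters})) := by
  classical
  have hlen : letters.length = R'.A.eps := by
    simp only [embOK, Bool.and_eq_true] at h
    exact Nat.eq_of_beq_eq_true h.1.2
  simp only [Bool.and_eq_true, Nat.blt_eq, Bool.not_eq_true'] at hp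
  let L := pairGroup hR hR' letters
  have hlt : ∀ x ∈ w, x < R'.A.eps := by
    intro x hx
    have h2 := hw
    simp only [Rep.relsOK, List.all_eq_true, Bool.and_eq_true] at h2
    have := (h2 w (by simp)).1 x hx
    rwa [Nat.blt_eq] at this
  let g : L := ⟨_, pairGroup_evW_mem (letters := letters) hR hR' hlt⟩
  let f : L →* Equiv.Perm (Fin R'.N) := (MonoidHom.snd _ _).comp L.subtype
  have hg : f g = 1 := by
    show MonoidHom.snd _ _ (evW _ w) = 1
    simp only [evW, map_list_prod, List.map_map]
    exact Rep.evW_eq_one hR' hw (by simp)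
  have hne : g ≠ 1 := by
    intro he
    have h1 : MonoidHom.fst _ _ (g : Equiv.Perm (Fin R.N) × Equiv.Perm (Fin R'.N)) = 1 := by
      rw [he]; rfl
    change MonoidHom.fst _ _ (evW _ w) = 1 at h1
    simp only [evW, map_list_prod, List.map_map] at h1
    have h2 : evW (R.perm hR) (w.map fun x => letters.getD x R.A.eps) = 1 := by
      rw [evW, List.map_map]
      exact h1
    have h3 := Rep.netW_perm hR (w.map fun x => letters.getD x R.A.eps) ⟨p, hp.1⟩
    rw [h2, Equiv.Perm.one_apply] at h3
    have h4 := hp.2
    change (applyNet _ (1 <<< p)).testBit p = false at h4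
    rw [testBit_applyNet (Rep.netOk_netW hR _), ← h3] at h4
    simp [Nat.testBit_shiftLeft] at h4
  have h2 : 2 ≤ Nat.card f.ker := by
    have : Nontrivial f.ker := ⟨⟨g, hg⟩, 1, fun he => hne (congrArg Subtype.val he)⟩
    exact Finite.one_lt_card
  have h3 : Nat.card f.range = Nat.card (Subgroup.closure (R'.perm hR' '' Set.Iio R'.A.eps)) := by
    rw [MonoidHom.range_comp, Subgroup.range_subtype, pairGroup_map_snd]
  have h4 : Nat.card L = Nat.card f.range * Nat.card f.ker := by
    rw [← Subgroup.index_ker, mul_comm, Subgroup.card_mul_index]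
  calc 2 * Nat.card (Subgroup.closure (R'.perm hR' '' Set.Iio R'.A.eps)) ≤ Nat.card L := by
        rw [h4, h3, mul_comm]; exact Nat.mul_le_mul_left _ h2
    _ = Nat.card (Subgroup.closure (R.perm hR '' {y | y ∈ letters})) := by
        rw [← pairGroup_map_fst hR hR' hlen,
          ← Nat.card_congr (MonoidHom.ofInjective (pairGroup_fst_injective hR hR' h)).toEquiv.symm,
          MonoidHom.range_comp, Subgroup.range_subtype]

/-- The large action is at least as big as the small one. -/
theorem card_le_card_of_emb (hR : R.valid = true) (hR' : R'.valid = true) (h : embOK R R' e letters = true) :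
    Nat.card (Subgroup.closure (R'.perm hR' '' Set.Iio R'.A.eps)) ≤
      Nat.card (Subgroup.closure (R.perm hR '' {y | y ∈ letters})) := by
  have hlen : letters.length = R'.A.eps := by
    simp only [embOK, Bool.and_eq_true] at h
    exact Nat.eq_of_beq_eq_true h.1.2
  rw [← pairGroup_map_fst hR hR' hlen, ← pairGroup_map_snd (letters := letters) hR hR']
  have h2 : Nat.card ((pairGroup hR hR' letters).map (MonoidHom.fst _ _)) = Nat.card (pairGroup hR hR' letters) := by
    rw [← Nat.card_congr (MonoidHom.ofInjective (pairGroup_fst_injective hR hR' h)).toEquiv.symm,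
      MonoidHom.range_comp, Subgroup.range_subtype]
  rw [h2]
  exact Nat.card_le_card_of_surjective _
    ((MonoidHom.snd _ _).subgroupMap_surjective (pairGroup hR hR' letters))

end CfsgLib.Presented
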