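import Cfsg.Agent.Lib.Presented.Enum
import Mathlib.GroupTheory.Index
import Mathlib.GroupTheory.GroupAction.Quotient
import Mathlib.Data.Finset.Card

/-!
An index bound straight from a logged coset enumeration: the surviving points are closed under the letters.
-/
set_option autoImplicit false

namespace CfsgLib.Presented

/-- The surviving points of an enumeration, with the fact giving the image under each of the chosen letters. -/
structure Cover where
  n : ℕ
  nF : ℕ
  gens : List ℕ
  live : NTree
  edge : NTree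
  dst : NTree

/-- the fact numbered `h / 2` moves `a` to `b` by `x` -/
noncomputable def edgeOK (d : Enum) (nF h x a b : ℕ) : Bool :=
  Nat.blt (h / 2) nF && Nat.ble x d.A.eps &&
    (fun f : ℕ => cond (Nat.beq (h % 2) 0)
      (Nat.beq (fx f) (d.A.invl x) && Nat.beq (fa f) a && Nat.beq (fb f) b &&
        Nat.beq (d.A.invl (d.A.invl x)) x && Nat.ble (d.A.invl x) d.A.eps)
      (Nat.beq (fx f) x && Nat.beq (fb f) a && Nat.beq (fa f) b)) (d.facts.get 50 (h / 2))

/-- the checks -/
noncomputable def Cover.ok (C : Cover) (d : Enum) : Bool :=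
  Nat.blt 0 C.n && Nat.beq (C.live.get 22 0) 0 &&
    (List.range C.n).all fun i => (List.range C.gens.length).all fun j =>
      Nat.blt (C.dst.get 16 (i * C.gens.length + j)) C.n &&
        edgeOK d C.nF (C.edge.get 24 (i * C.gens.length + j)) (C.gens.getD j 0) (C.live.get 22 i)
          (C.live.get 22 (C.dst.get 16 (i * C.gens.length + j)))

variable {G : Type*} [Group G]

theorem edgeOK_sound {X : Type*} [MulAction G X] {d : Enum} {ev : ℕ → G} {base : X} {nF h x a b : ℕ}
    (hv : d.valid = true) (hI : d.Interp ev base) (hok : d.OKOn 0 nF) (he : edgeOK d nF h x a b = true) :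
    ev x • d.pt ev base a = d.pt ev base b := by
  simp only [edgeOK, Bool.and_eq_true, Nat.blt_eq, Nat.ble_eq] at he
  obtain ⟨⟨hlt, hx⟩, hf⟩ := he
  obtain ⟨-, hfact⟩ := Enum.holds_of_ok hv hI hok _ hlt
  cases hd : Nat.beq (h % 2) 0
  · rw [hd, cond_false] at hf
    simp only [Bool.and_eq_true] at hf
    rwa [Nat.eq_of_beq_eq_true hf.1.1, Nat.eq_of_beq_eq_true hf.1.2, Nat.eq_of_beq_eq_true hf.2] at hfact
  · rw [hd, cond_true] at hf
    simp only [Bool.and_eq_true, Nat.ble_eq] at hf
    obtain ⟨⟨⟨⟨h1, h2⟩, h3⟩, h4⟩, h5⟩ := hf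
    rw [Nat.eq_of_beq_eq_true h1, Nat.eq_of_beq_eq_true h2, Nat.eq_of_beq_eq_true h3] at hfact
    have hinv := (Enum.good hv hI).inv _ h5
    rw [Nat.eq_of_beq_eq_true h4] at hinv
    rw [← hfact, smul_smul, hinv, one_smul]

/-- A closed finite cover bounds the index. -/
theorem Cover.relIndex_le {d : Enum} {ev : ℕ → G} {C : Cover} {H K : Subgroup G} (hv : d.valid = true)
    (hok : d.OKOn 0 C.nF) (hC : C.ok d = true) (hone : ev d.A.eps = 1)
    (hinv : ∀ x, x < d.A.eps → ev (d.A.invl x) * ev x = 1) (hrels : ∀ w ∈ d.rels, evW ev w = 1)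
    (hsubs : ∀ w ∈ d.subs, evW ev w ∈ H)
    (hK : K ≤ Subgroup.closure (ev '' {x | x ∈ C.gens})) :
    H.relIndex K ≠ 0 ∧ H.relIndex K ≤ C.n := by
  classical
  have hI : d.Interp ev ((1 : G) : G ⧸ H) := ⟨hone, hinv, hrels, fun w hw => by
    rw [MulAction.Quotient.smul_coe, smul_eq_mul, mul_one, QuotientGroup.eq]
    simpa using hsubs w hw⟩
  simp only [Cover.ok, Bool.and_eq_true, List.all_eq_true, List.mem_range, Nat.blt_eq] at hC
  obtain ⟨⟨hn, h0⟩, hcl⟩ := hC
  let S : Finset (G ⧸ H) := (Finset.range C.n).image fun i => d.pt ev ((1 : G) : G ⧸ H) (C.live.get 22 i)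
  have hbase : ((1 : G) : G ⧸ H) ∈ S := Finset.mem_image.2 ⟨0, Finset.mem_range.2 hn, by
    rw [Nat.eq_of_beq_eq_true h0, Enum.pt]; simp⟩
  have hclosed : ∀ g ∈ Subgroup.closure (ev '' {x | x ∈ C.gens}), ∀ q ∈ S, g • q ∈ S := by
    have hgen : ∀ y ∈ ev '' {x | x ∈ C.gens}, ∀ q ∈ S, y • q ∈ S := by
      rintro _ ⟨x, hx, rfl⟩ q hq
      obtain ⟨i, hi, rfl⟩ := Finset.mem_image.1 hq
      obtain ⟨j, hj, hjx⟩ := List.mem_iff_getElem.1 hx
      obtain ⟨ht, he⟩ := hcl i (Finset.mem_range.1 hi) j hj
      rw [show C.gens.getD j 0 = x by rw [← hjx]; simp [hj]] at he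
      exact Finset.mem_image.2 ⟨_, Finset.mem_range.2 ht, (edgeOK_sound hv hI hok he).symm⟩
    intro g hg
    induction hg using Subgroup.closure_induction'' with
    | one => exact fun q hq => by rwa [one_smul]
    | mem y hy => exact hgen y hy
    | inv_mem y hy =>
      intro q hq
      have himg : S.image (fun r => y • r) = S := Finset.eq_of_subset_of_card_le
        (fun r hr => by
          obtain ⟨r', hr', rfl⟩ := Finset.mem_image.1 hr
          exact hgen y hy r' hr')
        (le_of_eq (Finset.card_image_of_injective _ (MulAction.injective y)).symm)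
      rw [← himg] at hq
      obtain ⟨r', hr', rfl⟩ := Finset.mem_image.1 hq
      rwa [inv_smul_smul]
    | mul y z _ _ ihy ihz => exact fun q hq => by rw [mul_smul]; exact ihy _ (ihz q hq)
  let f : K ⧸ H.subgroupOf K → G ⧸ H := Quotient.map' Subtype.val (fun a b h => by
    rw [QuotientGroup.leftRel_apply] at h ⊢; exact h)
  have hf : Function.Injective f := by
    intro p q
    induction p using QuotientGroup.induction_on with
    | _ a => induction q using QuotientGroup.induction_on with
      | _ b =>
        intro h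
        have h' : ((a : G) : G ⧸ H) = ((b : G) : G ⧸ H) := h
        have h2 := QuotientGroup.eq.1 h'
        exact QuotientGroup.eq.2 h2
  have hr : ∀ p, f p ∈ S := by
    intro p
    induction p using QuotientGroup.induction_on with
    | _ a =>
      have := hclosed a (hK a.2) _ hbase
      rw [MulAction.Quotient.smul_coe, smul_eq_mul, mul_one] at this
      exact this
  let g : K ⧸ H.subgroupOf K → S := fun p => ⟨f p, hr p⟩
  have hg : Function.Injective g := fun p q h => hf (congrArg Subtype.val h)
  have : Finite (K ⧸ H.subgroupOf K) := Finite.of_injective g hg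
  refine ⟨Subgroup.index_ne_zero_of_finite, ?_⟩
  rw [Subgroup.relIndex, Subgroup.index]
  refine le_trans (Nat.card_le_card_of_injective g hg) ?_
  rw [Nat.card_eq_fintype_card, Fintype.card_coe]
  exact le_trans Finset.card_image_le (Finset.card_range _).le

end CfsgLib.Presented
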