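import Cfsg.Agent.Lib.Presented.MatCheck
import Cfsg.Agent.Lib.Presented.Cert.Fi22M78
import Cfsg.Agent.Lib.Presented.Cert.Fi22UCert

/-!
Kernel checks for the 78-dimensional matrices of the presented Fischer group on 22 letters.
-/
set_option autoImplicit false
set_option maxRecDepth 8000

namespace CfsgLib.Presented.Fi22Mat78

open Fi22UCert (relWords)
open MatCheck

theorem data_ok : dataOK 78 8 Fi22M78.idx Fi22M78.gens = true := by decide +kernel

theorem squares_ok : ((List.range 9).all fun x => check 78 13 8 Fi22M78.idx Fi22M78.gens [x, x]) = true := by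
  decide +kernel

theorem rels_ok : (relWords.all fun w => check 78 13 8 Fi22M78.idx Fi22M78.gens w) = true := by decide +kernel

end CfsgLib.Presented.Fi22Mat78
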