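import Cfsg.Agent.Lib.Presented.Vec
import Cfsg.Agent.Lib.Presented.Tree
import Mathlib.Data.ZMod.Basic
import Mathlib.Data.Matrix.Basic
import Mathlib.LinearAlgebra.Matrix.Defs

/-!
Kernel-checked identities between products of sparse matrices over `ZMod p`.

A matrix product is computed exactly over the natural numbers, each row packed into one number with `W` bits per
entry; the final rows are tested for being congruent to the rows of the identity in every lane at once.
-/
set_option autoImplicit false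

namespace CfsgLib.Presented.MatCheck

/-- a sparse matrix: for each row the list of its (column, entry) pairs -/
abbrev Rows : Type := ATree (List (ℕ × ℕ))

/-- sparse dot product -/
noncomputable def dot (T : ATree ℕ) (row : List (ℕ × ℕ)) : ℕ :=
  List.rec (motive := fun _ => ℕ) 0 (fun p _ ih => Nat.add (Nat.mul p.2 (T.get p.1)) ih) row

theorem dot_eq (T : ATree ℕ) : ∀ row, dot T row = (row.map fun p => p.2 * T.get p.1).sum
  | [] => rfl
  | p :: row => by
    show Nat.add (Nat.mul p.2 (T.get p.1)) (dot T row) = _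
    rw [dot_eq T row, List.map_cons, List.sum_cons]
    rfl

/-- map a tree, evaluating every leaf before continuing -/
noncomputable def mapK {α : Type} {β : Type} (f : α → ℕ) (t : ATree α) : (ATree ℕ → β) → β :=
  ATree.rec (motive := fun _ => (ATree ℕ → β) → β)
    (fun a k => Vec.force (f a) fun v => k (.leaf v))
    (fun _ _ il ir k => il fun L => ir fun R => k (.node L R)) t

/-- map a tree -/
def mapT {α : Type} (f : α → ℕ) : ATree α → ATree ℕ
  | .leaf a => .leaf (f a)
  | .node l r => .node (mapT f l) (mapT f r)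

theorem mapK_eq {α β : Type} (f : α → ℕ) : ∀ (t : ATree α) (k : ATree ℕ → β), mapK f t k = k (mapT f t)
  | .leaf a, k => by simp [mapK, mapT, Vec.force_eq]
  | .node l r, k => by
    show mapK f l (fun L => mapK f r fun R => k (.node L R)) = _
    rw [mapK_eq f l, mapK_eq f r]
    rfl

theorem get_mapT {α : Type} (f : α → ℕ) : ∀ (t : ATree α) (n : ℕ), (mapT f t).get n = f (t.get n)
  | .leaf a, n => rfl
  | .node l r, n => by
    show Bool.rec ((mapT f r).get _) ((mapT f l).get _) (Nat.beq (Nat.mod n 2) 0)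
      = f (Bool.rec (r.get _) (l.get _) (Nat.beq (Nat.mod n 2) 0))
    cases Nat.beq (Nat.mod n 2) 0
    · exact get_mapT f r _
    · exact get_mapT f l _

/-- the rows of the matrix numbered `x` -/
def rowsOf (gens : List Rows) (x : ℕ) : Rows := gens.getD x (.leaf [])

/-- the packed rows of a product, computed from the right -/
noncomputable def runK {β : Type} (gens : List Rows) (T0 : ATree ℕ) (w : List ℕ) : (ATree ℕ → β) → β :=
  List.rec (motive := fun _ => (ATree ℕ → β) → β) (fun k => k T0)
    (fun x _ ih k => ih fun U => mapK (dot U) (rowsOf gens x) k) w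

/-- the packed rows of a product -/
noncomputable def runT (gens : List Rows) (T0 : ATree ℕ) : List ℕ → ATree ℕ
  | [] => T0
  | x :: w => mapT (dot (runT gens T0 w)) (rowsOf gens x)

theorem runK_eq {β : Type} (gens : List Rows) (T0 : ATree ℕ) :
    ∀ (w : List ℕ) (k : ATree ℕ → β), runK gens T0 w k = k (runT gens T0 w)
  | [], k => rfl
  | x :: w, k => by
    show runK gens T0 w (fun U => mapK (dot U) (rowsOf gens x) k) = _
    rw [runK_eq gens T0 w, mapK_eq]
    rfl

/-- the number with all `N` lanes equal to `D` -/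
noncomputable def lanes (B D : ℕ) (N : ℕ) : ℕ :=
  Nat.rec (motive := fun _ => ℕ) 0 (fun _ ih => Nat.add D (Nat.mul B ih)) N

/-- well-formedness of the data -/
noncomputable def dataOK (N sb : ℕ) (idx : ATree ℕ) (gens : List Rows) : Bool :=
  (List.range N).all (fun i => Nat.beq (idx.get i) i) &&
    gens.all fun t => (List.range N).all fun i =>
      (t.get i).all (fun p => Nat.blt p.1 N) && Nat.ble ((t.get i).map Prod.snd).sum (2 ^ sb)

/-- the test that a product of the matrices is the identity modulo `p` -/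
noncomputable def check (N p sb : ℕ) (idx : ATree ℕ) (gens : List Rows) (w : List ℕ) : Bool :=
  Vec.force (sb * w.length + 10) fun W =>
  Vec.force (lanes (2 ^ W) (2 ^ (W - 5) - 1) N) fun C =>
    w.all (fun x => Nat.blt x gens.length) &&
    Nat.blt ((2 ^ sb) ^ w.length + p) (2 ^ W) &&
    Nat.blt (p * (2 ^ (W - 5) - 1)) (2 ^ W) &&
    Nat.blt C ((2 ^ W) ^ N) &&
    (List.range N).all (fun j => Nat.beq (C / (2 ^ W) ^ j % 2 ^ W) (2 ^ (W - 5) - 1)) &&
    mapK (fun i => (2 ^ W) ^ i) idx fun T0 =>
      runK gens T0 w fun T => (List.range N).all fun i =>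
        Vec.force (T.get i + (p - 1) * (2 ^ W) ^ i) fun X =>
          Nat.beq (X % p) 0 && Vec.force (X / p) fun q => Nat.beq (Nat.land q C) q

/-! ### Lanes -/

theorem digit_sum (B : ℕ) : ∀ (n : ℕ) (f : ℕ → ℕ) (j : ℕ), (∀ k, k < n → f k < B) → j < n →
    (∑ k ∈ Finset.range n, f k * B ^ k) / B ^ j % B = f j
  | 0, f, j, _, hj => absurd hj (Nat.not_lt_zero j)
  | n + 1, f, j, hf, hj => by
    have hB : 0 < B := lt_of_le_of_lt (Nat.zero_le _) (hf 0 (Nat.succ_pos n))
    have e : ∑ k ∈ Finset.range (n + 1), f k * B ^ k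
        = f 0 + B * ∑ k ∈ Finset.range n, f (k + 1) * B ^ k := by
      rw [Finset.sum_range_succ', Finset.mul_sum, add_comm, pow_zero, mul_one]
      congr 1
      exact Finset.sum_congr rfl fun k _ => by ring
    cases j with
    | zero => rw [e, pow_zero, Nat.div_one, Nat.add_mul_mod_self_left, Nat.mod_eq_of_lt (hf 0 (Nat.succ_pos n))]
    | succ j =>
      rw [e, pow_succ', ← Nat.div_div_eq_div_mul, Nat.add_mul_div_left _ _ hB,
        Nat.div_eq_of_lt (hf 0 (Nat.succ_pos n)), zero_add]
      exact digit_sum B n (fun k => f (k + 1)) j (fun k hk => hf _ (Nat.succ_lt_succ hk)) (Nat.lt_of_succ_lt_succ hj)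

theorem eq_sum_digits (B : ℕ) : ∀ (n q : ℕ), q < B ^ n →
    q = ∑ k ∈ Finset.range n, q / B ^ k % B * B ^ k
  | 0, q, hq => by simp at hq ⊢; exact hq
  | n + 1, q, hq => by
    have hq' : q / B < B ^ n := Nat.div_lt_of_lt_mul (by rwa [← pow_succ'])
    have h := eq_sum_digits B n (q / B) hq'
    rw [Finset.sum_range_succ', pow_zero, Nat.div_one, mul_one]
    conv_lhs => rw [← Nat.div_add_mod q B, h, Finset.mul_sum]
    congr 1
    refine Finset.sum_congr rfl fun k _ => ?_
    rw [Nat.div_div_eq_div_mul, pow_succ']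
    ring

theorem digit_and_le (q C W j : ℕ) :
    (q &&& C) / (2 ^ W) ^ j % 2 ^ W ≤ C / (2 ^ W) ^ j % 2 ^ W := by
  rw [← pow_mul]
  have h : (q &&& C) / 2 ^ (W * j) % 2 ^ W = (q / 2 ^ (W * j) % 2 ^ W) &&& (C / 2 ^ (W * j) % 2 ^ W) := by
    apply Nat.eq_of_testBit_eq
    intro i
    simp only [Nat.testBit_mod_two_pow, Nat.testBit_div_two_pow, Nat.testBit_and]
    cases decide (i < W) <;> simp
  rw [h]
  exact Nat.and_le_right

/-! ### Matrices -/

variable {N : ℕ}

/-- an entry of a sparse row -/
def coeff (row : List (ℕ × ℕ)) (k : ℕ) : ℕ := (row.map fun p => if p.1 = k then p.2 else 0).sum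

theorem sum_coeff (f : ℕ → ℕ) : ∀ row : List (ℕ × ℕ), (∀ p ∈ row, p.1 < N) →
    ∑ k : Fin N, coeff row k * f k = (row.map fun p => p.2 * f p.1).sum
  | [], _ => by simp [coeff]
  | p :: row, h => by
    have hc : ∀ k, coeff (p :: row) k = (if p.1 = k then p.2 else 0) + coeff row k := fun k => by simp [coeff]
    simp only [hc, add_mul, Finset.sum_add_distrib, List.map_cons, List.sum_cons,
      sum_coeff f row fun q hq => h q (List.mem_cons_of_mem _ hq)]
    congr 1
    rw [Finset.sum_eq_single (⟨p.1, h p List.mem_cons_self⟩ : Fin N)]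
    · simp
    · intro b _ hb
      rw [if_neg, zero_mul]
      exact fun e => hb (Fin.ext e.symm)
    · simp

/-- the matrix numbered `x` -/
noncomputable def natMat (N : ℕ) (gens : List Rows) (x : ℕ) : Matrix (Fin N) (Fin N) ℕ :=
  fun i k => coeff ((rowsOf gens x).get i) k

/-- the matrix of a word -/
noncomputable def natProd (N : ℕ) (gens : List Rows) (w : List ℕ) : Matrix (Fin N) (Fin N) ℕ := (w.map (natMat N gens)).prod

/-- the matrix modulo `p` -/
noncomputable def mat (N p : ℕ) (gens : List Rows) (x : ℕ) : Matrix (Fin N) (Fin N) (ZMod p) :=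
  (Nat.castRingHom (ZMod p)).mapMatrix (natMat N gens x)

theorem rows_spec {sb : ℕ} {idx : ATree ℕ} {gens : List Rows} (hd : dataOK N sb idx gens = true) {x : ℕ}
    (hx : x < gens.length) (i : Fin N) :
    (∀ q ∈ (rowsOf gens x).get i, q.1 < N) ∧ (((rowsOf gens x).get i).map Prod.snd).sum ≤ 2 ^ sb := by
  simp only [dataOK, Bool.and_eq_true, List.all_eq_true, List.mem_range, Nat.ble_eq, Nat.blt_eq] at hd
  have hm : rowsOf gens x ∈ gens := by
    rw [rowsOf, List.getD_eq_getElem _ _ hx]
    exact List.getElem_mem hx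
  exact hd.2 _ hm i i.2

theorem runT_spec {sb B : ℕ} {idx : ATree ℕ} {gens : List Rows} (hd : dataOK N sb idx gens = true) {T0 : ATree ℕ}
    (h0 : ∀ i : Fin N, T0.get i = B ^ (i : ℕ)) :
    ∀ w : List ℕ, (∀ x ∈ w, x < gens.length) → ∀ i : Fin N,
      (runT gens T0 w).get i = ∑ k : Fin N, natProd N gens w i k * B ^ (k : ℕ) ∧
        ∑ k : Fin N, natProd N gens w i k ≤ (2 ^ sb) ^ w.length
  | [], _, i => by
    simp only [natProd, List.map_nil, List.prod_nil, runT, List.length_nil, pow_zero]
    constructor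
    · rw [h0 i, Finset.sum_eq_single i]
      · simp
      · intro b _ hb
        simp [Matrix.one_apply_ne hb.symm]
      · simp
    · simp [Matrix.one_apply]
  | x :: w, hw, i => by
    obtain ⟨hcol, hsum⟩ := rows_spec hd (hw x List.mem_cons_self) i
    have ih := runT_spec hd h0 w fun y hy => hw y (List.mem_cons_of_mem _ hy)
    have hp : natProd N gens (x :: w) = natMat N gens x * natProd N gens w := by
      simp [natProd]
    constructor
    · have e : ∀ l : Fin N, (runT gens T0 w).get l = ∑ k : Fin N, natProd N gens w l k * B ^ (k : ℕ) :=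
        fun l => (ih l).1
      show (mapT (dot (runT gens T0 w)) (rowsOf gens x)).get i = _
      rw [get_mapT, dot_eq, ← sum_coeff (fun l => (runT gens T0 w).get l) _ hcol, hp]
      simp only [e, Matrix.mul_apply, Finset.mul_sum, Finset.sum_mul]
      rw [Finset.sum_comm]
      exact Finset.sum_congr rfl fun k _ => Finset.sum_congr rfl fun l _ => by rw [natMat, mul_assoc]
    · rw [hp]
      simp only [Matrix.mul_apply]
      rw [Finset.sum_comm]
      calc ∑ l : Fin N, ∑ k : Fin N, natMat N gens x i l * natProd N gens w l k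
          = ∑ l : Fin N, natMat N gens x i l * ∑ k : Fin N, natProd N gens w l k := by simp [Finset.mul_sum]
        _ ≤ ∑ l : Fin N, natMat N gens x i l * (2 ^ sb) ^ w.length :=
          Finset.sum_le_sum fun l _ => Nat.mul_le_mul_left _ (ih l).2
        _ = (∑ l : Fin N, natMat N gens x i l * (fun _ => 1) (l : ℕ)) * (2 ^ sb) ^ w.length := by
          simp [Finset.sum_mul]
        _ ≤ 2 ^ sb * (2 ^ sb) ^ w.length := by
          refine Nat.mul_le_mul_right _ ?_
          simp only [natMat]
          rw [sum_coeff (fun _ => 1) _ hcol]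
          simpa using hsum
        _ = (2 ^ sb) ^ (x :: w).length := by rw [List.length_cons, pow_succ']

/-- A checked word is the identity modulo `p`. -/
theorem check_spec {p sb : ℕ} [NeZero p] {idx : ATree ℕ} {gens : List Rows} (hd : dataOK N sb idx gens = true)
    {w : List ℕ} (h : check N p sb idx gens w = true) :
    (∀ x ∈ w, x < gens.length) ∧ (w.map (mat N p gens)).prod = 1 := by
  simp only [check, Vec.force_eq, mapK_eq, runK_eq, Bool.and_eq_true, List.all_eq_true, List.mem_range,
    Nat.blt_eq] at h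
  obtain ⟨⟨⟨⟨⟨hlt, hbd⟩, hpD⟩, hC⟩, hCd⟩, hfin⟩ := h
  refine ⟨hlt, ?_⟩
  set W := sb * w.length + 10
  set B := 2 ^ W with hB
  set D := 2 ^ (W - 5) - 1
  set C := lanes B D N
  set T0 := mapT (fun i => B ^ i) idx with hT0
  have hd' := hd
  simp only [dataOK, Bool.and_eq_true, List.all_eq_true, List.mem_range] at hd'
  have h0 : ∀ i : Fin N, T0.get i = B ^ (i : ℕ) := fun i => by
    rw [hT0, get_mapT, Nat.eq_of_beq_eq_true (hd'.1 i i.2)]
  have hprod : (w.map (mat N p gens)).prod = (Nat.castRingHom (ZMod p)).mapMatrix (natProd N gens w) := by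
    rw [natProd, map_list_prod, List.map_map]
    rfl
  rw [hprod]
  ext i j
  obtain ⟨hT, hs⟩ := runT_spec (B := B) hd h0 w hlt i
  set X := (runT gens T0 w).get (i : ℕ) + (p - 1) * B ^ (i : ℕ) with hX
  obtain ⟨hmod, hq⟩ := hfin i i.2
  have hmod' : X % p = 0 := Nat.eq_of_beq_eq_true hmod
  have hq' : (X / p) &&& C = X / p := Nat.eq_of_beq_eq_true hq
  have hp1 : 1 ≤ p := Nat.one_le_iff_ne_zero.2 (NeZero.ne p)
  let f : ℕ → ℕ := fun k =>
    (if hk : k < N then natProd N gens w i ⟨k, hk⟩ else 0) + if k = (i : ℕ) then p - 1 else 0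
  have hXf : X = ∑ k ∈ Finset.range N, f k * B ^ k := by
    rw [hX, hT, ← Fin.sum_univ_eq_sum_range (fun k => f k * B ^ k) N]
    simp only [f, Fin.is_lt, dite_true, add_mul, Finset.sum_add_distrib]
    congr 1
    rw [Finset.sum_eq_single i]
    · simp
    · intro b _ hb
      rw [if_neg (fun e => hb (Fin.ext e)), zero_mul]
    · simp
  have hfb : ∀ k, k < N → f k < B := by
    intro k hk
    simp only [f, dif_pos hk]
    have h1 : natProd N gens w i ⟨k, hk⟩ ≤ (2 ^ sb) ^ w.length :=
      le_trans (Finset.single_le_sum (f := fun k => natProd N gens w i k) (fun _ _ => Nat.zero_le _)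
        (Finset.mem_univ _)) hs
    split_ifs <;> omega
  have hqlt : X / p < B ^ N := lt_of_le_of_lt (hq' ▸ Nat.and_le_right) hC
  have hqd : ∀ k, k < N → X / p / B ^ k % B ≤ D := by
    intro k hk
    rw [← hq', hB]
    exact le_trans (digit_and_le _ _ W k) (le_of_eq (Nat.eq_of_beq_eq_true (hCd k hk)))
  have hXq : X = ∑ k ∈ Finset.range N, (p * (X / p / B ^ k % B)) * B ^ k := by
    conv_lhs => rw [← Nat.div_add_mod X p, hmod', add_zero, eq_sum_digits B N _ hqlt, Finset.mul_sum]
    exact Finset.sum_congr rfl fun k _ => by ring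
  have e1 := digit_sum B N f j hfb j.2
  have e2 := digit_sum B N (fun k => p * (X / p / B ^ k % B)) j
    (fun k hk => lt_of_le_of_lt (Nat.mul_le_mul_left p (hqd k hk)) hpD) j.2
  rw [← hXf] at e1
  rw [← hXq, e1] at e2
  have hcast : ((f j : ℕ) : ZMod p) = 0 := by rw [e2]; simp
  simp only [f, Fin.is_lt, dite_true, Nat.cast_add] at hcast
  rw [RingHom.mapMatrix_apply, Matrix.map_apply, Matrix.one_apply]
  by_cases hij : i = j
  · subst hij
    rw [if_pos rfl, Nat.cast_sub hp1, ZMod.natCast_self, Nat.cast_one, zero_sub, ← sub_eq_add_neg,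
      sub_eq_zero] at hcast
    rw [if_pos rfl]
    exact hcast
  · rw [if_neg (fun e => hij (Fin.ext e.symm)), Nat.cast_zero, add_zero] at hcast
    rw [if_neg hij]
    exact hcast

end CfsgLib.Presented.MatCheck
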