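import Cfsg.Agent.Lib.Presented.Fi22Simple
import Cfsg.Agent.Lib.Presented.MatCheck
import Cfsg.Agent.Lib.Presented.Fi22Mat78Check
import Mathlib.LinearAlgebra.Matrix.GeneralLinearGroup.Defs

/-!
A faithful 78-dimensional representation modulo 13 of the presented Fischer group on 22 letters.
-/
set_option autoImplicit false
set_option maxRecDepth 8000

namespace CfsgLib.Presented.Fi22Mat78

open Fi22UCosets (letters letters_valid nodes_valid full relWords_eq idxOf genOf)
open Fi22UCert (relWords)
open MatCheck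

theorem mat_sq (x : ℕ) (hx : x < 9) :
    mat 78 13 Fi22M78.gens x * mat 78 13 Fi22M78.gens x = 1 := by
  have h := squares_ok
  simp only [List.all_eq_true, List.mem_range] at h
  simpa using (check_spec data_ok (h x hx)).2

theorem idx_lt (g : Cfsg.Spor.Fi22.Gen) : idxOf g < 9 := by cases g <;> decide

theorem genOf_spec : ∀ x, x < 9 → (genOf x).2 = true ∧ idxOf (genOf x).1 = x := by decide

/-- the images of the generators -/
noncomputable def img (g : Cfsg.Spor.Fi22.Gen) : GL (Fin 78) (ZMod 13) :=
  ⟨mat 78 13 Fi22M78.gens (idxOf g), mat 78 13 Fi22M78.gens (idxOf g), mat_sq _ (idx_lt g), mat_sq _ (idx_lt g)⟩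

theorem img_sq (g : Cfsg.Spor.Fi22.Gen) : img g * img g = 1 := Units.ext (mat_sq _ (idx_lt g))

theorem img_rels : ∀ w ∈ relWords, evW (letters.ev img) w = 1 := by
  intro w hw
  have h := rels_ok
  simp only [List.all_eq_true] at h
  obtain ⟨hlt, hp⟩ := check_spec data_ok (h w hw)
  apply Units.ext
  rw [Units.val_one, ← hp, evW, ← Units.coeHom_apply, map_list_prod, List.map_map]
  refine congrArg List.prod (List.map_congr_left fun x hx => ?_)
  have hx9 : x < 9 := hlt x hx
  have hgen : (genOf x).2 = true ∧ idxOf (genOf x).1 = x := genOf_spec x hx9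
  show Units.coeHom _ (letters.ev img x) = _
  rw [Letters.ev, if_pos (show x < letters.A.eps from hx9)]
  show Units.coeHom _ (cond (genOf x).2 (img (genOf x).1) (img (genOf x).1)⁻¹) = _
  rw [hgen.1, cond_true, Units.coeHom_apply]
  show mat 78 13 Fi22M78.gens (idxOf (genOf x).1) = _
  rw [hgen.2]

theorem img_kills : ∀ r ∈ Cfsg.Spor.coxRelators Cfsg.Spor.Fi22.edges ∪ {r | r ∈ Cfsg.Spor.Fi22.extra},
    FreeGroup.lift img r = 1 :=
  Letters.kills letters_valid nodes_valid full (fun g _ => img_sq g)
    (fun w hw => img_rels w (by rw [relWords_eq]; exact List.mem_append_left _ hw))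
    (fun w hw => img_rels w (by rw [relWords_eq]; exact List.mem_append_right _ hw))

theorem coeff_of_mat_eq_one {N p : ℕ} {gens : List Rows} {x : ℕ} (h : mat N p gens x = 1) {i : ℕ} (hi : i < N) :
    ((coeff ((rowsOf gens x).get i) i : ℕ) : ZMod p) = 1 := by
  have h' := congrFun (congrFun h ⟨i, hi⟩) ⟨i, hi⟩
  rwa [Matrix.one_apply_eq, mat, RingHom.mapMatrix_apply, Matrix.map_apply] at h'

/-- the representation -/
noncomputable def rho : Cfsg.Spor.Fi22 →* GL (Fin 78) (ZMod 13) := PresentedGroup.toGroup img_kills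

theorem rho_injective : Function.Injective rho := by
  haveI := Fi22Simple.simple
  rcases rho.normal_ker.eq_bot_or_eq_top with h | h
  · exact rho.ker_eq_bot_iff.1 h
  · exfalso
    have hb : rho (PresentedGroup.of Cfsg.Spor.Fi22.Gen.b) = 1 := by
      rw [← MonoidHom.mem_ker, h]
      exact Subgroup.mem_top _
    have hb' : img Cfsg.Spor.Fi22.Gen.b = 1 := (PresentedGroup.toGroup.of img_kills).symm.trans hb
    have h1 : ((coeff ((rowsOf Fi22M78.gens (idxOf .b)).get 0) 0 : ℕ) : ZMod 13) = 1 :=
      coeff_of_mat_eq_one (congrArg Units.val hb') (by norm_num : 0 < 78)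
    have h6 : coeff ((rowsOf Fi22M78.gens (idxOf .b)).get 0) 0 = 6 := by decide +kernel
    rw [h6] at h1
    exact absurd h1 (by decide)

end CfsgLib.Presented.Fi22Mat78
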