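import Cfsg.Prelude.Def_Spor_Fi22
import Cfsg.Agent.Lib.Presented.Orbit
import Cfsg.Agent.Lib.Presented.Cert.Fi22OCert
import Cfsg.Agent.Lib.Presented.Cert.Fi22OSeed

/-!
The coset space of a subgroup of a presented sporadic group.
-/
set_option autoImplicit false
set_option maxRecDepth 8000

namespace CfsgLib.Presented.Fi22OCosets

open Cfsg.Spor

open Fi22OCert (alphabet rep relWords subWords cert cert_ok)

/-- generator numbering -/
def idxOf : Fi22.Gen → ℕ
  | .a => 0
  | .b => 1
  | .c => 2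
  | .d => 3
  | .e => 4
  | .f => 5
  | .g => 6
  | .h => 7
  | .i => 8

/-- reading letters back -/
def genOf : ℕ → Fi22.Gen × Bool
  | 0 => (.a, true)
  | 1 => (.b, true)
  | 2 => (.c, true)
  | 3 => (.d, true)
  | 4 => (.e, true)
  | 5 => (.f, true)
  | 6 => (.g, true)
  | 7 => (.h, true)
  | _ => (.i, true)

/-- the letters -/
def letters : Letters Fi22.Gen := ⟨alphabet, idxOf, genOf, [.a, .b, .c, .d, .e, .f, .g, .h, .i]⟩

theorem letters_valid : letters.valid = true := by decide +kernel

theorem nodes_valid : letters.nodesValid Fi22.edges = true := by decide +kernel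

theorem full : letters.Full := fun g => by cases g <;> decide

/-- values of the letters -/
noncomputable abbrev ev : ℕ → Cfsg.Spor.Fi22 :=
  letters.ev fun g => PresentedGroup.of g

theorem relWords_eq : relWords = letters.coxWords Fi22.edges ++ letters.extraWords Fi22.extra := by decide +kernel

theorem rels_hold : ∀ w ∈ relWords, evW ev w = 1 := by
  rw [relWords_eq]
  exact Letters.rels_hold letters_valid nodes_valid full

theorem ev_one : ev alphabet.eps = 1 := Letters.ev_eps (L := letters)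

theorem ev_inv : ∀ x, x < alphabet.eps → ev (alphabet.invl x) * ev x = 1 :=
  Letters.ev_inv letters_valid (Letters.of_sq nodes_valid)

theorem gen_top : Subgroup.closure (ev '' Set.Iio alphabet.eps) = ⊤ :=
  Letters.gen_top letters_valid nodes_valid full

theorem cert_valid : cert.valid = true := (Bool.and_eq_true _ _ ▸ cert_ok).1

theorem cert_R : cert.R = rep := rfl

theorem cert_rels : cert.rels = relWords := rfl

theorem rep_valid : rep.valid = true :=
  Eq.mp (congrArg (fun R : Rep => R.valid = true) cert_R) (VCert.rvalid cert_valid)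

theorem rels_ok : rep.relsOK relWords = true := by
  have h := cert_valid
  simp only [VCert.valid, Bool.and_eq_true] at h
  have h2 := h.1.1.1.2
  rw [cert_R, cert_rels] at h2
  exact h2

theorem exists_phi : ∃ φ : Cfsg.Spor.Fi22 →* Equiv.Perm (Fin rep.N),
    ∀ x, x < alphabet.eps → φ (ev x) = rep.perm rep_valid x :=
  Letters.exists_rep (L := letters) rfl letters_valid nodes_valid full relWords_eq rep_valid rels_ok

/-- The action on the points of the table. -/
noncomputable def phi : Cfsg.Spor.Fi22 →* Equiv.Perm (Fin rep.N) := exists_phi.choose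

theorem phi_ev : ∀ x, x < alphabet.eps → phi (ev x) = rep.perm rep_valid x := exists_phi.choose_spec

/-- The subgroup. -/
noncomputable abbrev H : Subgroup Cfsg.Spor.Fi22 :=
  (((Subgroup.closure ({Cfsg.Spor.Fi22.b, Cfsg.Spor.Fi22.c, Cfsg.Spor.Fi22.d, Cfsg.Spor.Fi22.e, Cfsg.Spor.Fi22.f, Cfsg.Spor.Fi22.g, Cfsg.Spor.Fi22.h, Cfsg.Spor.Fi22.i} : Set (FreeGroup Cfsg.Spor.Fi22.Gen))).map (PresentedGroup.mk (Cfsg.Spor.coxRelators Cfsg.Spor.Fi22.edges ∪ {r | r ∈ Cfsg.Spor.Fi22.extra}))))

/-- words of its generators -/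
def hWords : List (List ℕ) := [[1],
  [2],
  [3],
  [4],
  [5],
  [6],
  [7],
  [8]]

theorem H_eq : H = Subgroup.closure ((fun w => evW ev w) '' {w | w ∈ hWords}) :=
  Letters.map_closure_eq letters_valid nodes_valid full [Cfsg.Spor.Fi22.b, Cfsg.Spor.Fi22.c, Cfsg.Spor.Fi22.d, Cfsg.Spor.Fi22.e, Cfsg.Spor.Fi22.f, Cfsg.Spor.Fi22.g, Cfsg.Spor.Fi22.h, Cfsg.Spor.Fi22.i] (by ext; simp) (by decide +kernel)

theorem mem_H {w : List ℕ} (hw : w ∈ hWords) : evW ev w ∈ H := by
  rw [H_eq]
  exact Subgroup.subset_closure ⟨w, hw, rfl⟩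

theorem seed0 : evW ev [0, 1, 2, 3, 4, 5, 7, 3, 2, 1, 0, 4, 8, 7, 3, 2, 1, 4, 3, 5, 4, 1, 2, 3, 7, 8, 4, 1, 2, 3, 7, 5, 4, 3, 2, 1, 0] ∈ H := by
  have hI : Fi22OSeed.enum.Interp ev ((1 : Cfsg.Spor.Fi22) : Cfsg.Spor.Fi22 ⧸ H) :=
    { one := ev_one
      inv := ev_inv
      rels := fun w hw => rels_hold w ((show Fi22OSeed.relWords = relWords by decide +kernel) ▸ hw)
      subs := fun w hw => by
        rw [MulAction.Quotient.smul_coe, smul_eq_mul, mul_one, QuotientGroup.eq]
        simp only [inv_mem_iff, mul_one]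
        change w ∈ Fi22OSeed.subWords at hw
        simp only [Fi22OSeed.subWords, List.mem_cons, List.not_mem_nil, or_false] at hw
        rcases hw with rfl | rfl | rfl | rfl | rfl | rfl | rfl | rfl <;> first | (apply mem_H; decide) }
  have h := Fi22OSeed.loop0 hI
  rw [MulAction.Quotient.smul_coe, smul_eq_mul, mul_one, QuotientGroup.eq, mul_one] at h
  exact (Subgroup.inv_mem_iff _).1 h

theorem subs_mem : ∀ w ∈ subWords, evW ev w ∈ H := by
  intro w hw
  simp only [subWords, List.mem_cons, List.not_mem_nil, or_false] at hw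
  rcases hw with rfl | rfl | rfl | rfl | rfl | rfl | rfl | rfl | rfl <;> first | (apply mem_H; decide) | exact seed0

theorem H_fix : ∀ h ∈ H, phi h ⟨0, VCert.pos cert_ok⟩ = ⟨0, VCert.pos cert_ok⟩ := by
  intro h hh
  rw [H_eq] at hh
  induction hh using Subgroup.closure_induction with
  | mem y hy =>
    obtain ⟨w, hw, rfl⟩ := hy
    have hfix : (hWords.all fun w => w.all (fun y => Nat.blt y alphabet.eps) &&
        (Vec.applyNet (rep.netW w) 1).testBit 0) = true := by decide +kernel
    simp only [List.all_eq_true, Bool.and_eq_true] at hfix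
    obtain ⟨hlt, hb⟩ := hfix w hw
    have hw' : phi (evW ev w) = evW (rep.perm rep_valid) w := by
      simp only [evW, map_list_prod, List.map_map]
      rw [List.map_congr_left (f := ⇑phi ∘ ev) (g := rep.perm rep_valid) fun x hx => phi_ev x (by
        have := hlt x hx
        rwa [Nat.blt_eq] at this)]
    show phi (evW ev w) _ = _
    rw [hw']
    apply Fin.ext
    rw [Rep.netW_perm rep_valid]
    rw [Vec.testBit_applyNet (Rep.netOk_netW rep_valid w)] at hb
    exact VCert.one_bit hb
  | one => simp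
  | mul y z _ _ ihy ihz => rw [map_mul, Equiv.Perm.mul_apply, ihz, ihy]
  | inv y _ ih =>
    rw [map_inv]
    exact (Equiv.symm_apply_eq _).2 ih.symm

theorem exists_equiv : ∃ e : Cfsg.Spor.Fi22 ⧸ H ≃ Fin rep.N,
    (∀ (g : Cfsg.Spor.Fi22) (q : Cfsg.Spor.Fi22 ⧸ H), e (g • q) = phi g (e q)) ∧
      e ((1 : Cfsg.Spor.Fi22) : Cfsg.Spor.Fi22 ⧸ H) = ⟨0, VCert.pos cert_ok⟩ :=
  VCert.exists_cosetEquiv cert_ok ev_one ev_inv rels_hold subs_mem gen_top phi rep_valid phi_ev H_fix

/-- The coset space as the points of the table. -/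
noncomputable def equiv : Cfsg.Spor.Fi22 ⧸ H ≃ Fin rep.N := exists_equiv.choose

theorem equiv_smul (g : Cfsg.Spor.Fi22) (q : Cfsg.Spor.Fi22 ⧸ H) : equiv (g • q) = phi g (equiv q) :=
  exists_equiv.choose_spec.1 g q

theorem index_eq : H.index = 14080 := by
  rw [Subgroup.index, Nat.card_congr equiv, Nat.card_fin]
  rfl

end CfsgLib.Presented.Fi22OCosets
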