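import Cfsg.Agent.Lib.Presented.Cert.Fi22UCert

/-!
The element and the conjugates used to check generation for the simplicity of Fi22.
-/
set_option autoImplicit false
set_option Elab.async false
set_option maxRecDepth 8000

namespace CfsgLib.Presented.Fi22Simple

/-- an element of prime order -/
def u : List ℕ := [1, 2, 4, 6, 3, 8, 7, 5]

/-- the generators as products of conjugates of its powers -/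
def conj : List (List (List ℕ × ℕ)) := [[([1, 0, 8, 5, 3, 7], 1), ([5, 5], 2), ([1, 0, 8, 5, 3, 7], 1), ([5, 5], 2), ([1, 0, 8, 5, 3, 7], 1), ([5, 5], 2), ([1, 0, 8, 5, 3, 7], 1), ([5, 5], 2), ([1, 0, 8, 5, 3, 7], 1), ([5, 5], 2), ([1, 0, 8, 5, 3, 7], 1), ([5, 5], 2), ([1, 0, 8, 5, 3, 7], 1), ([5, 5], 2), ([1, 0, 8, 5, 3, 7], 1), ([5, 5], 2), ([1, 0, 8, 5, 3, 7], 1), ([5, 5], 2)],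
  [([0, 1, 1, 0, 8, 5, 3, 7], 1), ([0, 1, 5, 5], 2), ([0, 1, 1, 0, 8, 5, 3, 7], 1), ([0, 1, 5, 5], 2), ([0, 1, 1, 0, 8, 5, 3, 7], 1), ([0, 1, 5, 5], 2), ([0, 1, 1, 0, 8, 5, 3, 7], 1), ([0, 1, 5, 5], 2), ([0, 1, 1, 0, 8, 5, 3, 7], 1), ([0, 1, 5, 5], 2), ([0, 1, 1, 0, 8, 5, 3, 7], 1), ([0, 1, 5, 5], 2), ([0, 1, 1, 0, 8, 5, 3, 7], 1), ([0, 1, 5, 5], 2), ([0, 1, 1, 0, 8, 5, 3, 7], 1), ([0, 1, 5, 5], 2), ([0, 1, 1, 0, 8, 5, 3, 7], 1), ([0, 1, 5, 5], 2)],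
  [([1, 2, 0, 1, 1, 0, 8, 5, 3, 7], 1), ([1, 2, 0, 1, 5, 5], 2), ([1, 2, 0, 1, 1, 0, 8, 5, 3, 7], 1), ([1, 2, 0, 1, 5, 5], 2), ([1, 2, 0, 1, 1, 0, 8, 5, 3, 7], 1), ([1, 2, 0, 1, 5, 5], 2), ([1, 2, 0, 1, 1, 0, 8, 5, 3, 7], 1), ([1, 2, 0, 1, 5, 5], 2), ([1, 2, 0, 1, 1, 0, 8, 5, 3, 7], 1), ([1, 2, 0, 1, 5, 5], 2), ([1, 2, 0, 1, 1, 0, 8, 5, 3, 7], 1), ([1, 2, 0, 1, 5, 5], 2), ([1, 2, 0, 1, 1, 0, 8, 5, 3, 7], 1), ([1, 2, 0, 1, 5, 5], 2), ([1, 2, 0, 1, 1, 0, 8, 5, 3, 7], 1), ([1, 2, 0, 1, 5, 5], 2), ([1, 2, 0, 1, 1, 0, 8, 5, 3, 7], 1), ([1, 2, 0, 1, 5, 5], 2)],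
  [([2, 3, 1, 2, 0, 1, 1, 0, 8, 5, 3, 7], 1), ([2, 3, 1, 2, 0, 1, 5, 5], 2), ([2, 3, 1, 2, 0, 1, 1, 0, 8, 5, 3, 7], 1), ([2, 3, 1, 2, 0, 1, 5, 5], 2), ([2, 3, 1, 2, 0, 1, 1, 0, 8, 5, 3, 7], 1), ([2, 3, 1, 2, 0, 1, 5, 5], 2), ([2, 3, 1, 2, 0, 1, 1, 0, 8, 5, 3, 7], 1), ([2, 3, 1, 2, 0, 1, 5, 5], 2), ([2, 3, 1, 2, 0, 1, 1, 0, 8, 5, 3, 7], 1), ([2, 3, 1, 2, 0, 1, 5, 5], 2), ([2, 3, 1, 2, 0, 1, 1, 0, 8, 5, 3, 7], 1), ([2, 3, 1, 2, 0, 1, 5, 5], 2), ([2, 3, 1, 2, 0, 1, 1, 0, 8, 5, 3, 7], 1), ([2, 3, 1, 2, 0, 1, 5, 5], 2), ([2, 3, 1, 2, 0, 1, 1, 0, 8, 5, 3, 7], 1), ([2, 3, 1, 2, 0, 1, 5, 5], 2), ([2, 3, 1, 2, 0, 1, 1, 0, 8, 5, 3, 7], 1), ([2, 3, 1, 2, 0, 1, 5, 5], 2)],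
  [([3, 4, 2, 3, 1, 2, 0, 1, 1, 0, 8, 5, 3, 7], 1), ([3, 4, 2, 3, 1, 2, 0, 1, 5, 5], 2), ([3, 4, 2, 3, 1, 2, 0, 1, 1, 0, 8, 5, 3, 7], 1), ([3, 4, 2, 3, 1, 2, 0, 1, 5, 5], 2), ([3, 4, 2, 3, 1, 2, 0, 1, 1, 0, 8, 5, 3, 7], 1), ([3, 4, 2, 3, 1, 2, 0, 1, 5, 5], 2), ([3, 4, 2, 3, 1, 2, 0, 1, 1, 0, 8, 5, 3, 7], 1), ([3, 4, 2, 3, 1, 2, 0, 1, 5, 5], 2), ([3, 4, 2, 3, 1, 2, 0, 1, 1, 0, 8, 5, 3, 7], 1), ([3, 4, 2, 3, 1, 2, 0, 1, 5, 5], 2), ([3, 4, 2, 3, 1, 2, 0, 1, 1, 0, 8, 5, 3, 7], 1), ([3, 4, 2, 3, 1, 2, 0, 1, 5, 5], 2), ([3, 4, 2, 3, 1, 2, 0, 1, 1, 0, 8, 5, 3, 7], 1), ([3, 4, 2, 3, 1, 2, 0, 1, 5, 5], 2), ([3, 4, 2, 3, 1, 2, 0, 1, 1, 0, 8, 5, 3, 7], 1), ([3, 4, 2, 3, 1, 2, 0, 1, 5,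 5], 2), ([3, 4, 2, 3, 1, 2, 0, 1, 1, 0, 8, 5, 3, 7], 1), ([3, 4, 2, 3, 1, 2, 0, 1, 5, 5], 2)],
  [([4, 5, 3, 4, 2, 3, 1, 2, 0, 1, 1, 0, 8, 5, 3, 7], 1), ([4, 5, 3, 4, 2, 3, 1, 2, 0, 1, 5, 5], 2), ([4, 5, 3, 4, 2, 3, 1, 2, 0, 1, 1, 0, 8, 5, 3, 7], 1), ([4, 5, 3, 4, 2, 3, 1, 2, 0, 1, 5, 5], 2), ([4, 5, 3, 4, 2, 3, 1, 2, 0, 1, 1, 0, 8, 5, 3, 7], 1), ([4, 5, 3, 4, 2, 3, 1, 2, 0, 1, 5, 5], 2), ([4, 5, 3, 4, 2, 3, 1, 2, 0, 1, 1, 0, 8, 5, 3, 7], 1), ([4, 5, 3, 4, 2, 3, 1, 2, 0, 1, 5, 5], 2), ([4, 5, 3, 4, 2, 3, 1, 2, 0, 1, 1, 0, 8, 5, 3, 7], 1), ([4, 5, 3, 4, 2, 3, 1, 2, 0, 1, 5, 5], 2), ([4, 5, 3, 4, 2, 3, 1, 2, 0, 1, 1, 0, 8, 5, 3, 7], 1), ([4, 5, 3, 4, 2, 3, 1, 2, 0, 1, 5, 5], 2),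 ([4, 5, 3, 4, 2, 3, 1, 2, 0, 1, 1, 0, 8, 5, 3, 7], 1), ([4, 5, 3, 4, 2, 3, 1, 2, 0, 1, 5, 5], 2), ([4, 5, 3, 4, 2, 3, 1, 2, 0, 1, 1, 0, 8, 5, 3, 7], 1), ([4, 5, 3, 4, 2, 3, 1, 2, 0, 1, 5, 5], 2), ([4, 5, 3, 4, 2, 3, 1, 2, 0, 1, 1, 0, 8, 5, 3, 7], 1), ([4, 5, 3, 4, 2, 3, 1, 2, 0, 1, 5, 5], 2)],
  [([5, 6, 4, 5, 3, 4, 2, 3, 1, 2, 0, 1, 1, 0, 8, 5, 3, 7], 1), ([5, 6, 4, 5, 3, 4, 2, 3, 1, 2, 0, 1, 5, 5], 2), ([5, 6, 4, 5, 3, 4, 2, 3, 1, 2, 0, 1, 1, 0, 8, 5, 3, 7], 1), ([5, 6, 4, 5, 3, 4, 2, 3, 1, 2, 0, 1, 5, 5], 2), ([5, 6, 4, 5, 3, 4, 2, 3, 1, 2, 0, 1, 1, 0, 8, 5, 3, 7], 1), ([5, 6, 4, 5, 3, 4, 2, 3, 1, 2, 0, 1, 5, 5], 2), ([5, 6, 4, 5, 3, 4, 2, 3, 1, 2, 0, 1, 1, 0, 8, 5, 3, 7],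 1), ([5, 6, 4, 5, 3, 4, 2, 3, 1, 2, 0, 1, 5, 5], 2), ([5, 6, 4, 5, 3, 4, 2, 3, 1, 2, 0, 1, 1, 0, 8, 5, 3, 7], 1), ([5, 6, 4, 5, 3, 4, 2, 3, 1, 2, 0, 1, 5, 5], 2), ([5, 6, 4, 5, 3, 4, 2, 3, 1, 2, 0, 1, 1, 0, 8, 5, 3, 7], 1), ([5, 6, 4, 5, 3, 4, 2, 3, 1, 2, 0, 1, 5, 5], 2), ([5, 6, 4, 5, 3, 4, 2, 3, 1, 2, 0, 1, 1, 0, 8, 5, 3, 7], 1), ([5, 6, 4, 5, 3, 4, 2, 3, 1, 2, 0, 1, 5, 5], 2), ([5, 6, 4, 5, 3, 4, 2, 3, 1, 2, 0, 1, 1, 0, 8, 5, 3, 7], 1), ([5, 6, 4, 5, 3, 4, 2, 3, 1, 2, 0, 1, 5, 5], 2), ([5, 6, 4, 5, 3, 4, 2, 3, 1, 2, 0, 1, 1, 0, 8, 5, 3, 7], 1), ([5, 6, 4, 5, 3, 4, 2, 3, 1, 2, 0, 1, 5, 5], 2)],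
  [([3, 7, 2, 3, 1, 2, 0, 1, 1, 0, 8, 5, 3, 7], 1), ([3, 7, 2, 3, 1, 2, 0, 1, 5, 5], 2), ([3, 7, 2, 3, 1, 2, 0, 1, 1, 0, 8, 5, 3, 7], 1), ([3, 7, 2, 3, 1, 2, 0, 1, 5, 5], 2), ([3, 7, 2, 3, 1, 2, 0, 1, 1, 0, 8, 5, 3, 7], 1), ([3, 7, 2, 3, 1, 2, 0, 1, 5, 5], 2), ([3, 7, 2, 3, 1, 2, 0, 1, 1, 0, 8, 5, 3, 7], 1), ([3, 7, 2, 3, 1, 2, 0, 1, 5, 5], 2), ([3, 7, 2, 3, 1, 2, 0, 1, 1, 0, 8, 5, 3, 7], 1), ([3, 7, 2, 3, 1, 2, 0, 1, 5, 5], 2), ([3, 7, 2, 3, 1, 2, 0, 1, 1, 0, 8, 5, 3, 7], 1), ([3, 7, 2, 3, 1, 2, 0, 1, 5, 5], 2), ([3, 7, 2, 3, 1, 2, 0, 1, 1, 0, 8, 5, 3, 7], 1), ([3, 7, 2, 3, 1, 2, 0, 1, 5, 5], 2), ([3, 7, 2, 3, 1, 2, 0, 1, 1, 0, 8, 5, 3, 7], 1), ([3, 7, 2, 3, 1, 2, 0, 1, 5,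 5], 2), ([3, 7, 2, 3, 1, 2, 0, 1, 1, 0, 8, 5, 3, 7], 1), ([3, 7, 2, 3, 1, 2, 0, 1, 5, 5], 2)],
  [([7, 8, 3, 7, 2, 3, 1, 2, 0, 1, 1, 0, 8, 5, 3, 7], 1), ([7, 8, 3, 7, 2, 3, 1, 2, 0, 1, 5, 5], 2), ([7, 8, 3, 7, 2, 3, 1, 2, 0, 1, 1, 0, 8, 5, 3, 7], 1), ([7, 8, 3, 7, 2, 3, 1, 2, 0, 1, 5, 5], 2), ([7, 8, 3, 7, 2, 3, 1, 2, 0, 1, 1, 0, 8, 5, 3, 7], 1), ([7, 8, 3, 7, 2, 3, 1, 2, 0, 1, 5, 5], 2), ([7, 8, 3, 7, 2, 3, 1, 2, 0, 1, 1, 0, 8, 5, 3, 7], 1), ([7, 8, 3, 7, 2, 3, 1, 2, 0, 1, 5, 5], 2), ([7, 8, 3, 7, 2, 3, 1, 2, 0, 1, 1, 0, 8, 5, 3, 7], 1), ([7, 8, 3, 7, 2, 3, 1, 2, 0, 1, 5, 5], 2), ([7, 8, 3, 7, 2, 3, 1, 2, 0, 1, 1, 0, 8, 5, 3, 7], 1), ([7, 8, 3, 7, 2, 3, 1, 2, 0, 1, 5, 5], 2),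 ([7, 8, 3, 7, 2, 3, 1, 2, 0, 1, 1, 0, 8, 5, 3, 7], 1), ([7, 8, 3, 7, 2, 3, 1, 2, 0, 1, 5, 5], 2), ([7, 8, 3, 7, 2, 3, 1, 2, 0, 1, 1, 0, 8, 5, 3, 7], 1), ([7, 8, 3, 7, 2, 3, 1, 2, 0, 1, 5, 5], 2), ([7, 8, 3, 7, 2, 3, 1, 2, 0, 1, 1, 0, 8, 5, 3, 7], 1), ([7, 8, 3, 7, 2, 3, 1, 2, 0, 1, 5, 5], 2)]]

/-- the check of one letter -/
noncomputable def conjOK (x : ℕ) : Bool :=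
  (conj.getD x []).all (fun d => d.1.all fun y => Nat.blt y Fi22UCert.rep.A.eps) &&
    Fi22UCert.rep.relsOK [(conj.getD x []).flatMap (fun d => d.1 ++ wpow u d.2 ++ invWord Fi22UCert.rep.A d.1) ++
      [Fi22UCert.rep.A.invl x]]

end CfsgLib.Presented.Fi22Simple
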