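import Cfsg.Agent.Lib.Presented.Simple
import Cfsg.Prelude.Def_SporadicB
import Mathlib.GroupTheory.GroupAction.ConjAct

/-!
A class of 3-transpositions read off a checked permutation representation: a central involution of
the point stabiliser, with one product checked for each suborbit.
-/
set_option autoImplicit false

namespace CfsgLib.Presented

open Vec

variable {G : Type*} [Group G]

/-- The centralisers of conjugate elements are isomorphic. -/
theorem nonempty_centralizer_equiv (z g : G) :
    Nonempty (Subgroup.centralizer ({z} : Set G) ≃* Subgroup.centralizer ({g * z * g⁻¹} : Set G)) := by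
  have h : ∀ x : G, MulAut.conj g x ∈ Subgroup.centralizer ({g * z * g⁻¹} : Set G) ↔
      x ∈ Subgroup.centralizer ({z} : Set G) := by
    intro x
    have e : g * z * g⁻¹ = MulAut.conj g z := rfl
    rw [Subgroup.mem_centralizer_singleton_iff, Subgroup.mem_centralizer_singleton_iff, e, ← map_mul,
      ← map_mul, (MulAut.conj g).injective.eq_iff]
  exact ⟨{ toFun := fun x => ⟨MulAut.conj g x, (h x).2 x.2⟩
           invFun := fun y => ⟨(MulAut.conj g).symm y, (h _).1 (by rw [MulEquiv.apply_symm_apply]; exact y.2)⟩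
           left_inv := fun x => Subtype.ext ((MulAut.conj g).symm_apply_apply _)
           right_inv := fun y => Subtype.ext ((MulAut.conj g).apply_symm_apply _)
           map_mul' := fun a b => Subtype.ext (map_mul (MulAut.conj g) a.1 b.1) }⟩

/-- The product of two conjugates of `zw` named by `w` has order at most three. -/
noncomputable def pairOK (R : Rep) (zw w : List ℕ) : Bool :=
  let p := zw ++ w ++ zw ++ invWord R.A w
  R.relsOK [p ++ p] || R.relsOK [p ++ p ++ p]

/-- The checks: `zw` is an involution commuting with the words of the stabiliser, and each suborbit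
contains the image of the base point under a word with a checked product. -/
noncomputable def transOK (R : Rep) (ws : List (List ℕ)) (zw : List ℕ) (Os : List HOrbit)
    (pw : List (List ℕ)) : Bool :=
  R.relsOK [zw ++ zw] &&
    (ws.all fun w => w.all (fun y => Nat.blt y R.A.eps) &&
      R.relsOK [zw ++ w ++ invWord R.A zw ++ invWord R.A w]) &&
    Nat.beq pw.length Os.length &&
    (List.zip Os pw).all fun d => d.2.all (fun y => Nat.blt y R.A.eps) &&
      (applyNet (R.netW d.2) d.1.bits).testBit 0 && pairOK R zw d.2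

/-- The criterion. -/
theorem threeTranspositions_of_cert {R : Rep} (hR : R.valid = true) (hN : 0 < R.N) {ev : ℕ → G}
    (hgood : R.A.Good ev) (φ : G →* Equiv.Perm (Fin R.N)) (hφ : ∀ x, x < R.A.eps → φ (ev x) = R.perm hR x)
    (hinj : Function.Injective φ) (htr : ∀ j : Fin R.N, ∃ g, φ g ⟨0, hN⟩ = j)
    (hsimple : IsSimpleGroup G) (hprime : ¬ (Nat.card G).Prime)
    {H : Subgroup G} {ws : List (List ℕ)} (hH : H = Subgroup.closure ((fun w => evW ev w) '' {w | w ∈ ws}))
    (hfix : ∀ h ∈ H, φ h ⟨0, hN⟩ = ⟨0, hN⟩) (hstab : ∀ g, φ g ⟨0, hN⟩ = ⟨0, hN⟩ → g ∈ H)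
    (Os : List HOrbit) (horb : (Os.all fun O => orbitOK R ws O.rep O.rounds O.bits) = true)
    (hcover : coverOK R.N Os 1 = true) (hblock : noBlock R.N (Os.map HOrbit.size) = true)
    (zw : List ℕ) (pw : List (List ℕ)) (hz1 : evW ev zw ≠ 1)
    (hok : transOK R ws zw Os pw = true) :
    Cfsg.IsThreeTranspositionClass (conjugatesOf (evW ev zw)) ∧
      Nat.card (conjugatesOf (evW ev zw) : Set G) = R.N ∧
      ∀ d ∈ conjugatesOf (evW ev zw), Nonempty (H ≃* Subgroup.centralizer ({d} : Set G)) := by
  classical
  have : Finite G := Finite.of_injective φ hinj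
  have hlets : ∀ w, R.relsOK [w] = true → ∀ y ∈ w, y < R.A.eps := by
    intro w h y hy
    simp only [Rep.relsOK, List.all_eq_true, Bool.and_eq_true, List.mem_singleton, forall_eq] at h
    have := h.1 y hy
    rwa [Nat.blt_eq] at this
  have hevW : ∀ w : List ℕ, (∀ y ∈ w, y < R.A.eps) → φ (evW ev w) = evW (R.perm hR) w := by
    intro w hw
    simp only [evW, map_list_prod, List.map_map]
    rw [List.map_congr_left (f := ⇑φ ∘ ev) (g := R.perm hR) fun y hy => hφ y (hw y hy)]
  have hrel : ∀ w, R.relsOK [w] = true → evW ev w = 1 := by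
    intro w h
    apply hinj
    rw [hevW w (hlets w h), map_one]
    exact Rep.evW_eq_one hR h (by simp)
  simp only [transOK, Bool.and_eq_true, List.all_eq_true, Nat.blt_eq] at hok
  obtain ⟨⟨⟨hzsq, hcomm⟩, hlen⟩, hpairs⟩ := hok
  have hzlt : ∀ y ∈ zw, y < R.A.eps := fun y hy => hlets _ hzsq y (List.mem_append.2 (Or.inl hy))
  set z := evW ev zw with hz
  have hz2 : z * z = 1 := by rw [hz, ← evW_append]; exact hrel _ hzsq
  have hord : orderOf z = 2 := orderOf_eq_prime (by rw [pow_two]; exact hz2) hz1
  -- the stabiliser centralises `z`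
  set C := Subgroup.centralizer ({z} : Set G) with hC
  have hHC : H ≤ C := by
    rw [hH, Subgroup.closure_le]
    rintro _ ⟨w, hw, rfl⟩
    obtain ⟨hwlt, hc⟩ := hcomm w hw
    have h1 := hrel _ hc
    rw [evW_append, evW_append, evW_append, evW_invWord hgood (fun y hy => (hzlt y hy).le),
      evW_invWord hgood (fun y hy => (hwlt y hy).le)] at h1
    rw [SetLike.mem_coe, Subgroup.mem_centralizer_singleton_iff]
    exact (mul_inv_eq_iff_eq_mul.1 (mul_inv_eq_one.1 h1)).symm
  -- the index of the stabiliser
  let inst : MulAction G (Fin R.N) := MulAction.compHom (Fin R.N) φ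
  let o : Fin R.N := ⟨0, hN⟩
  have hsmul : ∀ (g : G) (i : Fin R.N), g • i = φ g i := fun _ _ => rfl
  have hHstab : H = MulAction.stabilizer G o := by
    ext g
    exact ⟨fun h => hfix g h, fun h => hstab g h⟩
  have hidx : H.index = R.N := by
    rw [hHstab, MulAction.index_stabilizer, Set.eq_univ_of_forall (s := MulAction.orbit G o)
      (fun j => (htr j).imp fun g hg => hg), Set.ncard_univ, Nat.card_fin]
  -- the orbit of the centraliser
  let B : Set (Fin R.N) := MulAction.orbit C o
  have hBcard : B.ncard * C.index = R.N := by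
    have h1 : B.ncard = (H.subgroupOf C).index := by
      rw [← MulAction.index_stabilizer C o]
      congr 1
      ext ⟨g, hg⟩
      rw [Subgroup.mem_subgroupOf, hHstab]
      rfl
    rw [h1, ← hidx, ← Subgroup.relIndex_mul_index hHC]
    rfl
  have hBinv : ∀ h ∈ H, ∀ i ∈ B, φ h i ∈ B := by
    rintro h hh _ ⟨⟨c, hc⟩, rfl⟩
    refine ⟨⟨h * c, C.mul_mem (hHC hh) hc⟩, ?_⟩
    show φ (h * c) o = φ h (φ c o)
    rw [map_mul, Equiv.Perm.mul_apply]
  let BF : Finset ℕ := (Finset.univ.filter fun i => i ∈ B).image Fin.val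
  have hBF : ∀ i : Fin R.N, (i : ℕ) ∈ BF ↔ i ∈ B := by
    intro i
    simp [BF, Fin.val_inj]
  have hdich : ∀ O ∈ Os, (∀ i, i < R.N → O.bits.testBit i = true → i ∈ BF) ∨
      ∀ i, i < R.N → O.bits.testBit i = true → i ∉ BF := by
    intro O hO
    rw [or_iff_not_imp_left]
    intro hnot i hi hb hiB
    apply hnot
    intro j hj hjb
    have hok := List.all_eq_true.1 horb O hO
    have hrep : O.rep < R.N := by
      simp only [orbitOK, Bool.and_eq_true, Nat.blt_eq] at hok
      exact hok.1.1
    obtain ⟨h1, hh1, e1⟩ := (orbit_eq_of_ok hR hok φ hφ hH hrep ⟨i, hi⟩).2 hb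
    obtain ⟨h2, hh2, e2⟩ := (orbit_eq_of_ok hR hok φ hφ hH hrep ⟨j, hj⟩).2 hjb
    have h3 := hBinv _ (H.mul_mem hh2 (H.inv_mem hh1)) _ ((hBF ⟨i, hi⟩).1 hiB)
    rw [← e1, ← Equiv.Perm.mul_apply, ← map_mul, inv_mul_cancel_right, e2] at h3
    exact (hBF ⟨j, hj⟩).2 h3
  have hmem := cover_sum BF Os 1 hcover hdich
  have hoB : o ∈ B := MulAction.mem_orbit_self o
  have hcardB : B.ncard = ((Finset.range R.N).filter fun i => i ∈ BF ∧ (1 : ℕ).testBit i = false).card + 1 := by
    have e : B.ncard = BF.card := by
      rw [Finset.card_image_of_injective _ Fin.val_injective, ← Set.ncard_coe_finset]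
      congr 1
      ext i
      simp
    rw [e]
    have e2 : BF = insert 0 ((Finset.range R.N).filter fun i => i ∈ BF ∧ (1 : ℕ).testBit i = false) := by
      ext i
      simp only [Finset.mem_insert, Finset.mem_filter, Finset.mem_range]
      constructor
      · intro hi
        rcases Nat.eq_zero_or_pos i with h | h
        · exact Or.inl h
        · refine Or.inr ⟨?_, hi, ?_⟩
          · simp only [BF, Finset.mem_image] at hi
            obtain ⟨a, -, rfl⟩ := hi
            exact a.2
          · cases hb : (1 : ℕ).testBit i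
            · rfl
            · exact absurd (VCert.one_bit hb) (by omega)
      · rintro (rfl | ⟨-, h, -⟩)
        · exact (hBF o).2 hoB
        · exact h
    conv_lhs => rw [e2]
    rw [Finset.card_insert_of_notMem (by simp)]
  simp only [noBlock, List.all_eq_true, Bool.or_eq_true, Bool.not_eq_true'] at hblock
  have hCidx : C.index = R.N := by
    rcases hblock _ hmem with (h | h) | h
    · rw [hcardB, Nat.eq_of_beq_eq_true h, zero_add, one_mul] at hBcard
      exact hBcard
    · exfalso
      rw [hcardB, Nat.eq_of_beq_eq_true h] at hBcard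
      have h1 : C.index = 1 := by
        conv_rhs at hBcard => rw [← Nat.mul_one R.N]
        exact Nat.eq_of_mul_eq_mul_left hN hBcard
      have hCtop : C = ⊤ := Subgroup.index_eq_one.1 h1
      have hzc : z ∈ Subgroup.center G := Subgroup.mem_center_iff.2 fun g =>
        (Subgroup.mem_centralizer_singleton_iff.1 ((hC ▸ hCtop).symm ▸ Subgroup.mem_top g))
      rcases IsSimpleGroup.eq_bot_or_eq_top_of_normal (Subgroup.center G) inferInstance with hb | ht
      · exact hz1 (Subgroup.mem_bot.1 (hb ▸ hzc))
      · let _ : CommGroup G := { (inferInstance : Group G) with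
          mul_comm := fun a b => (Subgroup.mem_center_iff.1 (ht ▸ Subgroup.mem_top a) b).symm }
        exact hprime (IsSimpleGroup.prime_card (α := G))
    · exfalso
      rw [← hcardB, Nat.mod_eq_zero_of_dvd ⟨_, hBcard.symm⟩] at h
      simp [Nat.beq_refl] at h
  have hCH : C = H := by
    have h := Subgroup.relIndex_mul_index hHC
    rw [hCidx, hidx] at h
    exact le_antisymm (Subgroup.relIndex_eq_one.1 (Nat.eq_of_mul_eq_mul_right hN (h.trans (one_mul _).symm))) hHC
  -- products with the conjugates of `z`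
  have hpair : ∀ e ∈ conjugatesOf z, (z * e) ^ 2 = 1 ∨ (z * e) ^ 3 = 1 := by
    intro e he
    obtain ⟨g, hg⟩ := isConj_iff.1 he
    subst hg
    rcases eq_or_ne (φ g o) o with hgo | hgo
    · have hgC : g ∈ C := hCH ▸ hstab g hgo
      rw [show g * z * g⁻¹ = z by
        rw [Subgroup.mem_centralizer_singleton_iff.1 hgC, mul_inv_cancel_right]]
      exact Or.inl (by rw [hz2, one_pow])
    have hall : ∀ (l : List HOrbit) (acc : ℕ), coverOK R.N l acc = true → ∀ i, i < R.N →
        acc.testBit i = true ∨ ∃ O ∈ l, O.bits.testBit i = true := by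
      intro l
      induction l with
      | nil =>
        intro acc h i hi
        rw [Nat.eq_of_beq_eq_true h, testBit_ones]
        exact Or.inl (by simpa using hi)
      | cons O l ih =>
        intro acc h i hi
        simp only [coverOK, force_eq, Bool.and_eq_true] at h
        rcases ih _ h.2 i hi with h1 | ⟨Q, hQ, h1⟩
        · have e : (Nat.lor acc O.bits).testBit i = (acc.testBit i || O.bits.testBit i) := Nat.testBit_or acc O.bits i
          rw [e, Bool.or_eq_true] at h1
          rcases h1 with h1 | h1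
          · exact Or.inl h1
          · exact Or.inr ⟨O, List.mem_cons_self, h1⟩
        · exact Or.inr ⟨Q, List.mem_cons_of_mem _ hQ, h1⟩
    rcases hall Os 1 hcover _ (φ g o).2 with h | ⟨O, hO, hOg⟩
    · exact absurd (Fin.ext (VCert.one_bit h)) hgo
    obtain ⟨k, hk, rfl⟩ := List.getElem_of_mem hO
    have hk' : k < pw.length := by rw [Nat.eq_of_beq_eq_true hlen]; exact hk
    have hmemzip : (Os[k], pw[k]) ∈ List.zip Os pw := by
      rw [List.mem_iff_getElem]
      exact ⟨k, by simp [List.length_zip, hk, hk'], by simp⟩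
    obtain ⟨⟨hwlt, hbit⟩, hp⟩ := hpairs _ hmemzip
    set w := pw[k] with hw
    rw [testBit_applyNet (Rep.netOk_netW hR _)] at hbit
    have hwo : (φ (evW ev w) o : ℕ) = netPerm (R.netW w) 0 := by
      rw [hevW w hwlt, Rep.netW_perm hR]
    rw [← hwo] at hbit
    have hok' := List.all_eq_true.1 horb _ hO
    have hrep : Os[k].rep < R.N := by
      simp only [orbitOK, Bool.and_eq_true, Nat.blt_eq] at hok'
      exact hok'.1.1
    obtain ⟨h1, hh1, e1⟩ := (orbit_eq_of_ok hR hok' φ hφ hH hrep (φ g o)).2 hOg
    obtain ⟨h2, hh2, e2⟩ := (orbit_eq_of_ok hR hok' φ hφ hH hrep (φ (evW ev w) o)).2 hbit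
    -- move `g` to `w`
    set v := h1 * h2⁻¹ * evW ev w with hv
    have hgv : φ g o = φ v o := by
      rw [hv, map_mul, map_mul, Equiv.Perm.mul_apply, Equiv.Perm.mul_apply, ← e2, map_inv,
        Equiv.Perm.inv_def, Equiv.symm_apply_apply, e1]
    have hdiff : g⁻¹ * v ∈ C := by
      refine hCH ▸ hstab _ ?_
      rw [map_mul, Equiv.Perm.mul_apply, ← hgv, map_inv]
      exact (φ g).symm_apply_apply _
    have heq : g * z * g⁻¹ = v * z * v⁻¹ := by
      have := Subgroup.mem_centralizer_singleton_iff.1 hdiff
      calc g * z * g⁻¹ = g * (z * (g⁻¹ * v)) * v⁻¹ := by group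
        _ = g * ((g⁻¹ * v) * z) * v⁻¹ := by rw [this]
        _ = v * z * v⁻¹ := by group
    set h := h1 * h2⁻¹ with hh
    have hhC : h ∈ C := hHC (H.mul_mem hh1 (H.inv_mem hh2))
    have hconj : z * (g * z * g⁻¹) = h * (z * (evW ev w * z * (evW ev w)⁻¹)) * h⁻¹ := by
      rw [heq, hv]
      have hzh : z * h = h * z := (Subgroup.mem_centralizer_singleton_iff.1 hhC).symm
      calc z * (h * evW ev w * z * (h * evW ev w)⁻¹) =
          z * h * (evW ev w * z * (evW ev w)⁻¹) * h⁻¹ := by group
        _ = _ := by rw [hzh]; group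
    rw [hconj, conj_pow, conj_pow]
    have hprod : evW ev (zw ++ w ++ zw ++ invWord R.A w) = z * (evW ev w * z * (evW ev w)⁻¹) := by
      rw [evW_append, evW_append, evW_append, evW_invWord hgood (fun y hy => (hwlt y hy).le), hz]
      group
    simp only [pairOK, Bool.or_eq_true] at hp
    rcases hp with hp | hp
    · left
      have := hrel _ hp
      rw [evW_append, hprod, ← pow_two] at this
      rw [this, mul_one, mul_inv_cancel]
    · right
      have := hrel _ hp
      rw [evW_append, evW_append, hprod, ← pow_two, ← pow_succ] at this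
      rw [this, mul_one, mul_inv_cancel]
  refine ⟨⟨⟨fun d hd => ?_, fun d hd e he => ?_⟩, ⟨z, mem_conjugatesOf_self, rfl⟩, ?_⟩, ?_, ?_⟩
  · obtain ⟨g, rfl⟩ := isConj_iff.1 hd
    rw [← hord]
    exact orderOf_injective (MulAut.conj g).toMonoidHom (MulAut.conj g).injective z
  · obtain ⟨g, rfl⟩ := isConj_iff.1 hd
    have he' : g⁻¹ * e * g ∈ conjugatesOf z :=
      IsConj.trans he (isConj_iff.2 ⟨g⁻¹, by rw [inv_inv]⟩)
    have e2 : g * z * g⁻¹ * e = g * (z * (g⁻¹ * e * g)) * g⁻¹ := by group
    rw [e2, conj_pow, conj_pow]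
    rcases hpair _ he' with h | h
    · exact Or.inl (by rw [h, mul_one, mul_inv_cancel])
    · exact Or.inr (by rw [h, mul_one, mul_inv_cancel])
  · have hnorm : (Subgroup.closure (conjugatesOf z)).Normal := ⟨fun n hn g => by
      induction hn using Subgroup.closure_induction with
      | mem x hx => exact Subgroup.subset_closure (IsConj.trans hx (isConj_iff.2 ⟨g, rfl⟩))
      | one => rw [mul_one, mul_inv_cancel]; exact Subgroup.one_mem _
      | mul a b _ _ iha ihb =>
        rw [show g * (a * b) * g⁻¹ = g * a * g⁻¹ * (g * b * g⁻¹) by group]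
        exact Subgroup.mul_mem _ iha ihb
      | inv a _ ih =>
        rw [show g * a⁻¹ * g⁻¹ = (g * a * g⁻¹)⁻¹ by group]
        exact Subgroup.inv_mem _ ih⟩
    rcases IsSimpleGroup.eq_bot_or_eq_top_of_normal _ hnorm with h | h
    · exact absurd (Subgroup.mem_bot.1 (h ▸ Subgroup.subset_closure mem_conjugatesOf_self)) hz1
    · exact h
  · rw [← hCidx, hC, Subgroup.centralizer_eq_comap_stabilizer]
    refine Eq.trans ?_ (Subgroup.index_comap_of_surjective (MulAction.stabilizer (ConjAct G) z)
      (f := ConjAct.toConjAct.toMonoidHom) ConjAct.toConjAct.surjective).symm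
    rw [MulAction.index_stabilizer, Nat.card_coe_set_eq]
    congr 1
    ext x
    exact isConj_comm.trans ConjAct.mem_orbit_conjAct.symm
  · intro d hd
    obtain ⟨g, rfl⟩ := isConj_iff.1 hd
    obtain ⟨e⟩ := nonempty_centralizer_equiv z g
    exact ⟨(MulEquiv.subgroupCongr hCH.symm).trans e⟩

end CfsgLib.Presented
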