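import Cfsg.Agent.Lib.Presented.Fi22Unitary.Iso
import Cfsg.Agent.Lib.Presented.TransClass

/-!
The class of the first generator of the presented Fischer group on 22 letters is a class of
3-transpositions with the point stabiliser as centraliser.
-/
set_option autoImplicit false
set_option maxRecDepth 8000

namespace CfsgLib.Presented.Fi22Trans

open Fi22UCosets (ev phi rep_valid)

theorem transitive (j : Fin Fi22UCert.rep.N) : ∃ g, phi g ⟨0, VCert.pos Fi22UCert.cert_ok⟩ = j :=
  Fi22Simple.transitive j

theorem good : Fi22UCert.rep.A.Good ev := ⟨Fi22UCosets.ev_one, fun x hx => by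
  rcases Nat.eq_or_lt_of_le hx with h | h
  · subst h
    have e : Fi22UCert.rep.A.invl Fi22UCert.rep.A.eps = Fi22UCert.rep.A.eps := by decide +kernel
    rw [e]
    exact (congrArg₂ (· * ·) Fi22UCosets.ev_one Fi22UCosets.ev_one).trans (one_mul 1)
  · exact Fi22UCosets.ev_inv x h⟩

theorem orbits_ok : (Fi22Simple.orbits.all fun O =>
    orbitOK Fi22UCert.rep Fi22UCosets.hWords O.rep O.rounds O.bits) = true := by decide +kernel

theorem cover_ok : coverOK Fi22UCert.rep.N Fi22Simple.orbits 1 = true := by decide +kernel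

theorem block_ok : noBlock Fi22UCert.rep.N (Fi22Simple.orbits.map HOrbit.size) = true := by
  decide +kernel

theorem trans_ok : transOK Fi22UCert.rep Fi22UCosets.hWords [0] Fi22Simple.orbits [[1], [1, 2, 0, 1]] = true := by
  decide +kernel

theorem zw_ne : evW ev [0] ≠ 1 := by
  rw [Fi22Unitary.d0_eq]
  intro h
  have h1 : phi Fi22Unitary.d0 ⟨1, by decide +kernel⟩ = ⟨1, by decide +kernel⟩ := by
    rw [h, map_one, Equiv.Perm.one_apply]
  have hb : Fi22Unitary.inA 1 = false := by decide +kernel
  have := (Fi22Unitary.inA_iff (i := 1) (by decide +kernel)).2 ⟨h1, fun e => Nat.one_ne_zero (Fin.ext_iff.1 e)⟩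
  rw [hb] at this
  exact Bool.noConfusion this

/-- The class of the first generator. -/
theorem transpositions : Cfsg.IsThreeTranspositionClass (conjugatesOf (evW ev [0])) ∧
    Nat.card (conjugatesOf (evW ev [0]) : Set Cfsg.Spor.Fi22) = Fi22UCert.rep.N ∧
    ∀ d ∈ conjugatesOf (evW ev [0]),
      Nonempty (Fi22UCosets.H ≃* Subgroup.centralizer ({d} : Set Cfsg.Spor.Fi22)) :=
  threeTranspositions_of_cert rep_valid (VCert.pos Fi22UCert.cert_ok) good phi Fi22UCosets.phi_ev
    Fi22Order.phi_injective transitive Fi22Simple.simple (by rw [Fi22Order.card_eq]; norm_num)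
    Fi22UCosets.H_eq Fi22UCosets.H_fix (fun _ h => Fi22Unitary.mem_H_of_fix h) Fi22Simple.orbits
    orbits_ok cover_ok block_ok [0] [[1], [1, 2, 0, 1]]
    zw_ne
    trans_ok

end CfsgLib.Presented.Fi22Trans
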