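import Cfsg.Agent.Lib.Presented.Fi23Cosets
import Cfsg.Agent.Lib.Presented.Cert.Fi23ASeed
import Cfsg.Agent.Lib.Presented.Cert.Fi23ACert
import Cfsg.Agent.Lib.Presented.Cert.Fi23BSeed
import Cfsg.Agent.Lib.Presented.Cert.Fi23BCert
import Cfsg.Agent.Lib.Presented.Cert.Fi23CCert
import Cfsg.Agent.Lib.Presented.Cert.Fi22CCert
import Cfsg.Agent.Lib.Presented.Cert.Fi23Emb
import Cfsg.Agent.Lib.Presented.Order
import Cfsg.Agent.Lib.Presented.Fi22Order
import Cfsg.Agent.Lib.Presented.Embed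

/-!
The order of the presented Fischer group on 23 letters, and of its subgroup of index 31671.
-/
set_option autoImplicit false
set_option maxRecDepth 8000

namespace CfsgLib.Presented.Fi23Order

open Fi23Cosets (ev ev_one ev_inv rels_hold gen_top phi phi_ev rep_valid)

theorem indexA_seed : evW (subEv ev Fi23Cert.alphabet.eps [0, 1, 2, 3, 4, 5, 6, 8, 9]) [0, 1, 2, 3, 4, 5, 7, 3, 2, 1, 0, 4, 8, 7, 3, 4, 5, 3, 4, 2, 3, 7, 8, 1, 2, 3, 7, 5, 4, 3, 2, 1, 0] ∈ genBy ev [1, 2, 3, 4, 5, 6, 8, 9] :=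
  mem_of_fix (Fi23ASeed.loop0 (Enum.interp_sub ev_one ev_inv (by decide +kernel) (by decide +kernel)
    (rels_of_check rels_hold (by decide +kernel))
    (subs_of_check (seeds := []) (by simp) (by decide +kernel))))

theorem indexA : (genBy ev [1, 2, 3, 4, 5, 6, 8, 9]).relIndex (genBy ev [0, 1, 2, 3, 4, 5, 6, 8, 9]) ≠ 0 ∧
    (genBy ev [1, 2, 3, 4, 5, 6, 8, 9]).relIndex (genBy ev [0, 1, 2, 3, 4, 5, 6, 8, 9]) ≤ Fi23ACert.cert.R.N :=
  relIndex_le_of_subCert (A := Fi23Cert.alphabet) (emb := [0, 1, 2, 3, 4, 5, 6, 8, 9]) Fi23ACert.cert_ok ev_one ev_inv (by decide +kernel)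
    (by decide +kernel) (by decide +kernel) (rels_of_check rels_hold (by decide +kernel))
    (subs_of_check (seeds := [[0, 1, 2, 3, 4, 5, 7, 3, 2, 1, 0, 4, 8, 7, 3, 4, 5, 3, 4, 2, 3, 7, 8, 1, 2, 3, 7, 5, 4, 3, 2, 1, 0]]) (fun w hw => List.mem_singleton.1 hw ▸ indexA_seed) (by decide +kernel))

theorem indexB_seed : evW (subEv ev Fi23Cert.alphabet.eps [1, 2, 3, 4, 5, 6, 8, 9]) [7, 6, 2, 1, 0, 3, 2, 1, 4, 3, 6, 2, 3, 7, 6, 2, 1, 4, 3, 2, 6, 7, 0, 1, 2, 6, 3, 4, 1, 2, 3, 0, 1, 2, 6, 7] ∈ genBy ev [1, 2, 3, 4, 5, 6, 8] :=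
  mem_of_fix (Fi23BSeed.loop0 (Enum.interp_sub ev_one ev_inv (by decide +kernel) (by decide +kernel)
    (rels_of_check rels_hold (by decide +kernel))
    (subs_of_check (seeds := []) (by simp) (by decide +kernel))))

theorem indexB : (genBy ev [1, 2, 3, 4, 5, 6, 8]).relIndex (genBy ev [1, 2, 3, 4, 5, 6, 8, 9]) ≠ 0 ∧
    (genBy ev [1, 2, 3, 4, 5, 6, 8]).relIndex (genBy ev [1, 2, 3, 4, 5, 6, 8, 9]) ≤ Fi23BCert.cert.R.N :=
  relIndex_le_of_subCert (A := Fi23Cert.alphabet) (emb := [1, 2, 3, 4, 5, 6, 8, 9]) Fi23BCert.cert_ok ev_one ev_inv (by decide +kernel)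
    (by decide +kernel) (by decide +kernel) (rels_of_check rels_hold (by decide +kernel))
    (subs_of_check (seeds := [[7, 6, 2, 1, 0, 3, 2, 1, 4, 3, 6, 2, 3, 7, 6, 2, 1, 4, 3, 2, 6, 7, 0, 1, 2, 6, 3, 4, 1, 2, 3, 0, 1, 2, 6, 7]]) (fun w hw => List.mem_singleton.1 hw ▸ indexB_seed) (by decide +kernel))

theorem indexC : (genBy ev [1, 2, 3, 4, 5, 6]).relIndex (genBy ev [1, 2, 3, 4, 5, 6, 8]) ≠ 0 ∧
    (genBy ev [1, 2, 3, 4, 5, 6]).relIndex (genBy ev [1, 2, 3, 4, 5, 6, 8]) ≤ Fi23CCert.cert.R.N :=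
  relIndex_le_of_subCert (A := Fi23Cert.alphabet) (emb := [1, 2, 3, 4, 5, 6, 8]) Fi23CCert.cert_ok ev_one ev_inv (by decide +kernel)
    (by decide +kernel) (by decide +kernel) (rels_of_check rels_hold (by decide +kernel))
    (subs_of_check (seeds := []) (by simp) (by decide +kernel))

theorem indexD : (genBy ev []).relIndex (genBy ev [1, 2, 3, 4, 5, 6]) ≠ 0 ∧
    (genBy ev []).relIndex (genBy ev [1, 2, 3, 4, 5, 6]) ≤ Fi22CCert.cert.R.N :=
  relIndex_le_of_subCert (A := Fi23Cert.alphabet) (emb := [1, 2, 3, 4, 5, 6]) Fi22CCert.cert_ok ev_one ev_inv (by decide +kernel)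
    (by decide +kernel) (by decide +kernel) (rels_of_check rels_hold (by decide +kernel))
    (subs_of_check (seeds := []) (by simp) (by decide +kernel))

theorem H_eq_genBy : Fi23Cosets.H = genBy ev [0, 1, 2, 3, 4, 5, 6, 8, 9] :=
  Fi23Cosets.H_eq.trans (closure_letters_eq ev [0, 1, 2, 3, 4, 5, 6, 8, 9])

theorem card_H_le : Nat.card Fi23Cosets.H ≠ 0 ∧ Nat.card Fi23Cosets.H ≤ 129123503308800 := by
  rw [H_eq_genBy]
  exact card_le_mul (genBy_mono ev (by decide)) (card_le_mul (genBy_mono ev (by decide)) (card_le_mul (genBy_mono ev (by decide)) (card_le_mul (genBy_mono ev (by decide)) (card_bot_le ev) indexD) indexC) indexB) indexA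

theorem emb_ok : embOK Fi23Cert.rep Fi22UCert.rep Fi23Emb.net Fi23Emb.letters = true := by decide +kernel

theorem map_H : Fi23Cosets.H.map phi = Subgroup.closure (Fi23Cert.rep.perm rep_valid '' {y | y ∈ Fi23Emb.letters}) := by
  rw [H_eq_genBy, genBy, MonoidHom.map_closure, Set.image_image]
  refine congrArg _ (Set.image_congr fun x hx => phi_ev x ?_)
  have h : (Fi23Emb.letters.all fun y => Nat.blt y Fi23Cert.alphabet.eps) = true := by decide +kernel
  have := List.all_eq_true.1 h x hx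
  rwa [Nat.blt_eq] at this

theorem card_small : Nat.card (Subgroup.closure (Fi22UCert.rep.perm Fi22UCosets.rep_valid '' Set.Iio Fi22UCert.rep.A.eps)) =
    64561751654400 := by
  have h : Subgroup.closure (Fi22UCert.rep.perm Fi22UCosets.rep_valid '' Set.Iio Fi22UCert.rep.A.eps) =
      Fi22UCosets.phi.range := by
    rw [MonoidHom.range_eq_map, ← Fi22UCosets.gen_top, MonoidHom.map_closure, Set.image_image]
    exact congrArg _ (Set.image_congr fun x hx => (Fi22UCosets.phi_ev x hx).symm)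
  rw [h, ← Nat.card_congr (MonoidHom.ofInjective Fi22Order.phi_injective).toEquiv, Fi22Order.card_eq]

theorem card_map_ge : 129123503308800 ≤ Nat.card (Fi23Cosets.H.map phi) := by
  have h := two_mul_le_card rep_valid Fi22UCosets.rep_valid emb_ok [1, 2, 3, 4, 5, 6, 7, 1, 2, 3, 4, 5, 6, 7, 1, 2, 3, 4, 5, 6, 7, 1, 2, 3, 4, 5, 6, 7, 1, 2, 3, 4, 5, 6, 7, 1, 2, 3, 4, 5, 6, 7, 1, 2, 3, 4, 5, 6, 7, 1, 2, 3, 4, 5, 6, 7, 1, 2, 3, 4, 5, 6, 7] 1
    (by decide +kernel) (by decide +kernel)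
  rw [card_small, ← map_H] at h
  exact h

/-- The order of the subgroup. -/
theorem card_H : Nat.card Fi23Cosets.H = 129123503308800 := by
  have : Finite Fi23Cosets.H := Nat.finite_of_card_ne_zero card_H_le.1
  exact le_antisymm card_H_le.2 (card_map_ge.trans (Nat.card_le_card_of_surjective _
    (phi.subgroupMap_surjective Fi23Cosets.H)))

/-- The order. -/
theorem card_eq : Nat.card Cfsg.Spor.Fi23 = 4089470473293004800 := by
  rw [← Fi23Cosets.H.card_mul_index, card_H, Fi23Cosets.index_eq]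

theorem phi_injective : Function.Injective phi := by
  have : Finite Fi23Cosets.H := Nat.finite_of_card_ne_zero card_H_le.1
  have hinj : Function.Injective (phi.subgroupMap Fi23Cosets.H) :=
    ((phi.subgroupMap_surjective Fi23Cosets.H).bijective_of_nat_card_le (card_H ▸ card_map_ge)).1
  rw [injective_iff_map_eq_one]
  intro g hg
  have hgH : g ∈ Fi23Cosets.H := by
    have h1 := Fi23Cosets.equiv_smul g ((1 : Cfsg.Spor.Fi23) : Cfsg.Spor.Fi23 ⧸ Fi23Cosets.H)
    rw [hg, Equiv.Perm.one_apply] at h1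
    exact mem_of_fix (Fi23Cosets.equiv.injective h1)
  have := @hinj ⟨g, hgH⟩ 1 (Subtype.ext (by simpa using hg))
  exact congrArg Subtype.val this

end CfsgLib.Presented.Fi23Order
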