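import Cfsg.Agent.Lib.Presented.Fi24Cosets
import Cfsg.Agent.Lib.Presented.Fi23Simple

/-!
The subgroup 2 × Fi23 of the presented group Fi24, faithfulness of the table, and the order.
-/
set_option autoImplicit false
set_option maxRecDepth 8000
set_option Elab.async false

namespace CfsgLib.Presented.Fi24Order

open Fi24Base (ev phi phi_ev gen_top rels_hold ev_inv good spider_eq_one)
open Fi24Cert (alphabet rep rep_valid spiderWord)
open Fi24Cosets (H hl H_eq_genBy mem_H_of_fix index_eq)

theorem invl_self : ((List.range 13).all fun x => Nat.beq (alphabet.invl x) x) = true := by decide +kernel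

theorem ev_sq {x : ℕ} (hx : x < alphabet.eps) : ev x * ev x = 1 := by
  have h := ev_inv x hx
  rwa [Nat.eq_of_beq_eq_true (List.all_eq_true.1 invl_self x (List.mem_range.2 (Nat.lt_succ_of_lt hx)))] at h

theorem l_sq : ev 0 * ev 0 = 1 := ev_sq (by decide)

theorem l_inv : (ev 0)⁻¹ = ev 0 := inv_eq_of_mul_eq_one_left l_sq

/-- the letter l commutes with the subgroup -/
theorem l_comm : ∀ h, h ∈ H → Commute (ev 0) h := by
  intro h hh
  rw [H_eq_genBy] at hh
  induction hh using Subgroup.closure_induction with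
  | mem y hy =>
    obtain ⟨x, hx, rfl⟩ := hy
    have hc : (hl.all fun x => Nat.beq x 0 || (Nat.blt x alphabet.eps &&
        (Sporadic.Spider.turns alphabet Fi24Cert.relWords).contains [0, x, 0, x])) = true := by decide +kernel
    have h1 := List.all_eq_true.1 hc x hx
    simp only [Bool.or_eq_true, Bool.and_eq_true, Nat.blt_eq] at h1
    rcases h1 with h1 | ⟨hlt, h1⟩
    · rw [Nat.eq_of_beq_eq_true h1]
    · have h2 := Fi24Base.turns_hold _ (List.contains_iff_mem.1 h1)
      simp only [evW_cons, evW_nil, mul_one] at h2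
      show ev 0 * ev x = ev x * ev 0
      have h3 : ev 0 * ev x = (ev 0 * ev x)⁻¹ := eq_inv_of_mul_eq_one_left (by simpa [mul_assoc] using h2)
      rwa [mul_inv_rev, l_inv, inv_eq_of_mul_eq_one_left (ev_sq hlt)] at h3
  | one => exact Commute.one_right _
  | mul y z _ _ ihy ihz => exact ihy.mul_right ihz
  | inv y _ ih => exact ih.inv_right

/-- the images of the generators of Fi23 -/
noncomputable def img (g : Cfsg.Spor.Fi23.Gen) : Cfsg.Spor.Fi24 := ev (Fi23Cosets.idxOf g + 2) * ev 0

theorem shift_mem {x : ℕ} (hx : x < 10) : ev (x + 2) ∈ H := by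
  have hc : ((List.range 10).all fun x => hl.contains (x + 2)) = true := by decide +kernel
  rw [H_eq_genBy]
  exact mem_genBy ev (List.contains_iff_mem.1 (List.all_eq_true.1 hc x (List.mem_range.2 hx)))

theorem img_eval : ∀ {w : List ℕ}, (∀ x ∈ w, x < 10) →
    evW (Fi23Cosets.letters.ev img) w = evW ev (w.map (· + 2)) * ev 0 ^ w.length
  | [], _ => by simp
  | x :: w, h => by
    have hx := h x List.mem_cons_self
    have hb : ((List.range 10).all fun x => (Fi23Cosets.genOf x).2 &&
        Nat.beq (Fi23Cosets.idxOf (Fi23Cosets.genOf x).1) x) = true := by decide +kernel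
    have hb' := List.all_eq_true.1 hb x (List.mem_range.2 hx)
    rw [Bool.and_eq_true] at hb'
    have e : Fi23Cosets.letters.ev img x = ev (x + 2) * ev 0 := by
      have hlt : x < Fi23Cosets.letters.A.eps := hx
      simp only [Letters.ev, if_pos hlt]
      show cond (Fi23Cosets.genOf x).2 (img (Fi23Cosets.genOf x).1) _ = _
      rw [hb'.1, cond_true, img, Nat.eq_of_beq_eq_true hb'.2]
      rfl
    have hw : Commute (ev 0) (evW ev (w.map (· + 2))) := by
      apply l_comm
      apply list_prod_mem
      intro y hy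
      simp only [List.mem_map] at hy
      obtain ⟨_, ⟨z, hz, rfl⟩, rfl⟩ := hy
      exact shift_mem (h z (List.mem_cons_of_mem _ hz))
    rw [evW_cons, e, img_eval fun y hy => h y (List.mem_cons_of_mem _ hy), List.map_cons, evW_cons,
      List.length_cons, pow_succ']
    simp only [mul_assoc]
    rw [← mul_assoc (ev 0), hw.eq, mul_assoc]

theorem renamed_ok : (Fi23Cert.relWords.all fun w => w.all (fun x => Nat.blt x 10) &&
    cond (Nat.beq (w.length % 2) 0)
      ((Sporadic.Spider.turns alphabet Fi24Cert.relWords ++ [spiderWord]).contains (w.map (· + 2)))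
      (Fi24Cert.relWords.contains ([0] ++ invWord alphabet (w.map (· + 2))))) = true := by decide +kernel

theorem renamed_rels {w : List ℕ} (hw : w ∈ Fi23Cert.relWords) : evW (Fi23Cosets.letters.ev img) w = 1 := by
  have h := List.all_eq_true.1 renamed_ok w hw
  rw [Bool.and_eq_true] at h
  have hlt : ∀ x ∈ w, x < 10 := fun x hx => by
    have := List.all_eq_true.1 h.1 x hx
    rwa [Nat.blt_eq] at this
  rw [img_eval hlt]
  cases hp : Nat.beq (w.length % 2) 0
  · rw [hp, cond_false] at h
    have hodd : w.length % 2 = 1 := by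
      rcases Nat.mod_two_eq_zero_or_one w.length with h0 | h0
      · rw [h0] at hp; exact absurd hp (by decide)
      · exact h0
    have h1 := rels_hold _ (List.contains_iff_mem.1 h.2)
    rw [evW_append, evW_invWord good (fun x hx => by
      simp only [List.mem_map] at hx
      obtain ⟨z, hz, rfl⟩ := hx
      have := hlt z hz
      show z + 2 ≤ 12
      omega), evW_cons, evW_nil, mul_one, mul_inv_eq_one] at h1
    rw [← h1, ← Nat.div_add_mod w.length 2, hodd, pow_succ, pow_mul, sq, l_sq, one_pow, one_mul, l_sq]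
  · rw [hp, cond_true] at h
    rw [← Nat.div_add_mod w.length 2, Nat.eq_of_beq_eq_true hp, Nat.add_zero, pow_mul, sq, l_sq, one_pow, mul_one]
    rcases List.mem_append.1 (List.contains_iff_mem.1 h.2) with h1 | h1
    · exact Fi24Base.turns_hold _ h1
    · rw [List.mem_singleton.1 h1]
      exact spider_eq_one

theorem img_sq : ∀ g, img g * img g = 1 := by
  intro g
  have hx : Fi23Cosets.idxOf g < 10 := by cases g <;> decide
  rw [img, mul_assoc, ← mul_assoc (ev 0), (l_comm _ (shift_mem hx)).eq, mul_assoc, l_sq, mul_one]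
  exact ev_sq (show _ < 12 by omega)

/-- Fi23 inside Fi24. -/
noncomputable def theta : Cfsg.Spor.Fi23 →* Cfsg.Spor.Fi24 :=
  PresentedGroup.toGroup (Letters.kills Fi23Cosets.letters_valid Fi23Cosets.nodes_valid Fi23Cosets.full
    (fun g _ => img_sq g)
    (fun w hw => renamed_rels (Fi23Cosets.relWords_eq ▸ List.mem_append.2 (Or.inl hw)))
    (fun w hw => renamed_rels (Fi23Cosets.relWords_eq ▸ List.mem_append.2 (Or.inr hw))))

theorem theta_of (g : Cfsg.Spor.Fi23.Gen) : theta (PresentedGroup.of g) = img g := PresentedGroup.toGroup.of _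

theorem theta_mem (q : Cfsg.Spor.Fi23) : theta q ∈ H := by
  suffices h : (⊤ : Subgroup Cfsg.Spor.Fi23) ≤ H.comap theta from h (Subgroup.mem_top q)
  rw [← PresentedGroup.closure_range_of, Subgroup.closure_le]
  rintro _ ⟨g, rfl⟩
  show theta (PresentedGroup.of g) ∈ H
  have hx : Fi23Cosets.idxOf g < 10 := by cases g <;> decide
  rw [theta_of]
  exact mul_mem (shift_mem hx) (H_eq_genBy ▸ mem_genBy ev (show 0 ∈ hl by decide))

theorem H_decomp (h : Cfsg.Spor.Fi24) (hh : h ∈ H) : ∃ q, h = theta q ∨ h = theta q * ev 0 := by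
  rw [H_eq_genBy] at hh
  have hc : ∀ q, Commute (ev 0) (theta q) := fun q => l_comm _ (theta_mem q)
  induction hh using Subgroup.closure_induction with
  | mem y hy =>
    obtain ⟨x, hx, rfl⟩ := hy
    rcases Nat.eq_zero_or_pos x with rfl | hpos
    · exact ⟨1, Or.inr (by rw [map_one, one_mul])⟩
    · have hb : (hl.all fun x => Nat.beq x 0 || (Nat.ble 2 x &&
          Nat.beq (Fi23Cosets.idxOf (Fi23Cosets.genOf (x - 2)).1 + 2) x)) = true := by decide +kernel
      have h1 := List.all_eq_true.1 hb x hx
      simp only [Bool.or_eq_true, Bool.and_eq_true] at h1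
      rcases h1 with h1 | ⟨-, h1⟩
      · have := Nat.eq_of_beq_eq_true h1; omega
      · refine ⟨PresentedGroup.of (Fi23Cosets.genOf (x - 2)).1, Or.inr ?_⟩
        rw [theta_of, img, Nat.eq_of_beq_eq_true h1, mul_assoc, l_sq, mul_one]
  | one => exact ⟨1, Or.inl (map_one _).symm⟩
  | mul y z _ _ ihy ihz =>
    obtain ⟨p, hp⟩ := ihy
    obtain ⟨q, hq⟩ := ihz
    refine ⟨p * q, ?_⟩
    rcases hp with rfl | rfl <;> rcases hq with rfl | rfl
    · exact Or.inl (map_mul theta p q).symm
    · exact Or.inr (by rw [map_mul, mul_assoc])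
    · exact Or.inr (by rw [map_mul, mul_assoc, (hc q).eq, mul_assoc])
    · exact Or.inl (by rw [map_mul, mul_assoc, ← mul_assoc (ev 0), (hc q).eq, mul_assoc (theta q), l_sq, mul_one])
  | inv y _ ih =>
    obtain ⟨p, hp⟩ := ih
    refine ⟨p⁻¹, ?_⟩
    rcases hp with rfl | rfl
    · exact Or.inl (map_inv theta p).symm
    · exact Or.inr (by rw [mul_inv_rev, l_inv, (hc p).inv_right.eq, map_inv])

theorem moves_ok : ([[0], [2, 0]].all fun w => w.all (fun y => Nat.blt y alphabet.eps) &&
    !(Vec.applyNet (rep.netW w) (Nat.shiftLeft 1 1)).testBit 1) = true := by decide +kernel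

theorem phi_ne {w : List ℕ} (hw : w ∈ [[0], [2, 0]]) : phi (evW ev w) ≠ 1 := by
  have h := List.all_eq_true.1 moves_ok w hw
  simp only [Bool.and_eq_true, List.all_eq_true, Nat.blt_eq, Bool.not_eq_true'] at h
  rw [Fi24Base.phi_evW h.1]
  exact Fi23Simple.ne_one_of_moves rep_valid (by decide +kernel) h.2

theorem theta_injective : Function.Injective theta := by
  have := Fi23Simple.simple
  rw [← MonoidHom.ker_eq_bot_iff]
  refine (IsSimpleGroup.eq_bot_or_eq_top_of_normal theta.ker inferInstance).resolve_right fun h => ?_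
  have h1 : theta (PresentedGroup.of Cfsg.Spor.Fi23.Gen.a) = 1 := MonoidHom.mem_ker.1 (h ▸ Subgroup.mem_top _)
  rw [theta_of, img] at h1
  refine phi_ne (w := [2, 0]) (by decide) ?_
  rw [evW_cons, evW_cons, evW_nil, mul_one]
  exact (congrArg phi h1).trans (map_one phi)

theorem sgn_theta (q : Cfsg.Spor.Fi23) : Cfsg.Agent.S1691.sgn (theta q) = 1 := by
  suffices h : (⊤ : Subgroup Cfsg.Spor.Fi23) ≤ (Cfsg.Agent.S1691.sgn.comp theta).ker from
    MonoidHom.mem_ker.1 (h (Subgroup.mem_top q))
  rw [← PresentedGroup.closure_range_of, Subgroup.closure_le]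
  rintro _ ⟨g, rfl⟩
  show Cfsg.Agent.S1691.sgn (theta (PresentedGroup.of g)) = 1
  have hx : Fi23Cosets.idxOf g < 10 := by cases g <;> decide
  have h := Fi24Base.sgn_evW (w := [Fi23Cosets.idxOf g + 2, 0]) (by
    intro x hx'
    show x < 12
    simp only [List.mem_cons, List.not_mem_nil, or_false] at hx'
    omega)
  rw [evW_cons, evW_cons, evW_nil, mul_one] at h
  rw [theta_of, img, h, List.length_cons, List.length_singleton]
  decide +kernel

theorem l_not_theta (q : Cfsg.Spor.Fi23) : theta q ≠ ev 0 := by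
  intro h
  have h2 := Fi24Base.sgn_evW (w := [0]) (by decide +kernel)
  rw [evW_cons, evW_nil, mul_one, ← h, sgn_theta] at h2
  revert h2
  decide +kernel

theorem card_H : Nat.card H = 8178940946586009600 := by
  have hl : ev 0 ∈ H := H_eq_genBy ▸ mem_genBy ev (show 0 ∈ hl by decide)
  let f : Cfsg.Spor.Fi23 × Bool → H := fun p =>
    ⟨theta p.1 * cond p.2 (ev 0) 1, mul_mem (theta_mem p.1) (by cases p.2 <;> simp [hl])⟩
  have hf : Function.Bijective f := by
    constructor
    · rintro ⟨p, a⟩ ⟨q, b⟩ h
      have h' : theta p * cond a (ev 0) 1 = theta q * cond b (ev 0) 1 := congrArg Subtype.val h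
      cases a <;> cases b <;> simp only [cond_true, cond_false, mul_one] at h'
      · rw [theta_injective h']
      · exact absurd (show theta (q⁻¹ * p) = ev 0 by rw [map_mul, map_inv, h', inv_mul_cancel_left]) (l_not_theta _)
      · exact absurd (show theta (p⁻¹ * q) = ev 0 by rw [map_mul, map_inv, ← h', inv_mul_cancel_left]) (l_not_theta _)
      · rw [theta_injective (mul_right_cancel h')]
    · rintro ⟨h, hh⟩
      obtain ⟨q, hq | hq⟩ := H_decomp h hh
      · exact ⟨(q, false), Subtype.ext (by simp [f, hq])⟩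
      · exact ⟨(q, true), Subtype.ext (by simp [f, hq])⟩
  rw [← Nat.card_eq_of_bijective f hf, Nat.card_prod, Fi23Order.card_eq, Nat.card_eq_fintype_card, Fintype.card_bool]

/-- The order. -/
theorem card_eq : Nat.card Cfsg.Spor.Fi24 = 2510411418381323442585600 := by
  rw [← H.card_mul_index, card_H, index_eq]

theorem fi23_noncomm (q : Cfsg.Spor.Fi23) (h : ∀ r, r * q = q * r) : q = 1 := by
  have := Fi23Simple.simple
  have h0 : Subgroup.center Cfsg.Spor.Fi23 = ⊥ := by
    refine (IsSimpleGroup.eq_bot_or_eq_top_of_normal (Subgroup.center Cfsg.Spor.Fi23) inferInstance).resolve_right fun h => ?_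
    let _ : CommGroup Cfsg.Spor.Fi23 := { (inferInstance : Group Cfsg.Spor.Fi23) with
      mul_comm := fun a b => (Subgroup.mem_center_iff.1 (h ▸ Subgroup.mem_top a) b).symm }
    have hp := IsSimpleGroup.prime_card (α := Cfsg.Spor.Fi23)
    rw [Fi23Order.card_eq] at hp
    exact absurd hp (by norm_num)
  exact Subgroup.mem_bot.1 (h0 ▸ Subgroup.mem_center_iff.2 h)

theorem spread (N : Subgroup Cfsg.Spor.Fi24) [N.Normal] {x y : ℕ} (hx : ev x ∈ N) (hy : y < alphabet.eps)
    (h : Fi24Cert.relWords.contains [x, y, x, y, x, y] = true ∨ Fi24Cert.relWords.contains [y, x, y, x, y, x] = true) :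
    ev y ∈ N := by
  have hq : (QuotientGroup.mk' N (ev x)) = 1 := (QuotientGroup.eq_one_iff _).2 hx
  have h2 : QuotientGroup.mk' N (ev y) * QuotientGroup.mk' N (ev y) = 1 := by
    have hi : ((List.range alphabet.eps).all fun z => Nat.beq (alphabet.invl z) z) = true := by decide +kernel
    have h1 := ev_inv y hy
    rw [Nat.eq_of_beq_eq_true (List.all_eq_true.1 hi y (List.mem_range.2 hy))] at h1
    rw [← map_mul, h1, map_one]
  rcases h with h | h <;>
  · have h3 := congrArg (QuotientGroup.mk' N) (rels_hold _ (List.contains_iff_mem.1 h))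
    simp only [evW_cons, evW_nil, mul_one, map_mul, map_one, hq, one_mul] at h3
    rw [h2, mul_one] at h3
    exact (QuotientGroup.eq_one_iff _).1 h3

theorem top_of_l (N : Subgroup Cfsg.Spor.Fi24) [N.Normal] (h0 : ev 0 ∈ N) : N = ⊤ := by
  have h1 := spread N h0 (y := 1) (by decide) (by decide +kernel)
  have h2 := spread N h1 (y := 2) (by decide) (by decide +kernel)
  have h3 := spread N h2 (y := 3) (by decide) (by decide +kernel)
  have h4 := spread N h3 (y := 4) (by decide) (by decide +kernel)
  have h5 := spread N h4 (y := 5) (by decide) (by decide +kernel)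
  have h6 := spread N h5 (y := 6) (by decide) (by decide +kernel)
  have h7 := spread N h6 (y := 7) (by decide) (by decide +kernel)
  have h8 := spread N h7 (y := 8) (by decide) (by decide +kernel)
  have h9 := spread N h8 (y := 9) (by decide) (by decide +kernel)
  have h10 := spread N h5 (y := 10) (by decide) (by decide +kernel)
  have h11 := spread N h10 (y := 11) (by decide) (by decide +kernel)
  rw [eq_top_iff, ← gen_top, Subgroup.closure_le]
  rintro _ ⟨x, hx, rfl⟩
  have he : alphabet.eps = 12 := rfl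
  rw [Set.mem_Iio, he] at hx
  rcases (by omega : x = 0 ∨ x = 1 ∨ x = 2 ∨ x = 3 ∨ x = 4 ∨ x = 5 ∨ x = 6 ∨ x = 7 ∨ x = 8 ∨ x = 9 ∨ x = 10 ∨ x = 11)
    with rfl | rfl | rfl | rfl | rfl | rfl | rfl | rfl | rfl | rfl | rfl | rfl <;> assumption

theorem phi_injective : Function.Injective phi := by
  rw [← MonoidHom.ker_eq_bot_iff, Subgroup.eq_bot_iff_forall]
  intro g hg
  have hK : ∀ k, k ∈ phi.ker → k ∈ H := fun k hk => mem_H_of_fix (by rw [MonoidHom.mem_ker.1 hk]; rfl)
  -- the centraliser of the kernel is normal and contains l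
  have hC : Subgroup.centralizer (phi.ker : Set Cfsg.Spor.Fi24) = ⊤ := by
    refine top_of_l _ ?_
    rw [Subgroup.mem_centralizer_iff]
    intro k hk
    exact (l_comm k (hK k hk)).eq.symm
  have hcen : ∀ x, x * g = g * x := fun x =>
    ((Subgroup.mem_centralizer_iff.1 (hC ▸ Subgroup.mem_top x : x ∈ Subgroup.centralizer _)) g hg).symm
  obtain ⟨q, hq⟩ := H_decomp g (hK g hg)
  have h1 : q = 1 := by
    refine fi23_noncomm q fun r => theta_injective ?_
    rw [map_mul, map_mul]
    rcases hq with rfl | rfl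
    · exact hcen (theta r)
    · have h := hcen (theta r)
      rw [← mul_assoc, mul_assoc (theta q) (ev 0), (l_comm _ (theta_mem r)).eq, ← mul_assoc] at h
      exact mul_right_cancel h
  subst h1
  rw [map_one, one_mul] at hq
  rcases hq with rfl | rfl
  · rfl
  · refine absurd ?_ (phi_ne (w := [0]) (by decide))
    rw [evW_cons, evW_nil, mul_one]
    exact MonoidHom.mem_ker.1 hg

end CfsgLib.Presented.Fi24Order
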