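import Cfsg.Agent.Lib.Presented.Order
import Mathlib.GroupTheory.OrderOfElement
import Mathlib.GroupTheory.Subgroup.Simple

/-!
A simple group embeds in a group when pairs of generators satisfy the relators of a coset table
whose size times the order of the chosen cyclic subgroup is at most the order of the simple group.
-/
set_option autoImplicit false

namespace CfsgLib.Presented

/-- The embedding given by a coset table over a cyclic subgroup. -/
theorem exists_subgroup_equiv_of_cert {M G : Type*} [Group M] [Finite M] [IsSimpleGroup M] [Group G]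
    {C : VCert} (hok : C.ok = true) (ev : ℕ → M × G) (hone : ev C.R.A.eps = 1)
    (hinv : ∀ x, x < C.R.A.eps → ev (C.R.A.invl x) * ev x = 1)
    (hrels : ∀ w ∈ C.rels, evW ev w = 1) {s : List ℕ} {k : ℕ} (hk : 0 < k)
    (hsubs : C.subs = [s]) (hs : ∀ y ∈ s, y < C.R.A.eps) (hsk : evW ev s ^ k = 1)
    (hsurj : Subgroup.closure ((fun x => (ev x).1) '' Set.Iio C.R.A.eps) = ⊤)
    (hne : ∃ x, x < C.R.A.eps ∧ (ev x).2 ≠ 1) (hle : C.R.N * k ≤ Nat.card M) :
    ∃ S : Subgroup G, Nonempty (M ≃* S) := by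
  set K : Subgroup (M × G) := Subgroup.closure (ev '' Set.Iio C.R.A.eps) with hK
  set H : Subgroup (M × G) := Subgroup.zpowers (evW ev s) with hH
  have hfo : IsOfFinOrder (evW ev s) := isOfFinOrder_iff_pow_eq_one.2 ⟨k, hk, hsk⟩
  have hHcard : Nat.card H ≠ 0 ∧ Nat.card H ≤ k := by
    rw [hH, Nat.card_zpowers]
    exact ⟨hfo.orderOf_pos.ne', orderOf_le_of_pow_eq_one hk hsk⟩
  have hidx : H.relIndex K ≠ 0 ∧ H.relIndex K ≤ C.R.N :=
    VCert.relIndex_le hok hone hinv hrels (by
      rw [hsubs]
      intro w hw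
      rw [List.mem_singleton] at hw
      subst hw
      exact Subgroup.mem_zpowers _) le_rfl
  have hHK : H ≤ K := by
    rw [hH, Subgroup.zpowers_le]
    refine Subgroup.list_prod_mem _ fun y hy => ?_
    obtain ⟨x, hx, rfl⟩ := List.mem_map.1 hy
    exact Subgroup.subset_closure ⟨x, hs x hx, rfl⟩
  obtain ⟨hK0, hKle⟩ := card_le_mul hHK hHcard hidx
  have : Finite K := Nat.finite_of_card_ne_zero hK0
  let f : K →* M := (MonoidHom.fst M G).comp K.subtype
  have hf : Function.Surjective f := by
    rw [← MonoidHom.range_eq_top, eq_top_iff, ← hsurj, Subgroup.closure_le]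
    rintro _ ⟨x, hx, rfl⟩
    exact ⟨⟨ev x, Subgroup.subset_closure ⟨x, hx, rfl⟩⟩, rfl⟩
  have hbij : Function.Bijective f := hf.bijective_of_nat_card_le (hKle.trans hle)
  let e : M ≃* K := (MulEquiv.ofBijective f hbij).symm
  let g : M →* G := ((MonoidHom.snd M G).comp K.subtype).comp e.toMonoidHom
  have hg : Function.Injective g := by
    rw [← MonoidHom.ker_eq_bot_iff]
    refine (IsSimpleGroup.eq_bot_or_eq_top_of_normal g.ker inferInstance).resolve_right fun htop => ?_
    obtain ⟨x, hx, hx1⟩ := hne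
    apply hx1
    have hmem : ev x ∈ K := Subgroup.subset_closure ⟨x, hx, rfl⟩
    have he : e (f ⟨ev x, hmem⟩) = ⟨ev x, hmem⟩ :=
      (MulEquiv.ofBijective f hbij).symm_apply_apply _
    have h1 : g (f ⟨ev x, hmem⟩) = 1 := by
      rw [← MonoidHom.mem_ker, htop]; exact Subgroup.mem_top _
    calc (ev x).2 = g (f ⟨ev x, hmem⟩) := by
          show _ = (e (f ⟨ev x, hmem⟩)).1.2
          rw [he]
      _ = 1 := h1
  exact ⟨g.range, ⟨MonoidHom.ofInjective hg⟩⟩

end CfsgLib.Presented
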