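import Cfsg.Agent.Lib.Presented.MatCheck
import Mathlib.Data.ZMod.Basic
import Mathlib.Data.Matrix.Basic
import Mathlib.Data.Matrix.Mul

/-!
Kernel-checked products of dense matrices over `ZMod 5`: a whole `N × M` matrix is one number with lanes of 24
bits, a product is `N` big multiplications followed by one reduction of all lanes at once.
-/
set_option autoImplicit false

namespace CfsgLib.Presented.MatFive

/-- the base of a row of `M` lanes -/
noncomputable def rowBase (M : ℕ) : ℕ := Nat.pow 2 (Nat.mul 24 M)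

/-- `N` copies of `D` in base `B` -/
noncomputable def lanes (B D N : ℕ) : ℕ :=
  Nat.rec (motive := fun _ => ℕ) 0 (fun _ ih => Nat.add D (Nat.mul B ih)) N

/-- the base-8 digits of a column moved to base `BM` -/
noncomputable def spread (BM N n : ℕ) : ℕ :=
  Nat.rec (motive := fun _ => ℕ → ℕ) (fun _ => 0)
    (fun _ ih m => Vec.force (ih (Nat.div m 8)) fun r => Nat.add (Nat.mod m 8) (Nat.mul BM r)) N n

/-- spread all columns -/
noncomputable def spreadK {β : Type} (BM N : ℕ) (cols : List ℕ) : (List ℕ → β) → β :=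
  List.rec (motive := fun _ => (List ℕ → β) → β) (fun k => k [])
    (fun c _ ih k => Vec.force (spread BM N c) fun v => ih fun r => k (v :: r)) cols

/-- spread all matrices -/
noncomputable def spreadAllK {β : Type} (BM N : ℕ) (mats : List (List ℕ)) : (List (List ℕ) → β) → β :=
  List.rec (motive := fun _ => (List (List ℕ) → β) → β) (fun k => k [])
    (fun c _ ih k => spreadK BM N c fun v => ih fun r => k (v :: r)) mats

/-- the unreduced product -/
noncomputable def sumC (BM : ℕ) (Cs : List ℕ) (T : ℕ) : ℕ :=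
  List.rec (motive := fun _ => ℕ → ℕ) (fun _ => 0)
    (fun c _ ih T => Nat.add (Nat.mul c (Nat.mod T BM)) (ih (Nat.div T BM))) Cs T

/-- all lanes reduced modulo 5 -/
noncomputable def reduce (C P : ℕ) : ℕ :=
  Nat.sub P (Nat.mul 5 (Nat.land (Nat.shiftRight (Nat.mul P 3277) 14) C))

/-- a word of matrices applied -/
noncomputable def run (BM C : ℕ) (S : List (List ℕ)) (w : List ℕ) (T : ℕ) : ℕ :=
  List.rec (motive := fun _ => ℕ) T
    (fun x _ ih => Vec.force ih fun U => Vec.force (sumC BM (S.getD x []) U) fun P => reduce C P) w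

/-- the lane mask -/
noncomputable def mask (M N : ℕ) : ℕ := lanes (rowBase M) (lanes (rowBase 1) 1023 M) N

/-- the words are all the identity -/
noncomputable def checkId (N : ℕ) (mats : List (List ℕ)) (ws : List (List ℕ)) : Bool :=
  Vec.force (rowBase N) fun BM => Vec.force (mask N N) fun C =>
    Vec.force (lanes (rowBase (N + 1)) 1 N) fun T0 =>
      spreadAllK BM N mats fun S => ws.all fun w =>
        w.all (fun x => Nat.blt x S.length) && Nat.beq (run BM C S w T0) T0

/-- a base-8 digit -/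
def digit (n i : ℕ) : ℕ := n / 8 ^ i % 8

/-- a matrix of rows of 24-bit lanes as one number -/
noncomputable def enc (N M : ℕ) (X : ℕ → ℕ → ℕ) : ℕ :=
  ∑ i ∈ Finset.range N, (∑ j ∈ Finset.range M, X i j * (2 ^ 24) ^ j) * ((2 ^ 24) ^ M) ^ i

theorem rowBase_eq (M : ℕ) : rowBase M = (2 ^ 24) ^ M := by
  show 2 ^ (24 * M) = _
  rw [← pow_mul]

theorem lanes_eq (B D : ℕ) : ∀ N, lanes B D N = ∑ i ∈ Finset.range N, D * B ^ i
  | 0 => rfl
  | N + 1 => by
    show D + B * lanes B D N = _
    rw [lanes_eq B D N, Finset.sum_range_succ', Finset.mul_sum, add_comm, pow_zero, mul_one]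
    exact congrArg (· + D) (Finset.sum_congr rfl fun i _ => by ring)

theorem spread_eq (BM : ℕ) : ∀ N n, spread BM N n = ∑ i ∈ Finset.range N, digit n i * BM ^ i
  | 0, _ => rfl
  | N + 1, n => by
    show Vec.force (spread BM N (n / 8)) (fun r => n % 8 + BM * r) = _
    rw [Vec.force_eq, spread_eq BM N, Finset.sum_range_succ', Finset.mul_sum, add_comm]
    simp only [digit, pow_zero, Nat.div_one, mul_one]
    exact congrArg (· + n % 8) (Finset.sum_congr rfl fun i _ => by
      rw [Nat.div_div_eq_div_mul, pow_succ', pow_succ']; ring)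

theorem spreadK_eq {β : Type} (BM N : ℕ) : ∀ (cols : List ℕ) (k : List ℕ → β),
    spreadK BM N cols k = k (cols.map (spread BM N))
  | [], _ => rfl
  | c :: cols, k => by
    show Vec.force (spread BM N c) (fun v => spreadK BM N cols fun r => k (v :: r)) = _
    rw [Vec.force_eq, spreadK_eq BM N cols]
    rfl

theorem spreadAllK_eq {β : Type} (BM N : ℕ) : ∀ (mats : List (List ℕ)) (k : List (List ℕ) → β),
    spreadAllK BM N mats k = k (mats.map fun c => c.map (spread BM N))
  | [], _ => rfl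
  | c :: mats, k => by
    show spreadK BM N c (fun v => spreadAllK BM N mats fun r => k (v :: r)) = _
    rw [spreadK_eq, spreadAllK_eq BM N mats]
    rfl

theorem sumC_eq (BM : ℕ) : ∀ Cs T, sumC BM Cs T = ∑ k ∈ Finset.range Cs.length, Cs.getD k 0 * (T / BM ^ k % BM)
  | [], _ => rfl
  | c :: Cs, T => by
    show c * (T % BM) + sumC BM Cs (T / BM) = _
    rw [sumC_eq BM Cs, List.length_cons, Finset.sum_range_succ', add_comm]
    simp only [List.getD_cons_succ, List.getD_cons_zero, pow_zero, Nat.div_one]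
    exact congrArg (· + c * (T % BM)) (Finset.sum_congr rfl fun i _ => by
      rw [Nat.div_div_eq_div_mul, pow_succ'])

theorem sum_lt_pow (B : ℕ) : ∀ (n : ℕ) (f : ℕ → ℕ), (∀ k, k < n → f k < B) → ∑ k ∈ Finset.range n, f k * B ^ k < B ^ n
  | 0, _, _ => by simp
  | n + 1, f, h => by
    have ih := sum_lt_pow B n f fun k hk => h k (hk.trans (Nat.lt_succ_self n))
    rw [Finset.sum_range_succ, pow_succ]
    calc _ < B ^ n + f n * B ^ n := Nat.add_lt_add_right ih _
      _ = (f n + 1) * B ^ n := by ring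
      _ ≤ B * B ^ n := Nat.mul_le_mul_right _ (h n (Nat.lt_succ_self n))
      _ = B ^ n * B := mul_comm _ _

theorem testBit_sum {n : ℕ} {f : ℕ → ℕ} (h : ∀ k, k < n → f k < 2 ^ 24) (l t : ℕ) (ht : t < 24) :
    (∑ k ∈ Finset.range n, f k * (2 ^ 24) ^ k).testBit (24 * l + t) = (decide (l < n) && (f l).testBit t) := by
  by_cases hl : l < n
  · have e := MatCheck.digit_sum (2 ^ 24) n f l h hl
    rw [← pow_mul 2 24 l] at e
    rw [← e, Nat.testBit_mod_two_pow, Nat.testBit_div_two_pow, decide_eq_true hl, decide_eq_true ht,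
      Bool.true_and, Bool.true_and, add_comm]
  · rw [decide_eq_false hl, Bool.false_and]
    refine Nat.testBit_lt_two_pow (lt_of_lt_of_le (sum_lt_pow _ n f h) ?_)
    rw [← pow_mul]
    exact Nat.pow_le_pow_right (by omega) (by omega)

theorem reduce_flat {n : ℕ} {f : ℕ → ℕ} (h : ∀ k, k < n → f k ≤ 5119) :
    reduce (∑ k ∈ Finset.range n, 1023 * (2 ^ 24) ^ k) (∑ k ∈ Finset.range n, f k * (2 ^ 24) ^ k) =
      ∑ k ∈ Finset.range n, f k % 5 * (2 ^ 24) ^ k := by
  have hq : (((∑ k ∈ Finset.range n, f k * (2 ^ 24) ^ k) * 3277) >>> 14) &&& (∑ k ∈ Finset.range n, 1023 * (2 ^ 24) ^ k) =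
      ∑ k ∈ Finset.range n, f k / 5 * (2 ^ 24) ^ k := by
    have e : (∑ k ∈ Finset.range n, f k * (2 ^ 24) ^ k) * 3277 = ∑ k ∈ Finset.range n, f k * 3277 * (2 ^ 24) ^ k := by
      rw [Finset.sum_mul]
      exact Finset.sum_congr rfl fun k _ => by ring
    have hb1 : ∀ k, k < n → f k * 3277 < 2 ^ 24 := fun k hk => by have := h k hk; omega
    have hb2 : ∀ k, k < n → f k / 5 < 2 ^ 24 := fun k hk => by have := h k hk; omega
    rw [e]
    apply Nat.eq_of_testBit_eq
    intro i
    obtain ⟨l, t, ht, rfl⟩ : ∃ l t, t < 24 ∧ i = 24 * l + t :=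
      ⟨i / 24, i % 24, Nat.mod_lt _ (by omega), (Nat.div_add_mod i 24).symm⟩
    rw [Nat.testBit_and, testBit_sum (fun _ _ => by omega) l t ht, testBit_sum hb2 l t ht,
      Nat.testBit_shiftRight, show (1023 : ℕ) = 2 ^ 10 - 1 from rfl, Nat.testBit_two_pow_sub_one]
    by_cases hl : l < n
    · have hk := h l hl
      by_cases ht10 : t < 10
      · rw [show 14 + (24 * l + t) = 24 * l + (14 + t) by omega, testBit_sum hb1 l (14 + t) (by omega)]
        have : f l * 3277 / 2 ^ 14 = f l / 5 := by omega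
        rw [← this, Nat.testBit_div_two_pow, decide_eq_true hl, decide_eq_true ht10, add_comm 14 t]
        simp
      · have : (f l / 5).testBit t = false :=
          Nat.testBit_lt_two_pow (lt_of_lt_of_le (b := 2 ^ 10) (by omega) (Nat.pow_le_pow_right (by omega) (by omega)))
        simp [this, ht10]
    · simp [hl]
  show (∑ k ∈ Finset.range n, f k * (2 ^ 24) ^ k) - 5 * ((((∑ k ∈ Finset.range n, f k * (2 ^ 24) ^ k) * 3277) >>> 14) &&& _) = _
  rw [hq]
  have e : ∑ k ∈ Finset.range n, f k * (2 ^ 24) ^ k =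
      (∑ k ∈ Finset.range n, f k % 5 * (2 ^ 24) ^ k) + 5 * ∑ k ∈ Finset.range n, f k / 5 * (2 ^ 24) ^ k := by
    rw [Finset.mul_sum, ← Finset.sum_add_distrib]
    exact Finset.sum_congr rfl fun k _ => by
      conv_lhs => rw [← Nat.mod_add_div (f k) 5]
      ring
  omega

theorem enc_flat (M : ℕ) (X : ℕ → ℕ → ℕ) : ∀ N,
    enc N M X = ∑ l ∈ Finset.range (N * M), X (l / M) (l % M) * (2 ^ 24) ^ l
  | 0 => by simp [enc]
  | N + 1 => by
    rw [enc, Finset.sum_range_succ, ← enc, enc_flat M X N, Nat.succ_mul, Finset.sum_range_add, Finset.sum_mul]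
    refine congrArg (_ + ·) (Finset.sum_congr rfl fun j hj => ?_)
    have hjM := Finset.mem_range.1 hj
    have h1 : (N * M + j) / M = N := by
      rw [Nat.mul_comm, Nat.mul_add_div (by omega), Nat.div_eq_of_lt hjM, Nat.add_zero]
    have h2 : (N * M + j) % M = j := by
      rw [Nat.mul_comm, Nat.mul_add_mod, Nat.mod_eq_of_lt hjM]
    rw [h1, h2, pow_add, ← pow_mul (2 ^ 24) M N, Nat.mul_comm M N]
    ring

theorem mask_eq (M N : ℕ) : mask M N = ∑ l ∈ Finset.range (N * M), 1023 * (2 ^ 24) ^ l := by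
  rw [mask, lanes_eq, lanes_eq, rowBase_eq, rowBase_eq, pow_one, ← enc_flat M (fun _ _ => 1023) N]
  rfl

theorem reduce_enc {N M : ℕ} {X : ℕ → ℕ → ℕ} (h : ∀ i, i < N → ∀ j, j < M → X i j ≤ 5119) :
    reduce (mask M N) (enc N M X) = enc N M fun i j => X i j % 5 := by
  rw [mask_eq, enc_flat, enc_flat, reduce_flat]
  intro l hl
  rcases Nat.eq_zero_or_pos M with rfl | hM
  · simp at hl
  · exact h _ ((Nat.div_lt_iff_lt_mul hM).2 hl) _ (Nat.mod_lt _ hM)

theorem enc_row {N M : ℕ} {X : ℕ → ℕ → ℕ} (h : ∀ i, i < N → ∀ j, j < M → X i j < 2 ^ 24) {k : ℕ} (hk : k < N) :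
    enc N M X / ((2 ^ 24) ^ M) ^ k % (2 ^ 24) ^ M = ∑ j ∈ Finset.range M, X k j * (2 ^ 24) ^ j :=
  MatCheck.digit_sum _ N _ k (fun i hi => sum_lt_pow _ M _ fun j hj => h i hi j hj) hk

theorem enc_inj {N M : ℕ} {X Y : ℕ → ℕ → ℕ} (hX : ∀ i, i < N → ∀ j, j < M → X i j < 2 ^ 24)
    (hY : ∀ i, i < N → ∀ j, j < M → Y i j < 2 ^ 24) (h : enc N M X = enc N M Y) {i j : ℕ} (hi : i < N) (hj : j < M) :
    X i j = Y i j := by
  have e := enc_row hY hi
  rw [← h, enc_row hX hi] at e
  rw [← MatCheck.digit_sum _ M (X i) j (hX i hi) hj, e, MatCheck.digit_sum _ M (Y i) j (hY i hi) hj]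

/-- the entry of a matrix given by columns -/
def entry (mats : List (List ℕ)) (x i k : ℕ) : ℕ := digit ((mats.getD x []).getD k 0) i

/-- one step -/
def mulStep (N : ℕ) (mats : List (List ℕ)) (x : ℕ) (X : ℕ → ℕ → ℕ) (i j : ℕ) : ℕ :=
  (∑ k ∈ Finset.range N, entry mats x i k * X k j) % 5

/-- a word applied to an array -/
def mulWord (N : ℕ) (mats : List (List ℕ)) (w : List ℕ) (X : ℕ → ℕ → ℕ) : ℕ → ℕ → ℕ := w.foldr (mulStep N mats) X

/-- the data have the announced shape -/
noncomputable def shapeOK (N : ℕ) (mats : List (List ℕ)) : Bool :=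
  Nat.ble N 182 && mats.all fun m => Nat.beq m.length N

theorem step_spec {N M : ℕ} {mats : List (List ℕ)} (hs : shapeOK N mats = true) {x : ℕ} (hx : x < mats.length)
    {X : ℕ → ℕ → ℕ} (hX : ∀ i, i < N → ∀ j, j < M → X i j ≤ 4) :
    reduce (mask M N) (sumC (rowBase M) ((mats.map fun c => c.map (spread (rowBase M) N)).getD x []) (enc N M X)) =
      enc N M (mulStep N mats x X) := by
  simp only [shapeOK, Bool.and_eq_true, Nat.ble_eq, List.all_eq_true, Nat.beq_eq] at hs
  obtain ⟨hN, hlen⟩ := hs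
  have hl : (mats.getD x []).length = N := by
    rw [List.getD_eq_getElem _ _ hx]
    exact hlen _ (List.getElem_mem hx)
  have hC : (mats.map fun c => c.map (spread (rowBase M) N)).getD x [] = (mats.getD x []).map (spread (rowBase M) N) := by
    simp [List.getD_eq_getElem?_getD, List.getElem?_map, List.getElem?_eq_getElem hx]
  have hsum : sumC (rowBase M) ((mats.getD x []).map (spread (rowBase M) N)) (enc N M X) =
      enc N M fun i j => ∑ k ∈ Finset.range N, entry mats x i k * X k j := by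
    rw [sumC_eq, List.length_map, hl]
    have e : ∀ k ∈ Finset.range N, ((mats.getD x []).map (spread (rowBase M) N)).getD k 0 *
        (enc N M X / rowBase M ^ k % rowBase M) =
        ∑ i ∈ Finset.range N, ∑ j ∈ Finset.range M,
          entry mats x i k * X k j * ((2 ^ 24) ^ j * ((2 ^ 24) ^ M) ^ i) := by
      intro k hk
      have hk' : k < (mats.getD x []).length := hl ▸ Finset.mem_range.1 hk
      rw [rowBase_eq, enc_row (fun i hi j hj => lt_of_le_of_lt (hX i hi j hj) (by omega)) (Finset.mem_range.1 hk),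
        List.getD_eq_getElem?_getD, List.getElem?_map, List.getElem?_eq_getElem hk', Option.map_some,
        Option.getD_some, spread_eq, Finset.sum_mul_sum]
      refine Finset.sum_congr rfl fun i _ => Finset.sum_congr rfl fun j _ => ?_
      rw [entry, List.getD_eq_getElem _ _ hk']
      ring
    rw [Finset.sum_congr rfl e, enc, Finset.sum_comm]
    refine Finset.sum_congr rfl fun i _ => ?_
    rw [Finset.sum_comm, Finset.sum_mul]
    refine Finset.sum_congr rfl fun j _ => ?_
    rw [Finset.sum_mul, Finset.sum_mul]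
    exact Finset.sum_congr rfl fun k _ => by ring
  rw [hC, hsum, reduce_enc]
  · rfl
  intro i hi j hj
  calc ∑ k ∈ Finset.range N, entry mats x i k * X k j ≤ ∑ _k ∈ Finset.range N, 7 * 4 :=
        Finset.sum_le_sum fun k hk => Nat.mul_le_mul
          (Nat.lt_succ_iff.1 (Nat.mod_lt _ (by omega))) (hX k (Finset.mem_range.1 hk) j hj)
    _ ≤ 5119 := by simp only [Finset.sum_const, Finset.card_range, smul_eq_mul]; omega

theorem mulWord_le {N M : ℕ} {mats : List (List ℕ)} {X : ℕ → ℕ → ℕ} (hX : ∀ i, i < N → ∀ j, j < M → X i j ≤ 4) :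
    ∀ w : List ℕ, ∀ i, i < N → ∀ j, j < M → mulWord N mats w X i j ≤ 4
  | [] => hX
  | _ :: _ => fun i _ j _ => Nat.lt_succ_iff.1 (Nat.mod_lt _ (by omega))

theorem run_spec {N M : ℕ} {mats : List (List ℕ)} (hs : shapeOK N mats = true) {X : ℕ → ℕ → ℕ}
    (hX : ∀ i, i < N → ∀ j, j < M → X i j ≤ 4) : ∀ w : List ℕ, (∀ x ∈ w, x < mats.length) →
    run (rowBase M) (mask M N) (mats.map fun c => c.map (spread (rowBase M) N)) w (enc N M X) =
      enc N M (mulWord N mats w X)
  | [], _ => rfl
  | x :: w, hw => by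
    show Vec.force (run _ _ _ w _) (fun U => Vec.force (sumC _ _ U) fun P => reduce _ P) = _
    rw [Vec.force_eq, Vec.force_eq, run_spec hs hX w fun y hy => hw y (List.mem_cons_of_mem _ hy),
      step_spec hs (hw x List.mem_cons_self) (mulWord_le hX w)]
    rfl

/-- the matrices modulo 5 -/
noncomputable def mat (N : ℕ) (mats : List (List ℕ)) (x : ℕ) : Matrix (Fin N) (Fin N) (ZMod 5) :=
  fun i k => (entry mats x i k : ZMod 5)

theorem cast_mulWord {N : ℕ} (mats : List (List ℕ)) (X : ℕ → ℕ → ℕ) (j : ℕ) :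
    ∀ w : List ℕ, (fun i : Fin N => (mulWord N mats w X i j : ZMod 5)) =
      ((w.map (mat N mats)).prod).mulVec (fun i : Fin N => (X i j : ZMod 5))
  | [] => by simp [mulWord]
  | x :: w => by
    rw [List.map_cons, List.prod_cons, ← Matrix.mulVec_mulVec, ← cast_mulWord mats X j w]
    funext i
    show ((((∑ k ∈ Finset.range N, entry mats x i k * mulWord N mats w X k j) % 5 : ℕ)) : ZMod 5) = ∑ k : Fin N, _ * _
    rw [ZMod.natCast_mod, ← Fin.sum_univ_eq_sum_range (fun k => entry mats x i k * mulWord N mats w X k j) N,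
      Nat.cast_sum]
    exact Finset.sum_congr rfl fun k _ => by rw [Nat.cast_mul]; rfl

theorem checkId_spec {N : ℕ} {mats ws : List (List ℕ)} (hs : shapeOK N mats = true)
    (h : checkId N mats ws = true) {w : List ℕ} (hw : w ∈ ws) :
    (∀ x ∈ w, x < mats.length) ∧ (w.map (mat N mats)).prod = 1 := by
  simp only [checkId, Vec.force_eq, spreadAllK_eq, List.all_eq_true, Bool.and_eq_true, Nat.blt_eq,
    List.length_map, Nat.beq_eq] at h
  obtain ⟨hlt, he⟩ := h w hw
  refine ⟨hlt, ?_⟩
  let X : ℕ → ℕ → ℕ := fun i j => if j = i then 1 else 0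
  have hX : ∀ i, i < N → ∀ j, j < N → X i j ≤ 4 := fun i _ j _ => by dsimp [X]; split_ifs <;> omega
  have h0 : lanes (rowBase (N + 1)) 1 N = enc N N X := by
    rw [lanes_eq, enc, rowBase_eq]
    refine Finset.sum_congr rfl fun i hi => ?_
    rw [Finset.sum_eq_single i (fun b _ hb => by simp [X, hb]) (fun hn => absurd hi hn)]
    simp only [X, if_true, one_mul]
    generalize (2 : ℕ) ^ 24 = B
    rw [← pow_mul, ← pow_mul, ← pow_add]
    ring_nf
  rw [h0, run_spec hs hX w hlt] at he
  have hb : ∀ (Z : ℕ → ℕ → ℕ), (∀ i, i < N → ∀ j, j < N → Z i j ≤ 4) → ∀ i, i < N → ∀ j, j < N → Z i j < 2 ^ 24 :=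
    fun Z hZ i hi j hj => lt_of_le_of_lt (hZ i hi j hj) (by omega)
  ext i j
  have hc := congrFun (cast_mulWord (N := N) mats X j w) i
  rw [enc_inj (hb _ (mulWord_le hX w)) (hb _ hX) he i.2 j.2] at hc
  have hd : (fun k : Fin N => (X k j : ZMod 5)) = Pi.single j 1 := by
    funext k
    simp only [X, Pi.single_apply, Fin.val_inj]
    by_cases hkj : k = j
    · simp [hkj]
    · simp [hkj, Ne.symm hkj]
  rw [hd, Matrix.mulVec_single_one] at hc
  rw [Matrix.one_apply]
  simp only [Matrix.col_apply, X] at hc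
  rw [← hc]
  by_cases hij : i = j
  · simp [hij]
  · simp [hij, show (j : ℕ) ≠ i from fun e => hij (Fin.ext e.symm)]

/-! ### Vectors -/

/-- the vector packed in base 8 -/
noncomputable def vec (N v : ℕ) : Fin N → ZMod 5 := fun i => (digit v i : ZMod 5)

/-- check: the first `n` claims (word, vector, image) hold -/
noncomputable def checkVec (N : ℕ) (mats : List (List ℕ)) (cs : List (List ℕ × ℕ × ℕ)) : Bool :=
  Vec.force (rowBase 1) fun BM => Vec.force (mask 1 N) fun C =>
    spreadAllK BM N mats fun S => cs.all fun c =>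
      c.1.all (fun x => Nat.blt x S.length) &&
      (List.range N).all (fun i => Nat.ble (digit c.2.1 i) 4 && Nat.ble (digit c.2.2 i) 4) &&
      Nat.beq (run BM C S c.1 (spread BM N c.2.1)) (spread BM N c.2.2)

theorem checkVec_spec {N : ℕ} {mats : List (List ℕ)} {cs : List (List ℕ × ℕ × ℕ)} (hs : shapeOK N mats = true)
    (h : checkVec N mats cs = true) {w : List ℕ} {v u : ℕ} (hc : (w, v, u) ∈ cs) :
    (∀ x ∈ w, x < mats.length) ∧ ((w.map (mat N mats)).prod).mulVec (vec N v) = vec N u := by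
  simp only [checkVec, Vec.force_eq, spreadAllK_eq, List.all_eq_true, Bool.and_eq_true, Nat.blt_eq,
    List.length_map, Nat.beq_eq, List.mem_range, Nat.ble_eq] at h
  obtain ⟨⟨hlt, hd⟩, he⟩ := h _ hc
  refine ⟨hlt, ?_⟩
  have hsp : ∀ n, spread (rowBase 1) N n = enc N 1 fun i _ => digit n i := fun n => by
    rw [spread_eq, rowBase_eq, enc]
    simp
  rw [hsp, hsp, run_spec hs (fun i hi _ _ => (hd i hi).1) w hlt] at he
  unfold vec
  rw [← cast_mulWord mats (fun i _ => digit v i) 0 w]
  funext i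
  rw [enc_inj (X := mulWord N mats w fun i _ => digit v i) (Y := fun i _ => digit u i)
    (fun a ha b hb => lt_of_le_of_lt (mulWord_le (M := 1) (fun p hp _ _ => (hd p hp).1) w a ha b hb) (by omega))
    (fun a ha _ _ => lt_of_le_of_lt (hd a ha).2 (by omega)) he i.2 Nat.one_pos]

end CfsgLib.Presented.MatFive
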