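import Cfsg.Agent.Lib.Presented.MatCheck
import Mathlib.Algebra.Order.Field.GeomSum
import Mathlib.Algebra.Field.GeomSum
import Mathlib.Tactic.NormNum

/-!
Kernel-checked identities between products of matrices over `ZMod 3`, for dimensions up to 455.

A whole matrix with small natural entries is one number with 12 bits per entry, row after row. Multiplying by a
packed matrix is then a sum of big products (one for each column), and all entries are reduced modulo 3 at once by
adding the high and the low bits of every lane.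
-/
set_option autoImplicit false

namespace CfsgLib.Presented.MatPack

open MatCheck

/-- the number with `n` lanes of `s` bits, all equal to `D` -/
noncomputable def rep (n s D : ℕ) : ℕ :=
  Nat.mul D (Nat.div (Nat.sub (Nat.pow 2 (Nat.mul s n)) 1) (Nat.sub (Nat.pow 2 s) 1))

/-- add the low part `lo` to the shifted high part `hi` in every lane -/
noncomputable def fold (lo s hi x : ℕ) : ℕ :=
  Nat.add (Nat.land x lo) (Nat.land (Nat.shiftRight x s) hi)

/-- reduce all lanes modulo 3 up to a remainder at most 3 -/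
noncomputable def norm {β : Type} (A B C D x : ℕ) (k : ℕ → β) : β :=
  Vec.force (fold A 4 B x) fun y => Vec.force (fold A 4 B y) fun y => Vec.force (fold A 4 B y) fun y =>
    Vec.force (fold C 2 D y) fun y => Vec.force (fold C 2 D y) k

/-- multiply from the right by a packed matrix -/
noncomputable def step {β : Type} (CM : ℕ) (rows : List ℕ) (P : ℕ) (k : ℕ → β) : β :=
  List.rec (motive := fun _ => ℕ → ℕ → β) (fun _ acc => k acc)
    (fun r _ ih sh acc =>
      Vec.force (Nat.add acc (Nat.mul (Nat.land (Nat.shiftRight P sh) CM) r)) fun a => ih (Nat.add sh 12) a)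
    rows 0 0

/-- multiply from the right by the matrices of a word -/
noncomputable def run {β : Type} (lits : List (List ℕ)) (CM A B C D : ℕ) (w : List ℕ) : ℕ → (ℕ → β) → β :=
  List.rec (motive := fun _ => ℕ → (ℕ → β) → β) (fun P k => k P)
    (fun x _ ih P k => step CM (lits.getD x []) P fun Q => norm A B C D Q fun R => ih R k) w

/-- the test that the product along a word is the identity modulo 3 -/
noncomputable def isOne (N : ℕ) (lits : List (List ℕ)) (w : List ℕ) : Bool :=
  Vec.force (rep N (12 * N) 4095) fun CM =>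
  Vec.force (rep (N * N) 12 15) fun A =>
  Vec.force (rep (N * N) 12 255) fun B =>
  Vec.force (rep (N * N) 12 3) fun C =>
  Vec.force (rep (N * N) 12 1023) fun D =>
  Vec.force (rep (N * N) 12 1) fun O =>
  Vec.force (rep N (12 * (N + 1)) 1) fun I =>
    run lits CM A B C D w I fun P => norm A B C D (Nat.add P (Nat.add I I)) fun R =>
      Nat.beq (Nat.land R O) (Nat.land (Nat.shiftRight R 1) O)

/-- the test that an entry of the product along a word is not zero modulo 3 -/
noncomputable def entryNe (N : ℕ) (lits : List (List ℕ)) (w : List ℕ) (i j : ℕ) : Bool :=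
  Vec.force (rep N 12 15) fun A =>
  Vec.force (rep N 12 255) fun B =>
  Vec.force (rep N 12 3) fun C =>
  Vec.force (rep N 12 1023) fun D =>
    run lits 4095 A B C D w (Nat.pow 2 (Nat.mul 12 i)) fun P =>
      !(Nat.beq (Nat.mod (Nat.land (Nat.shiftRight P (Nat.mul 12 j)) 4095) 3) 0)

/-- the test that a sparse row has the packed value `lit`, with entries at most 3 -/
noncomputable def rowOK (N M lit : ℕ) (row : List (ℕ × ℕ)) : Bool :=
  List.rec (motive := fun _ => ℕ → ℕ → Bool)
    (fun s v => Nat.blt s 4096 && (Nat.beq v lit && Nat.beq (Nat.land v M) v))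
    (fun p _ ih s v => Nat.blt p.1 N &&
      Vec.force (Nat.add s p.2) fun s => Vec.force (Nat.add v (Nat.mul p.2 (Nat.pow 2 (Nat.mul 12 p.1)))) fun v =>
        ih s v)
    row 0 0

/-- the test that a list of packed rows gives the rows of a sparse matrix -/
noncomputable def rowsOK (N : ℕ) (t : Rows) (lit : List ℕ) : Bool :=
  Vec.force (rep N 12 3) fun M => Nat.beq lit.length N &&
    List.rec (motive := fun _ => ℕ → Bool) (fun _ => true)
      (fun r _ ih i => rowOK N M r (t.get i) && Vec.force (Nat.add i 1) ih) lit 0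

/-! ### Lanes -/

/-- the number with `n` lanes of `W` bits given by `f` -/
noncomputable def pk (W n : ℕ) (f : ℕ → ℕ) : ℕ := ∑ t ∈ Finset.range n, f t * (2 ^ W) ^ t

theorem pk_succ (W n : ℕ) (f : ℕ → ℕ) : pk W (n + 1) f = 2 ^ W * pk W n (fun t => f (t + 1)) + f 0 := by
  rw [pk, pk, Finset.sum_range_succ', Finset.mul_sum, pow_zero, mul_one]
  congr 1
  exact Finset.sum_congr rfl fun t _ => by ring

theorem pk_congr {W n : ℕ} {f g : ℕ → ℕ} (h : ∀ t < n, f t = g t) : pk W n f = pk W n g :=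
  Finset.sum_congr rfl fun t ht => by rw [h t (Finset.mem_range.1 ht)]

theorem pk_add (W n : ℕ) (f g : ℕ → ℕ) : pk W n f + pk W n g = pk W n (fun t => f t + g t) := by
  simp only [pk, add_mul, Finset.sum_add_distrib]

theorem rep_eq (n s D : ℕ) (hs : 0 < s) : rep n s D = pk s n (fun _ => D) := by
  show D * ((2 ^ (s * n) - 1) / (2 ^ s - 1)) = _
  rw [pow_mul, ← Nat.geomSum_eq (Nat.le_self_pow hs.ne' 2), pk, Finset.mul_sum]

theorem shr_and (W s D : ℕ) (hs : s ≤ W) (hD : D < 2 ^ (W - s)) : ∀ (n : ℕ) (f : ℕ → ℕ), (∀ t < n, f t < 2 ^ W) →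
    (pk W n f >>> s) &&& pk W n (fun _ => D) = pk W n (fun t => (f t >>> s) &&& D)
  | 0, f, _ => by simp [pk]
  | n + 1, f, hf => by
    rw [pk_succ, pk_succ, pk_succ W n fun t => (f t >>> s) &&& D,
      ← shr_and W s D hs hD n (fun t => f (t + 1)) fun t ht => hf _ (Nat.succ_lt_succ ht)]
    have ha : f 0 < 2 ^ W := hf 0 (Nat.succ_pos n)
    have hDW : D < 2 ^ W := lt_of_lt_of_le hD (Nat.pow_le_pow_right (by norm_num) (Nat.sub_le _ _))
    have hb : (f 0 >>> s) &&& D < 2 ^ W := lt_of_le_of_lt Nat.and_le_right hDW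
    refine Nat.eq_of_testBit_eq fun k => ?_
    rw [Nat.testBit_and, Nat.testBit_shiftRight, Nat.testBit_two_pow_mul_add _ ha,
      Nat.testBit_two_pow_mul_add _ hDW, Nat.testBit_two_pow_mul_add _ hb]
    by_cases hk : k < W
    · rw [if_pos hk, if_pos hk]
      by_cases hks : s + k < W
      · rw [if_pos hks, Nat.testBit_and, Nat.testBit_shiftRight]
      · have h0 : D.testBit k = false :=
          Nat.testBit_lt_two_pow (lt_of_lt_of_le hD (Nat.pow_le_pow_right (by norm_num) (by omega)))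
        rw [if_neg hks, Nat.testBit_and, h0, Bool.and_false, Bool.and_false]
    · rw [if_neg hk, if_neg hk, if_neg (by omega), Nat.testBit_and, Nat.testBit_shiftRight,
        show s + k - W = s + (k - W) by omega]

/-- one folding step on a lane -/
def f4 (x : ℕ) : ℕ := x % 16 + x / 16

/-- one short folding step on a lane -/
def f2 (x : ℕ) : ℕ := x % 4 + x / 4

/-- the folding of a lane -/
def nm (x : ℕ) : ℕ := f2 (f2 (f4 (f4 (f4 x))))

theorem fold_four (n : ℕ) (f : ℕ → ℕ) (hf : ∀ t < n, f t < 4096) :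
    fold (rep n 12 15) 4 (rep n 12 255) (pk 12 n f) = pk 12 n (fun t => f4 (f t)) := by
  have hlo := shr_and 12 0 15 (by norm_num) (by norm_num) n f hf
  rw [Nat.shiftRight_zero] at hlo
  have hhi := shr_and 12 4 255 (by norm_num) (by norm_num) n f hf
  show (pk 12 n f &&& rep n 12 15) + ((pk 12 n f >>> 4) &&& rep n 12 255) = _
  rw [rep_eq n 12 15 (by norm_num), rep_eq n 12 255 (by norm_num), hlo, hhi, pk_add]
  refine pk_congr fun t ht => ?_
  rw [show (15 : ℕ) = 2 ^ 4 - 1 from rfl, show (255 : ℕ) = 2 ^ 8 - 1 from rfl, Nat.shiftRight_zero,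
    Nat.and_two_pow_sub_one_eq_mod, Nat.and_two_pow_sub_one_eq_mod, Nat.shiftRight_eq_div_pow, f4]
  have := hf t ht
  norm_num
  omega

theorem fold_two (n : ℕ) (f : ℕ → ℕ) (hf : ∀ t < n, f t < 4096) :
    fold (rep n 12 3) 2 (rep n 12 1023) (pk 12 n f) = pk 12 n (fun t => f2 (f t)) := by
  have hlo := shr_and 12 0 3 (by norm_num) (by norm_num) n f hf
  rw [Nat.shiftRight_zero] at hlo
  have hhi := shr_and 12 2 1023 (by norm_num) (by norm_num) n f hf
  show (pk 12 n f &&& rep n 12 3) + ((pk 12 n f >>> 2) &&& rep n 12 1023) = _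
  rw [rep_eq n 12 3 (by norm_num), rep_eq n 12 1023 (by norm_num), hlo, hhi, pk_add]
  refine pk_congr fun t ht => ?_
  rw [show (3 : ℕ) = 2 ^ 2 - 1 from rfl, show (1023 : ℕ) = 2 ^ 10 - 1 from rfl, Nat.shiftRight_zero,
    Nat.and_two_pow_sub_one_eq_mod, Nat.and_two_pow_sub_one_eq_mod, Nat.shiftRight_eq_div_pow, f2]
  have := hf t ht
  norm_num
  omega

theorem norm_eq {β : Type} (n : ℕ) (f : ℕ → ℕ) (hf : ∀ t < n, f t < 4096) (k : ℕ → β) :
    norm (rep n 12 15) (rep n 12 255) (rep n 12 3) (rep n 12 1023) (pk 12 n f) k = k (pk 12 n fun t => nm (f t)) := by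
  have h1 : ∀ x, x < 4096 → f4 x < 4096 := fun x hx => by simp only [f4]; omega
  have h2 : ∀ x, x < 4096 → f2 x < 4096 := fun x hx => by simp only [f2]; omega
  simp only [norm, Vec.force_eq]
  rw [fold_four n f hf, fold_four n _ fun t ht => h1 _ (hf t ht), fold_four n _ fun t ht => h1 _ (h1 _ (hf t ht)),
    fold_two n _ fun t ht => h1 _ (h1 _ (h1 _ (hf t ht))),
    fold_two n _ fun t ht => h2 _ (h1 _ (h1 _ (h1 _ (hf t ht))))]
  rfl

theorem nm_le {x : ℕ} (hx : x < 4096) : nm x ≤ 3 := by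
  have h1 : f4 x ≤ 270 := by simp only [f4]; omega
  have h2 : f4 (f4 x) ≤ 31 := by simp only [f4] at h1 ⊢; omega
  have h3 : f4 (f4 (f4 x)) ≤ 16 := by
    generalize f4 (f4 x) = y at h2 ⊢
    simp only [f4]; omega
  generalize hy : f4 (f4 (f4 x)) = y at h3
  rw [nm, hy]
  have h4 : f2 y ≤ 6 := by simp only [f2]; omega
  generalize f2 y = z at h4 ⊢
  simp only [f2]; omega

theorem nm_mod (x : ℕ) : nm x % 3 = x % 3 := by
  have a4 : ∀ y, f4 y % 3 = y % 3 := fun y => by simp only [f4]; omega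
  have a2 : ∀ y, f2 y % 3 = y % 3 := fun y => by simp only [f2]; omega
  rw [nm, a2, a2, a4, a4, a4]

/-! ### Packed matrices -/

variable {m N : ℕ}

/-- the entries as one list of lanes -/
def flat (N : ℕ) (Q : ℕ → ℕ → ℕ) (t : ℕ) : ℕ := Q (t / N) (t % N)

/-- the packed value of a matrix with `m` rows and `N` columns -/
noncomputable def pack (m N : ℕ) (Q : ℕ → ℕ → ℕ) : ℕ := pk (12 * N) m fun i => pk 12 N (Q i)

theorem pack_eq (hN : 0 < N) (Q : ℕ → ℕ → ℕ) : pack m N Q = pk 12 (m * N) (flat N Q) := by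
  induction m with
  | zero => simp [pack, pk]
  | succ m ih =>
    rw [show (m + 1) * N = m * N + N from Nat.succ_mul m N]
    unfold pack pk
    rw [Finset.sum_range_succ, Finset.sum_range_add]
    change pack m N Q + _ = _
    rw [ih]
    congr 1
    rw [Finset.sum_mul]
    refine Finset.sum_congr rfl fun j hj => ?_
    have hj' := Finset.mem_range.1 hj
    have e1 : (m * N + j) / N = m := by
      rw [mul_comm, Nat.mul_add_div hN, Nat.div_eq_of_lt hj', add_zero]
    have e2 : (m * N + j) % N = j := by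
      rw [mul_comm, Nat.mul_add_mod, Nat.mod_eq_of_lt hj']
    rw [flat, e1, e2, ← pow_mul 2 12, ← pow_mul 2 12, ← pow_mul, mul_assoc, ← pow_add]
    congr 2
    ring

theorem pk_lt : ∀ (n : ℕ) (f : ℕ → ℕ), (∀ t < n, f t < 4096) → pk 12 n f < 2 ^ (12 * n)
  | 0, f, _ => by simp [pk]
  | n + 1, f, hf => by
    have h := pk_lt n (fun t => f (t + 1)) fun t ht => hf _ (Nat.succ_lt_succ ht)
    have h0 := hf 0 (Nat.succ_pos n)
    rw [pk_succ, show 12 * (n + 1) = 12 + 12 * n by ring, pow_add 2 12]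
    generalize 2 ^ (12 * n) = M at h ⊢
    generalize pk 12 n (fun t => f (t + 1)) = S at h ⊢
    omega

theorem pk_digit {W n j : ℕ} {f : ℕ → ℕ} (hf : ∀ t < n, f t < 2 ^ W) (hj : j < n) :
    pk W n f / (2 ^ W) ^ j % 2 ^ W = f j := digit_sum _ n f j hf hj

theorem pk_shr_and {n j : ℕ} {f : ℕ → ℕ} (hf : ∀ t < n, f t < 4096) (hj : j < n) :
    (pk 12 n f >>> (12 * j)) &&& 4095 = f j := by
  rw [show (4095 : ℕ) = 2 ^ 12 - 1 from rfl, Nat.and_two_pow_sub_one_eq_mod, Nat.shiftRight_eq_div_pow, pow_mul,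
    pk_digit hf hj]

theorem column (Q : ℕ → ℕ → ℕ) (hQ : ∀ i < m, ∀ j < N, Q i j < 4096) {k : ℕ} (hk : k < N) :
    (pack m N Q >>> (12 * k)) &&& rep m (12 * N) 4095 = pk (12 * N) m fun i => Q i k := by
  rw [rep_eq m (12 * N) 4095 (by omega), pack, shr_and (12 * N) (12 * k) 4095 (by omega) ?_ m _
    fun i hi => pk_lt N _ (hQ i hi)]
  · exact pk_congr fun i hi => pk_shr_and (hQ i hi) hk
  · exact lt_of_lt_of_le (show 4095 < 2 ^ 12 by norm_num) (Nat.pow_le_pow_right (by norm_num) (by omega))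

theorem step_eq {β : Type} (CM P : ℕ) (k : ℕ → β) : ∀ rows : List ℕ, ∀ sh acc : ℕ,
    List.rec (motive := fun _ => ℕ → ℕ → β) (fun _ acc => k acc)
      (fun r _ ih sh acc =>
        Vec.force (Nat.add acc (Nat.mul (Nat.land (Nat.shiftRight P sh) CM) r)) fun a => ih (Nat.add sh 12) a)
      rows sh acc =
    k (acc + ∑ i ∈ Finset.range rows.length, ((P >>> (sh + 12 * i)) &&& CM) * rows.getD i 0)
  | [], sh, acc => by simp
  | r :: rows, sh, acc => by
    show Vec.force (Nat.add acc (Nat.mul (Nat.land (Nat.shiftRight P sh) CM) r)) _ = _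
    rw [Vec.force_eq, step_eq CM P k rows, List.length_cons, Finset.sum_range_succ']
    congr 1
    show acc + ((P >>> sh) &&& CM) * r + _ = _
    simp only [List.getD_cons_succ, List.getD_cons_zero, mul_zero, add_zero, mul_add, mul_one]
    rw [add_assoc, add_comm (((P >>> sh) &&& CM) * r)]
    congr 2
    exact Finset.sum_congr rfl fun i _ => by
      rw [show Nat.add sh 12 + 12 * i = sh + (12 * i + 12) by show sh + 12 + _ = _; ring]

/-- a list of packed rows holds the matrix `g` -/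
def HoldsRows (N : ℕ) (rows : List ℕ) (g : ℕ → ℕ → ℕ) : Prop :=
  rows.length = N ∧ ∀ k < N, rows.getD k 0 = pk 12 N (g k) ∧ ∀ j < N, g k j ≤ 3

theorem step_pack {β : Type} {Q g : ℕ → ℕ → ℕ} {rows : List ℕ} (hQ : ∀ i < m, ∀ j < N, Q i j < 4096)
    (hr : HoldsRows N rows g) (k : ℕ → β) :
    step (rep m (12 * N) 4095) rows (pack m N Q) k
      = k (pack m N fun i j => ∑ l ∈ Finset.range N, Q i l * g l j) := by
  rw [step, step_eq, zero_add, hr.1]
  congr 1
  calc ∑ l ∈ Finset.range N, ((pack m N Q >>> (0 + 12 * l)) &&& rep m (12 * N) 4095) * rows.getD l 0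
      = ∑ l ∈ Finset.range N, pk (12 * N) m (fun i => Q i l) * pk 12 N (g l) :=
        Finset.sum_congr rfl fun l hl => by
          rw [zero_add, column Q hQ (Finset.mem_range.1 hl), (hr.2 l (Finset.mem_range.1 hl)).1]
    _ = _ := by
      simp only [pack, pk, Finset.sum_mul, Finset.mul_sum]
      rw [Finset.sum_comm_cycle]
      refine Finset.sum_congr rfl fun i _ => ?_
      rw [Finset.sum_comm]
      exact Finset.sum_congr rfl fun j _ => Finset.sum_congr rfl fun l _ => by ring

/-- the reduction of a natural matrix -/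
def toMat (m N : ℕ) (Q : ℕ → ℕ → ℕ) : Matrix (Fin m) (Fin N) (ZMod 3) := fun i j => (Q i j : ZMod 3)

/-- a number holds a reduced matrix -/
def Holds (m N P : ℕ) (A : Matrix (Fin m) (Fin N) (ZMod 3)) : Prop :=
  ∃ Q, P = pack m N Q ∧ (∀ i < m, ∀ j < N, Q i j ≤ 3) ∧ toMat m N Q = A

theorem norm_pack {β : Type} (hN : 0 < N) {Q : ℕ → ℕ → ℕ} (hQ : ∀ i < m, ∀ j < N, Q i j < 4096) (k : ℕ → β) :
    norm (rep (m * N) 12 15) (rep (m * N) 12 255) (rep (m * N) 12 3) (rep (m * N) 12 1023) (pack m N Q) k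
      = k (pack m N fun i j => nm (Q i j)) := by
  rw [pack_eq hN, pack_eq hN, norm_eq]
  · rfl
  · intro t ht
    exact hQ _ ((Nat.div_lt_iff_lt_mul hN).2 ht) _ (Nat.mod_lt _ hN)

theorem holds_step {β : Type} (hN : 0 < N) (hN' : 9 * N < 4096) {P : ℕ} {A : Matrix (Fin m) (Fin N) (ZMod 3)}
    (hP : Holds m N P A) {rows : List ℕ} {g : ℕ → ℕ → ℕ} (hr : HoldsRows N rows g) :
    ∃ P', (∀ k : ℕ → β, step (rep m (12 * N) 4095) rows P (fun Q =>
      norm (rep (m * N) 12 15) (rep (m * N) 12 255) (rep (m * N) 12 3) (rep (m * N) 12 1023) Q k) = k P') ∧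
      Holds m N P' (A * toMat N N g) := by
  obtain ⟨Q, rfl, hQ, rfl⟩ := hP
  have hb : ∀ i < m, ∀ j < N, ∑ l ∈ Finset.range N, Q i l * g l j < 4096 := fun i hi j hj => by
    have := Finset.sum_le_card_nsmul (Finset.range N) (fun l => Q i l * g l j) 9 fun l hl =>
      Nat.mul_le_mul (hQ i hi l (Finset.mem_range.1 hl)) ((hr.2 l (Finset.mem_range.1 hl)).2 j hj)
    simp only [Finset.card_range, smul_eq_mul] at this
    omega
  refine ⟨pack m N fun i j => nm (∑ l ∈ Finset.range N, Q i l * g l j), fun k => ?_, _, rfl, ?_, ?_⟩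
  · rw [step_pack (fun i hi j hj => lt_of_le_of_lt (hQ i hi j hj) (by norm_num)) hr, norm_pack hN hb]
  · exact fun i hi j hj => nm_le (hb i hi j hj)
  · ext i j
    show ((nm _ : ℕ) : ZMod 3) = _
    rw [← ZMod.natCast_mod, nm_mod, ZMod.natCast_mod, Nat.cast_sum, Matrix.mul_apply]
    simp only [toMat, Nat.cast_mul]
    exact (Fin.sum_univ_eq_sum_range (fun l => (Q i l : ZMod 3) * (g l j : ZMod 3)) N).symm

theorem run_spec {β : Type} (hN : 0 < N) (hN' : 9 * N < 4096) {lits : List (List ℕ)}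
    {g : ℕ → ℕ → ℕ → ℕ} : ∀ (w : List ℕ), (∀ x ∈ w, HoldsRows N (lits.getD x []) (g x)) →
    ∀ (P : ℕ) (A : Matrix (Fin m) (Fin N) (ZMod 3)), Holds m N P A →
    ∃ P', (∀ k : ℕ → β, run lits (rep m (12 * N) 4095) (rep (m * N) 12 15) (rep (m * N) 12 255)
      (rep (m * N) 12 3) (rep (m * N) 12 1023) w P k = k P') ∧
      Holds m N P' (A * (w.map fun x => toMat N N (g x)).prod)
  | [], _, P, A, hP => ⟨P, fun _ => rfl, by simpa using hP⟩
  | x :: w, hw, P, A, hP => by
    obtain ⟨R, hR, hR'⟩ := holds_step (β := β) hN hN' hP (hw x List.mem_cons_self)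
    obtain ⟨P', hP', hA⟩ := run_spec hN hN' w (fun y hy => hw y (List.mem_cons_of_mem _ hy)) R _ hR'
    refine ⟨P', fun k => ?_, ?_⟩
    · show step _ (lits.getD x []) P (fun Q => norm _ _ _ _ Q fun R => run lits _ _ _ _ _ w R k) = _
      rw [hR fun R => run lits _ _ _ _ _ w R k, hP']
    · rwa [List.map_cons, List.prod_cons, ← Matrix.mul_assoc]

theorem holds_one (hN : 0 < N) : Holds N N (rep N (12 * (N + 1)) 1) 1 := by
  refine ⟨fun i j => if i = j then 1 else 0, ?_, fun i _ j _ => by dsimp only; split_ifs <;> norm_num, ?_⟩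
  · rw [rep_eq _ _ _ (by omega)]
    unfold pack pk
    refine Finset.sum_congr rfl fun i hi => ?_
    dsimp only
    rw [one_mul, Finset.sum_eq_single i (fun j _ hj => by simp [Ne.symm hj])
      (fun h => absurd hi h), if_pos rfl, one_mul, ← pow_mul, ← pow_mul, ← pow_mul, ← pow_add]
    congr 1
    ring
  · ext i j
    simp only [toMat, Matrix.one_apply]
    by_cases h : i = j
    · simp [h]
    · rw [if_neg h, if_neg fun e : (i : ℕ) = j => h (Fin.ext e), Nat.cast_zero]

/-- a unit row -/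
def unitRow (N i : ℕ) : Matrix (Fin 1) (Fin N) (ZMod 3) := Matrix.of fun _ j => if (j : ℕ) = i then 1 else 0

theorem holds_unit {i : ℕ} (hi : i < N) : Holds 1 N (2 ^ (12 * i)) (unitRow N i) := by
  refine ⟨fun _ j => if j = i then 1 else 0, ?_, fun _ _ j _ => by dsimp only; split_ifs <;> norm_num, ?_⟩
  · rw [pack, pk, Finset.sum_range_one, pow_zero, mul_one, pk,
      Finset.sum_eq_single i (fun j _ hj => by simp [hj]) (fun h => absurd (Finset.mem_range.2 hi) h)]
    rw [if_pos rfl, one_mul, pow_mul]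
  · ext a j
    simp only [toMat, unitRow, Matrix.of_apply]
    split_ifs <;> simp

/-! ### The rows of sparse matrices -/

theorem rowOK_spec {M lit : ℕ} : ∀ (row : List (ℕ × ℕ)) (s v : ℕ),
    List.rec (motive := fun _ => ℕ → ℕ → Bool)
      (fun s v => Nat.blt s 4096 && (Nat.beq v lit && Nat.beq (Nat.land v M) v))
      (fun p _ ih s v => Nat.blt p.1 N &&
        ih (Nat.add s p.2) (Nat.add v (Nat.mul p.2 (Nat.pow 2 (Nat.mul 12 p.1)))))
      row s v = true →
    (∀ p ∈ row, p.1 < N) ∧ s + (row.map Prod.snd).sum < 4096 ∧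
      v + (row.map fun p => p.2 * 2 ^ (12 * p.1)).sum = lit ∧ lit &&& M = lit
  | [], s, v, h => by
    simp only [Bool.and_eq_true, Nat.blt_eq] at h
    obtain ⟨h1, h2, h3⟩ := h
    have e := Nat.eq_of_beq_eq_true h2
    subst e
    exact ⟨by simp, by simpa using h1, by simp, Nat.eq_of_beq_eq_true h3⟩
  | p :: row, s, v, h => by
    simp only [Bool.and_eq_true, Nat.blt_eq] at h
    obtain ⟨h1, h2, h3, h4⟩ := rowOK_spec row _ _ h.2
    refine ⟨List.forall_mem_cons.2 ⟨h.1, h1⟩, ?_, ?_, h4⟩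
    · simp only [List.map_cons, List.sum_cons, Nat.add_eq] at h2 ⊢
      omega
    · rw [← h3, List.map_cons, List.sum_cons]
      show v + _ = v + p.2 * 2 ^ (12 * p.1) + _
      ring

theorem coeff_le_sum (k : ℕ) : ∀ row : List (ℕ × ℕ), coeff row k ≤ (row.map Prod.snd).sum
  | [] => le_refl _
  | p :: row => by
    have := coeff_le_sum k row
    simp only [coeff, List.map_cons, List.sum_cons] at this ⊢
    split_ifs <;> omega

theorem rowsOK_loop {M : ℕ} (t : Rows) : ∀ (lit : List ℕ) (i : ℕ),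
    List.rec (motive := fun _ => ℕ → Bool) (fun _ => true)
      (fun r _ ih i => rowOK N M r (t.get i) && ih (Nat.add i 1)) lit i = true →
    ∀ k < lit.length, rowOK N M (lit.getD k 0) (t.get (i + k)) = true
  | [], i, _, k, hk => absurd hk (Nat.not_lt_zero _)
  | r :: lit, i, h, k, hk => by
    simp only [Bool.and_eq_true] at h
    cases k with
    | zero => simpa using h.1
    | succ k =>
      rw [List.getD_cons_succ, show i + (k + 1) = Nat.add i 1 + k by show _ = i + 1 + k; ring]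
      exact rowsOK_loop t lit _ h.2 k (Nat.lt_of_succ_lt_succ hk)

theorem holdsRows_of_rowsOK {t : Rows} {lit : List ℕ} (h : rowsOK N t lit = true) :
    HoldsRows N lit fun k j => coeff (t.get k) j := by
  simp only [rowsOK, Vec.force_eq, Bool.and_eq_true] at h
  have hl : lit.length = N := Nat.eq_of_beq_eq_true h.1
  refine ⟨hl, fun k hk => ?_⟩
  have hr := rowsOK_loop t lit 0 h.2 k (hl.symm ▸ hk)
  rw [Nat.zero_add] at hr
  simp only [rowOK, Vec.force_eq] at hr
  obtain ⟨h1, h2, h3, h4⟩ := rowOK_spec _ _ _ hr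
  have e : lit.getD k 0 = pk 12 N (coeff (t.get k)) := by
    rw [← h3, zero_add, ← sum_coeff (N := N) (fun j => 2 ^ (12 * j)) _ h1, pk,
      ← Fin.sum_univ_eq_sum_range (fun j => coeff (t.get k) j * (2 ^ 12) ^ j) N]
    exact Finset.sum_congr rfl fun j _ => by rw [pow_mul]
  refine ⟨e, fun j hj => ?_⟩
  have hb : ∀ j < N, coeff (t.get k) j < 4096 := fun j _ => by
    have := coeff_le_sum j (t.get k)
    omega
  rw [rep_eq N 12 3 (by norm_num), e] at h4
  have hs := shr_and 12 0 3 (by norm_num) (by norm_num) N (coeff (t.get k)) hb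
  rw [Nat.shiftRight_zero, h4] at hs
  have hd := pk_digit (W := 12) hb hj
  rw [hs, pk_digit (fun l _ => lt_of_le_of_lt Nat.and_le_right (by norm_num)) hj] at hd
  show coeff (t.get k) j ≤ 3
  rw [← hd]
  exact Nat.and_le_right

theorem toMat_coeff (gens : List Rows) (x : ℕ) :
    toMat N N (fun k j => coeff ((rowsOf gens x).get k) j) = mat N 3 gens x := by
  ext i j
  rfl

/-- A checked word is the identity modulo 3. -/
theorem isOne_spec {gens : List Rows} {lits : List (List ℕ)} (hN : 0 < N) (hN' : 9 * N < 4096) {w : List ℕ}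
    (hw : ∀ x ∈ w, rowsOK N (rowsOf gens x) (lits.getD x []) = true) (h : isOne N lits w = true) :
    (w.map (mat N 3 gens)).prod = 1 := by
  obtain ⟨P, hP, hA⟩ := run_spec (β := Bool) hN hN' (g := fun x k j => coeff ((rowsOf gens x).get k) j) w
    (fun x hx => holdsRows_of_rowsOK (hw x hx)) _ _ (holds_one (N := N) hN)
  rw [one_mul, List.map_congr_left (fun x _ => toMat_coeff gens x)] at hA
  obtain ⟨Q, rfl, hQ, hA⟩ := hA
  simp only [isOne, Vec.force_eq, hP] at h
  obtain ⟨E, hE, hE', hE1⟩ := holds_one (N := N) hN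
  have hEE : rep N (12 * (N + 1)) 1 + rep N (12 * (N + 1)) 1 = pack N N fun i j => E i j + E i j := by
    rw [hE, pack_eq hN, pack_eq hN, pk_add]
    rfl
  have hsum : pack N N Q + pack N N (fun i j => E i j + E i j) = pack N N fun i j => Q i j + (E i j + E i j) := by
    rw [pack_eq hN, pack_eq hN, pack_eq hN, pk_add]
    rfl
  have hb : ∀ i < N, ∀ j < N, Q i j + (E i j + E i j) < 4096 := fun i hi j hj => by
    have := hQ i hi j hj
    have := hE' i hi j hj
    omega
  rw [show Nat.add (pack N N Q) (Nat.add (rep N (12 * (N + 1)) 1) (rep N (12 * (N + 1)) 1))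
    = pack N N Q + (rep N (12 * (N + 1)) 1 + rep N (12 * (N + 1)) 1) from rfl, hEE, hsum, norm_pack hN hb] at h
  have h' := Nat.eq_of_beq_eq_true h
  set R : ℕ → ℕ → ℕ := fun i j => nm (Q i j + (E i j + E i j)) with hR
  have hR3 : ∀ t < N * N, flat N R t < 2 ^ 12 := fun t ht =>
    lt_of_le_of_lt (nm_le (hb _ ((Nat.div_lt_iff_lt_mul hN).2 ht) _ (Nat.mod_lt _ hN))) (by norm_num)
  have e0 := shr_and 12 0 1 (by norm_num) (by norm_num) (N * N) (flat N R) hR3
  have e1 := shr_and 12 1 1 (by norm_num) (by norm_num) (N * N) (flat N R) hR3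
  rw [Nat.shiftRight_zero] at e0
  rw [pack_eq hN, rep_eq (N * N) 12 1 (by norm_num)] at h'
  change pk 12 (N * N) (flat N R) &&& _ = (pk 12 (N * N) (flat N R) >>> 1) &&& _ at h'
  rw [e0, e1] at h'
  rw [← hA]
  ext i j
  have ht : (i : ℕ) * N + (j : ℕ) < N * N := by
    have h1 := Nat.mul_le_mul_right N (show (i : ℕ) + 1 ≤ N from i.2)
    have h2 := j.2
    rw [Nat.add_one_mul] at h1
    omega
  have hd := congrArg (fun z => z / (2 ^ 12) ^ ((i : ℕ) * N + j) % 2 ^ 12) h'
  simp only [Nat.shiftRight_zero] at hd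
  simp only [pk_digit (W := 12) (f := fun t => flat N R t &&& 1)
      (fun l _ => lt_of_le_of_lt Nat.and_le_right (by norm_num)) ht,
    pk_digit (W := 12) (f := fun t => flat N R t >>> 1 &&& 1)
      (fun l _ => lt_of_le_of_lt Nat.and_le_right (by norm_num)) ht] at hd
  have d1 : ((i : ℕ) * N + j) / N = i := by
    rw [mul_comm, Nat.mul_add_div hN, Nat.div_eq_of_lt j.2, add_zero]
  have d2 : ((i : ℕ) * N + j) % N = j := by rw [mul_comm, Nat.mul_add_mod, Nat.mod_eq_of_lt j.2]
  simp only [flat, d1, d2, Nat.shiftRight_eq_div_pow, pow_one] at hd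
  have hle : R i j ≤ 3 := nm_le (hb i i.2 j j.2)
  rw [show (1 : ℕ) = 2 ^ 1 - 1 from rfl, Nat.and_two_pow_sub_one_eq_mod, Nat.and_two_pow_sub_one_eq_mod] at hd
  have hz : R i j % 3 = 0 := by
    norm_num at hd
    exact (show ∀ r < 4, r % 2 = r / 2 % 2 → r % 3 = 0 by decide) _ (Nat.lt_succ_of_le hle) hd
  rw [hR] at hz
  simp only [nm_mod] at hz
  have hc : ((Q i j + (E i j + E i j) : ℕ) : ZMod 3) = 0 :=
    (ZMod.natCast_eq_zero_iff _ _).2 (Nat.dvd_of_mod_eq_zero hz)
  push_cast at hc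
  have he : (E i j : ZMod 3) = (1 : Matrix (Fin N) (Fin N) (ZMod 3)) i j := congrFun (congrFun hE1 i) j
  rw [he] at hc
  show (Q i j : ZMod 3) = _
  revert hc
  generalize (Q i j : ZMod 3) = a
  generalize (1 : Matrix (Fin N) (Fin N) (ZMod 3)) i j = b
  revert a b
  decide

/-- A checked entry is not zero modulo 3. -/
theorem entryNe_spec {gens : List Rows} {lits : List (List ℕ)} (hN' : 9 * N < 4096) {w : List ℕ}
    (hw : ∀ x ∈ w, rowsOK N (rowsOf gens x) (lits.getD x []) = true) {i j : ℕ} (hi : i < N) (hj : j < N)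
    (h : entryNe N lits w i j = true) : (w.map (mat N 3 gens)).prod ⟨i, hi⟩ ⟨j, hj⟩ ≠ 0 := by
  have hN : 0 < N := by omega
  obtain ⟨P, hP, hA⟩ := run_spec (β := Bool) hN hN' (g := fun x k j => coeff ((rowsOf gens x).get k) j) w
    (fun x hx => holdsRows_of_rowsOK (hw x hx)) _ _ (holds_unit (N := N) hi)
  rw [List.map_congr_left (fun x _ => toMat_coeff gens x)] at hA
  obtain ⟨Q, rfl, hQ, hA⟩ := hA
  have e4 : rep 1 (12 * N) 4095 = 4095 := by
    rw [rep_eq 1 (12 * N) 4095 (by omega), pk, Finset.sum_range_one, pow_zero, mul_one]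
  rw [e4, one_mul] at hP
  simp only [entryNe, Vec.force_eq] at h
  rw [show Nat.pow 2 (Nat.mul 12 i) = 2 ^ (12 * i) from rfl] at h
  rw [hP] at h
  have hpk : pack 1 N Q = pk 12 N (Q 0) := by rw [pack, pk, Finset.sum_range_one, pow_zero, mul_one]
  have hx : (pk 12 N (Q 0) >>> (12 * j)) &&& 4095 = Q 0 j :=
    pk_shr_and (fun t ht => lt_of_le_of_lt (hQ 0 one_pos t ht) (by norm_num)) hj
  have h' : ¬ Q 0 j % 3 = 0 := by
    intro e
    have hc : (Nat.beq (Nat.mod (Nat.land (Nat.shiftRight (pack 1 N Q) (Nat.mul 12 j)) 4095) 3) 0) = true := by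
      rw [hpk]
      show Nat.beq (((pk 12 N (Q 0) >>> (12 * j)) &&& 4095) % 3) 0 = true
      rw [hx, e]
      rfl
    rw [hc] at h
    exact Bool.noConfusion h
  intro hz
  refine h' (Nat.mod_eq_zero_of_dvd ((ZMod.natCast_eq_zero_iff _ _).1 ?_))
  have := congrFun (congrFun hA 0) ⟨j, hj⟩
  rw [show (Q 0 j : ZMod 3) = toMat 1 N Q 0 ⟨j, hj⟩ from rfl, this, Matrix.mul_apply,
    Finset.sum_eq_single ⟨i, hi⟩ (fun b _ hb => by
      rw [show unitRow N i 0 b = 0 from if_neg fun e => hb (Fin.ext e), zero_mul]) (by simp)]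
  simpa [unitRow] using hz

end CfsgLib.Presented.MatPack
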