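import Cfsg.Agent.Lib.Presented.ONOrder
import Cfsg.Agent.Lib.Presented.Cert.ONBasePoints

/-!
Three points of the table with trivial common stabiliser, and a point-wise check that words are trivial.
-/
set_option autoImplicit false
set_option maxRecDepth 8000
set_option Elab.async false

namespace CfsgLib.Presented.ONBase

open Vec ONBasePoints

/-- One stage on a point. -/
noncomputable def stepPt (s : Stage) (i : ℕ) : ℕ :=
  cond (s.mask.testBit i) (i + s.d)
    (cond (Nat.ble s.d i && s.mask.testBit (i - s.d)) (i - s.d) i)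

/-- A network on a point. -/
noncomputable def walk : List Stage → ℕ → ℕ
  | [], i => i
  | s :: l, i => force (walk l i) fun j => stepPt s j

/-- A word on a point. -/
noncomputable def walkW (R : Rep) : List ℕ → ℕ → ℕ
  | [], i => i
  | x :: w, i => force (walkW R w i) fun j => walk (R.net x) j

theorem swp_eq {s : Stage} (h : s.ok = true) (i : ℕ) : s.swp i = stepPt s i := by
  have hact : ∀ j, s.act j = s.mask.testBit j := fun j => by
    unfold Stage.act
    cases hj : s.mask.testBit j
    · simp
    · have h1 := Stage.mask_disjoint h j hj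
      have h2 : ¬(s.d ≤ j ∧ s.mask.testBit (j - s.d) = true) := fun ⟨hd, hb⟩ => by
        have h3 := Stage.mask_disjoint h (j - s.d) hb
        rw [Nat.sub_add_cancel hd, hj] at h3
        exact Bool.noConfusion h3
      by_cases hd : s.d ≤ j
      · have h4 : s.mask.testBit (j - s.d) = false := Bool.eq_false_iff.2 fun hb => h2 ⟨hd, hb⟩
        simp [h1, h4]
      · simp [h1, hd]
  unfold Stage.swp stepPt
  rw [hact i, hact (i - s.d)]
  cases s.mask.testBit i
  · simp only [cond_false, Bool.false_eq_true, if_false]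
    by_cases hd : s.d ≤ i
    · have hb : Nat.ble s.d i = true := Nat.ble_eq_true_of_le hd
      cases s.mask.testBit (i - s.d) <;> simp [hd, hb]
    · have hb : Nat.ble s.d i = false := Bool.eq_false_iff.2 fun h => hd (Nat.le_of_ble_eq_true h)
      simp [hd, hb]
  · simp

theorem walk_eq : ∀ {l : List Stage}, netOk l = true → ∀ i, walk l i = netPerm l i
  | [], _, _ => rfl
  | s :: l, h, i => by
    rw [netOk, List.all_cons, Bool.and_eq_true] at h
    have e : netPerm (s :: l) i = s.swp (netPerm l i) := by simp [netPerm, Stage.perm]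
    rw [walk, force_eq, walk_eq (l := l) h.2, ← swp_eq h.1, e]

theorem walkW_eq {R : Rep} (hR : R.valid = true) :
    ∀ (w : List ℕ) (i : Fin R.N), walkW R w i = (evW (R.perm hR) w i : ℕ)
  | [], i => rfl
  | x :: w, i => by
    rw [walkW, force_eq, walkW_eq hR w i, walk_eq ((Rep.valid_spec hR).2.2.1 x), evW_cons,
      Equiv.Perm.mul_apply, Rep.perm_val]

theorem orbB_ok : orbitOK ONCert.rep ONCosets.hWords ptB roundsB orbB = true := by decide +kernel

theorem orbB_count : Nat.beq (bitCountBig orbB ONCert.rep.N) 5586 = true := by decide +kernel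

/-- Letters fixing the second point. -/
def kWords : List (List ℕ) := [[1], [2], [3], [4]]

theorem orbC_ok : orbitOK ONCert.rep kWords ptC roundsC orbC = true := by decide +kernel

theorem orbC_count : Nat.beq (bitCountBig orbC ONCert.rep.N) 672 = true := by decide +kernel

theorem kWords_fix : (kWords.all fun w => ONCosets.hWords.contains w &&
    Nat.beq (walkW ONCert.rep w ptB) ptB) = true := by
  decide +kernel

/-- Second base point. -/
def bB : Fin ONCert.rep.N := ⟨ptB, by decide⟩

/-- Third base point. -/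
def bC : Fin ONCert.rep.N := ⟨ptC, by decide⟩

theorem card_testBit {O n k : ℕ} (h : Nat.beq (bitCountBig O n) k = true) :
    Nat.card {j : Fin n // O.testBit j = true} = k := by
  rw [← Nat.eq_of_beq_eq_true (bitCount_of_big h), bitCount_eq, ← Nat.card_eq_finsetCard]
  refine Nat.card_congr ⟨fun j => ⟨j.1.1, by simp [j.1.2, j.2]⟩,
    fun j => ⟨⟨j.1, by have := j.2; simp only [Finset.mem_filter, Finset.mem_range] at this; exact this.1⟩,
      by have := j.2; simp only [Finset.mem_filter, Finset.mem_range] at this; exact this.2⟩,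
    fun j => rfl, fun j => rfl⟩

theorem phi_evW {w : List ℕ} (h : ∀ x ∈ w, x < ONCosets.letters.A.eps) :
    ONCosets.phi (evW ONCosets.ev w) = evW (ONCert.rep.perm ONCosets.rep_valid) w := by
  simp only [evW, map_list_prod, List.map_map]
  exact congrArg List.prod (List.map_congr_left fun y hy => ONCosets.phi_ev y (h y hy))

/-- The stabiliser of the second point in the subgroup. -/
noncomputable def S1 : Subgroup Cfsg.Spor.ON where
  carrier := {g | g ∈ ONCosets.H ∧ ONCosets.phi g bB = bB}
  one_mem' := ⟨one_mem _, by simp⟩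
  mul_mem' := fun {a b} ha hb => ⟨mul_mem ha.1 hb.1, by
    rw [map_mul, Equiv.Perm.mul_apply, hb.2, ha.2]⟩
  inv_mem' := fun {a} ha => ⟨inv_mem ha.1, by
    rw [map_inv]; exact (Equiv.symm_apply_eq _).2 ha.2.symm⟩

theorem card_S1_le : Nat.card S1 * 5586 ≤ 3753792 := by
  have : Finite ONCosets.H := Nat.finite_of_card_ne_zero ONOrder.card_H_le.1
  have horb := orbit_eq_of_ok ONCosets.rep_valid orbB_ok ONCosets.phi ONCosets.phi_ev ONCosets.H_eq
    bB.isLt
  choose f hf using fun j : {j : Fin ONCert.rep.N // orbB.testBit j = true} => (horb j.1).2 j.2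
  rw [← ONOrder.card_H, ← card_testBit orbB_count, ← Nat.card_prod]
  refine Nat.card_le_card_of_injective
    (fun q : S1 × {j : Fin ONCert.rep.N // orbB.testBit j = true} =>
      (⟨f q.2 * q.1.1, mul_mem (hf q.2).1 q.1.2.1⟩ : ONCosets.H)) ?_
  rintro ⟨s, j⟩ ⟨s', j'⟩ h
  have h0 : f j * s.1 = f j' * s'.1 := congrArg Subtype.val h
  have h1 := congrArg (fun g => ONCosets.phi g bB) h0
  simp only [map_mul, Equiv.Perm.mul_apply, s.2.2, s'.2.2] at h1
  have hj : j = j' := Subtype.ext ((hf j).2.symm.trans (h1.trans (hf j').2))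
  subst hj
  exact Prod.ext (Subtype.ext (mul_left_cancel h0)) rfl

theorem eq_one_of_fix {g : Cfsg.Spor.ON}
    (h0 : ONCosets.phi g ⟨0, VCert.pos ONCert.cert_ok⟩ = ⟨0, VCert.pos ONCert.cert_ok⟩)
    (hB : ONCosets.phi g bB = bB) (hC : ONCosets.phi g bC = bC) : g = 1 := by
  have : Finite ONCosets.H := Nat.finite_of_card_ne_zero ONOrder.card_H_le.1
  have hle : S1 ≤ ONCosets.H := fun x hx => hx.1
  have : Finite S1 := Finite.of_injective _ (Subgroup.inclusion_injective hle)
  have hk : ∀ w ∈ kWords, evW ONCosets.ev w ∈ S1 := by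
    intro w hw
    have h := List.all_eq_true.1 kWords_fix w hw
    rw [Bool.and_eq_true, List.contains_iff_mem] at h
    refine ⟨ONCosets.mem_H h.1, Fin.ext ?_⟩
    rw [phi_evW, ← walkW_eq ONCosets.rep_valid w bB]
    · exact Nat.eq_of_beq_eq_true h.2
    · intro x hx
      have hall : (kWords.all fun w => w.all fun x => Nat.blt x ONCosets.letters.A.eps) = true := by
        decide +kernel
      simp only [List.all_eq_true, Nat.blt_eq] at hall
      exact hall w hw x hx
  let Kg : Subgroup Cfsg.Spor.ON := Subgroup.closure ((fun w => evW ONCosets.ev w) '' {w | w ∈ kWords})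
  have hKle : Kg ≤ S1 := (Subgroup.closure_le _).2 (by rintro _ ⟨w, hw, rfl⟩; exact hk w hw)
  have horb := orbit_eq_of_ok ONCosets.rep_valid orbC_ok ONCosets.phi ONCosets.phi_ev (H := Kg) rfl
    bC.isLt
  choose f hf using fun j : {j : Fin ONCert.rep.N // orbC.testBit j = true} => (horb j.1).2 j.2
  let F : {j : Fin ONCert.rep.N // orbC.testBit j = true} → S1 := fun j => ⟨f j, hKle (hf j).1⟩
  have hFi : Function.Injective F := fun a b h => Subtype.ext ((hf a).2.symm.trans
    ((congrArg (fun g : S1 => ONCosets.phi g.1 bC) h).trans (hf b).2))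
  have hcard : Nat.card S1 ≤ Nat.card {j : Fin ONCert.rep.N // orbC.testBit j = true} := by
    rw [card_testBit orbC_count]
    exact Nat.le_of_mul_le_mul_right (card_S1_le.trans_eq (by norm_num : (3753792 : ℕ) = 672 * 5586))
      (by norm_num)
  have hFs : Function.Surjective F := (hFi.bijective_of_nat_card_le hcard).2
  have hg : g ∈ S1 := ⟨ONOrder.mem_H_of_fix h0, hB⟩
  obtain ⟨a, ha⟩ := hFs ⟨g, hg⟩
  obtain ⟨b, hb⟩ := hFs 1
  have hab : a = b := by
    apply Subtype.ext
    have e1 : ONCosets.phi g bC = a.1 := by rw [← (hf a).2]; exact congrArg (fun q : S1 => ONCosets.phi q.1 bC) ha.symm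
    have e2 : ONCosets.phi (1 : Cfsg.Spor.ON) bC = b.1 := by
      rw [← (hf b).2]; exact congrArg (fun q : S1 => ONCosets.phi q.1 bC) hb.symm
    rw [← e1, ← e2, hC, map_one, Equiv.Perm.one_apply]
  rw [hab, hb] at ha
  exact (congrArg Subtype.val ha).symm

/-- The word fixes the three base points. -/
noncomputable def ptsOK (w : List ℕ) : Bool :=
  w.all (fun x => Nat.blt x ONCert.alphabet.eps) && Nat.beq (walkW ONCert.rep w 0) 0 &&
    Nat.beq (walkW ONCert.rep w ptB) ptB && Nat.beq (walkW ONCert.rep w ptC) ptC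

theorem evW_eq_one_of_ptsOK {w : List ℕ} (h : ptsOK w = true) : evW ONCosets.ev w = 1 := by
  simp only [ptsOK, Bool.and_eq_true, List.all_eq_true, Nat.blt_eq] at h
  obtain ⟨⟨⟨hlt, h0⟩, hB⟩, hC⟩ := h
  refine eq_one_of_fix (Fin.ext ?_) (Fin.ext ?_) (Fin.ext ?_) <;>
    rw [phi_evW hlt, ← walkW_eq ONCosets.rep_valid]
  exacts [Nat.eq_of_beq_eq_true h0, Nat.eq_of_beq_eq_true hB, Nat.eq_of_beq_eq_true hC]

end CfsgLib.Presented.ONBase
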