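import Cfsg.Agent.Lib.Presented.ONPermJRels
import Cfsg.Agent.Lib.Sporadic.J1
import Cfsg.Prelude.Def_Sporadic

/-!
J1 inside the presented group.
-/
set_option autoImplicit false
set_option maxRecDepth 8000

namespace CfsgLib.Presented.ONPerm

open Cfsg

section JOne

open CfsgLib.Sporadic CfsgLib.Sporadic.J1

/-- The two generators. -/
noncomputable def genJ (i : ℕ) : Cfsg.Spor.J1 :=
  ⟨cond (Nat.beq i 0) Cfsg.Spor.jankoX Cfsg.Spor.jankoY, by
    cases Nat.beq i 0 <;> exact Subgroup.subset_closure (by simp)⟩

theorem emb_genJ : ∀ w : List ℕ, (∀ i ∈ w, i < 2) →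
    J1.emb (evW genJ w).1 = J1.dec (genWord J1.mul J1.one J1.gens w)
  | [], _ => by rw [evW_nil, Subgroup.coe_one, map_one, genWord_nil, J1.hone]
  | i :: w, h => by
    rw [evW_cons, Subgroup.coe_mul, map_mul, genWord_cons, J1.hmul,
      emb_genJ w fun j hj => h j (List.mem_cons_of_mem _ hj)]
    congr 1
    have := h i List.mem_cons_self
    interval_cases i
    exacts [J1.emb_X, J1.emb_Y]

/-- The value of a letter in the pair. -/
noncomputable def evJ (x : ℕ) : Cfsg.Spor.J1 × Cfsg.Spor.ON :=
  (evW genJ (ONJOne.modelWords.getD x []), onLetter ONJOne.onWords x)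

theorem jwords_lt : (ONJOne.modelWords.all fun w => w.all fun i => Nat.blt i 2) = true := by
  decide +kernel

theorem jmodel_rels : (ONJOne.relWords.all fun w =>
    Nat.beq (genWord J1.mul J1.one J1.gens (expand ONJOne.modelWords w)) J1.one) = true := by
  decide +kernel

theorem evJ_rels : ∀ w ∈ ONJOne.relWords, evW evJ w = 1 := by
  intro w hw
  refine Prod.ext ?_ ?_
  · rw [(fst_evW _ w).1]
    show evW (fun x => evW genJ (ONJOne.modelWords.getD x [])) w = 1
    rw [← evW_expand]
    refine Subtype.ext (J1.hemb ?_)
    rw [emb_genJ _ (expand_lt jwords_lt w),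
      Nat.eq_of_beq_eq_true (List.all_eq_true.1 jmodel_rels w hw), J1.hone]
    exact (map_one J1.emb).symm
  · rw [(fst_evW _ w).2]
    exact on_eq_one jon_rels hw

theorem jgen_words : (ONJOne.genWords.map fun w => genWord J1.mul J1.one J1.gens
    (expand ONJOne.modelWords w)) = J1.gens := by
  decide +kernel

theorem exists_j1 : ∃ S : Subgroup Cfsg.Spor.ON, Cfsg.IsJ1 S := by
  have : Finite Cfsg.Spor.J1 := Nat.finite_of_card_ne_zero (by rw [J1.card_J1]; norm_num)
  have : IsSimpleGroup Cfsg.Spor.J1 := J1.isSimple_J1
  refine (exists_subgroup_equiv_of_cert (s := [0, 1, 0, 2]) (k := 19) ONJOne.cert_ok evJ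
    (Prod.ext rfl rfl) (fun x hx => by
      have hl : ONJOne.alphabet.eps = 3 := rfl
      have hx3 : x < 3 := hx
      have hw : [ONJOne.alphabet.invl x, x] ∈ ONJOne.relWords := by
        have : ((List.range 3).all fun x =>
            ONJOne.relWords.contains [ONJOne.alphabet.invl x, x]) = true := by decide +kernel
        simpa using List.all_eq_true.1 this x (List.mem_range.2 hx3)
      show evJ (ONJOne.alphabet.invl x) * evJ x = 1
      simpa [evW_cons] using evJ_rels _ hw)
    evJ_rels (by norm_num) rfl (by decide) (by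
      rw [← evW_wpow]
      exact evJ_rels _ (by decide +kernel)) ?_ ⟨0, by decide, ?_⟩ (by rw [J1.card_J1]; rfl)).elim fun S hS => ?_
  rotate_left 2
  · obtain ⟨e⟩ := hS
    exact ⟨S, e.symm.isSimpleGroup, by rw [← Nat.card_congr e.toEquiv, J1.card_J1]⟩
  · rw [eq_top_iff]
    rintro ⟨y, hy⟩ -
    have hgen : ∀ i < 2, genJ i ∈ Subgroup.closure
        ((fun x => (evJ x).1) '' Set.Iio ONJOne.cert.R.A.eps) := by
      intro i hi
      have h := congrArg (fun l => l.getD i J1.one) jgen_words
      have hl : i < ONJOne.genWords.length := by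
        have : ONJOne.genWords.length = 2 := by decide +kernel
        omega
      have h' : genWord J1.mul J1.one J1.gens (expand ONJOne.modelWords ONJOne.genWords[i]) = J1.gens.getD i J1.one := by
        rw [← h, List.getD_eq_getElem _ _ (by rw [List.length_map]; exact hl), List.getElem_map]
      have he : evW genJ (expand ONJOne.modelWords ONJOne.genWords[i]) = genJ i := by
        refine Subtype.ext (J1.hemb ?_)
        rw [emb_genJ _ (expand_lt jwords_lt _), h']
        interval_cases i
        exacts [J1.emb_X.symm, J1.emb_Y.symm]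
      rw [← he, evW_expand]
      refine Subgroup.list_prod_mem _ fun z hz => ?_
      obtain ⟨x, hx, rfl⟩ := List.mem_map.1 hz
      refine Subgroup.subset_closure ⟨x, ?_, rfl⟩
      have hb : (ONJOne.genWords.all fun w => w.all fun y => Nat.blt y ONJOne.cert.R.A.eps) = true := by
        decide +kernel
      simp only [List.all_eq_true, Nat.blt_eq] at hb
      exact hb _ (List.getElem_mem hl) x hx
    have hX := hgen 0 (by norm_num)
    have hY := hgen 1 (by norm_num)
    induction hy using Subgroup.closure_induction with
    | mem z hz =>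
      rcases hz with rfl | rfl
      exacts [hX, hY]
    | one => exact one_mem _
    | mul a b ha hb iha ihb => exact mul_mem iha ihb
    | inv a ha iha => exact inv_mem iha
  · show onLetter ONJOne.onWords 0 ≠ 1
    exact onLetter_ne_one (i := 2) (by decide +kernel) (by decide +kernel) (by decide +kernel)

end JOne

end CfsgLib.Presented.ONPerm
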