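import Cfsg.Agent.Lib.Presented.ONPermMRels
import Cfsg.Agent.Lib.Schur.OutM11
import Cfsg.Agent.Lib.Golay.Mathieu
import Cfsg.Prelude.Def_Sporadic

/-!
M11 inside the presented group.
-/
set_option autoImplicit false
set_option maxRecDepth 8000

namespace CfsgLib.Presented.ONPerm

open Cfsg

section MEleven

open CfsgLib.Golay CfsgLib.Schur

/-- The three generators. -/
def genMPerm (i : ℕ) : Equiv.Perm GolayPt :=
  cond (Nat.beq i 0) OutM11.genA (cond (Nat.beq i 1) OutM11.genB OutM11.genC)

/-- Their image lists. -/
def genML (i : ℕ) : List ℕ :=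
  cond (Nat.beq i 0) OutM11.genAL (cond (Nat.beq i 1) OutM11.genBL OutM11.genCL)

/-- The generators in M11. -/
def genM (i : ℕ) : Cfsg.Spor.M11 :=
  ⟨genMPerm i, OutM11.gens_mem _ (by
    unfold genMPerm; cases Nat.beq i 0 <;> cases Nat.beq i 1 <;> simp)⟩

/-- The image list of a word. -/
def wordM : List ℕ → List ℕ
  | [] => List.range 24
  | i :: w => comp (genML i) (wordM w)

theorem toList_genM : ∀ w : List ℕ, toList (evW genM w).1 = wordM w
  | [] => toList_one
  | i :: w => by
    rw [evW_cons, Subgroup.coe_mul, toList_mul, toList_genM w, wordM]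
    congr 1
    show toList (genMPerm i) = genML i
    unfold genMPerm genML
    cases Nat.beq i 0 <;> cases Nat.beq i 1 <;>
      simp [OutM11.toList_genA, OutM11.toList_genB, OutM11.toList_genC]

/-- The value of a letter in the pair. -/
noncomputable def evM (x : ℕ) : Cfsg.Spor.M11 × Cfsg.Spor.ON :=
  (evW genM (ONMEleven.modelWords.getD x []), onLetter ONMEleven.onWords x)

theorem mmodel_rels : (ONMEleven.relWords.all fun w =>
    wordM (expand ONMEleven.modelWords w) == List.range 24) = true := by
  decide +kernel

theorem evM_rels : ∀ w ∈ ONMEleven.relWords, evW evM w = 1 := by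
  intro w hw
  refine Prod.ext ?_ ?_
  · rw [(fst_evW _ w).1]
    show evW (fun x => evW genM (ONMEleven.modelWords.getD x [])) w = 1
    rw [← evW_expand]
    refine Subtype.ext (toList_injective ?_)
    rw [toList_genM, beq_iff_eq.1 (List.all_eq_true.1 mmodel_rels w hw)]
    exact toList_one.symm
  · rw [(fst_evW _ w).2]
    exact on_eq_one mon_rels hw

theorem mgen_words : (ONMEleven.genWords.map fun w => wordM (expand ONMEleven.modelWords w)) =
    [OutM11.genAL, OutM11.genBL, OutM11.genCL] := by
  decide +kernel

theorem exists_m11 : ∃ S : Subgroup Cfsg.Spor.ON, Cfsg.IsM11 S := by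
  have : IsSimpleGroup Cfsg.Spor.M11 := isSimpleGroup_sporM11
  refine (exists_subgroup_equiv_of_cert (s := [0, 1]) (k := 11) ONMEleven.cert_ok evM
    (Prod.ext rfl rfl) (fun x hx => by
      have hx3 : x < 3 := hx
      have hw : [ONMEleven.alphabet.invl x, x] ∈ ONMEleven.relWords := by
        have : ((List.range 3).all fun x =>
            ONMEleven.relWords.contains [ONMEleven.alphabet.invl x, x]) = true := by decide +kernel
        simpa using List.all_eq_true.1 this x (List.mem_range.2 hx3)
      show evM (ONMEleven.alphabet.invl x) * evM x = 1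
      simpa [evW_cons] using evM_rels _ hw)
    evM_rels (by norm_num) rfl (by decide) (by
      rw [← evW_wpow]
      exact evM_rels _ (by decide +kernel)) ?_ ⟨0, by decide, ?_⟩ (by rw [natCard_sporM11]; rfl)).elim fun S hS => ?_
  rotate_left 2
  · obtain ⟨e⟩ := hS
    exact ⟨S, e.symm.isSimpleGroup, by rw [← Nat.card_congr e.toEquiv, natCard_sporM11]⟩
  · rw [eq_top_iff]
    rintro ⟨y, hy⟩ -
    have hgen : ∀ i < 3, genM i ∈ Subgroup.closure
        ((fun x => (evM x).1) '' Set.Iio ONMEleven.cert.R.A.eps) := by
      intro i hi
      have h := congrArg (fun l => l.getD i []) mgen_words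
      have hl : i < ONMEleven.genWords.length := by
        have : ONMEleven.genWords.length = 3 := by decide +kernel
        omega
      have h' : wordM (expand ONMEleven.modelWords ONMEleven.genWords[i]) =
          [OutM11.genAL, OutM11.genBL, OutM11.genCL].getD i [] := by
        rw [← h, List.getD_eq_getElem _ _ (by rw [List.length_map]; exact hl), List.getElem_map]
      have he : evW genM (expand ONMEleven.modelWords ONMEleven.genWords[i]) = genM i := by
        refine Subtype.ext (toList_injective ?_)
        rw [toList_genM, h']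
        interval_cases i
        exacts [OutM11.toList_genA.symm, OutM11.toList_genB.symm, OutM11.toList_genC.symm]
      rw [← he, evW_expand]
      refine Subgroup.list_prod_mem _ fun z hz => ?_
      obtain ⟨x, hx, rfl⟩ := List.mem_map.1 hz
      refine Subgroup.subset_closure ⟨x, ?_, rfl⟩
      have hb : (ONMEleven.genWords.all fun w =>
          w.all fun y => Nat.blt y ONMEleven.cert.R.A.eps) = true := by decide +kernel
      simp only [List.all_eq_true, Nat.blt_eq] at hb
      exact hb _ (List.getElem_mem hl) x hx
    have hy' : y ∈ Subgroup.closure {OutM11.genA, OutM11.genB, OutM11.genC} := by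
      rw [OutM11.closure_eq]; exact hy
    have hA := hgen 0 (by norm_num)
    have hB := hgen 1 (by norm_num)
    have hC := hgen 2 (by norm_num)
    have key : ∀ z ∈ Subgroup.closure {OutM11.genA, OutM11.genB, OutM11.genC},
        z ∈ (Subgroup.closure ((fun x => (evM x).1) '' Set.Iio ONMEleven.cert.R.A.eps)).map
          Cfsg.Spor.M11.subtype := by
      intro z hz
      refine (Subgroup.closure_le _).2 ?_ hz
      rintro _ (rfl | rfl | rfl)
      exacts [⟨_, hA, rfl⟩, ⟨_, hB, rfl⟩, ⟨_, hC, rfl⟩]
    obtain ⟨z, hz, hzy⟩ := key y hy'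
    have : z = ⟨y, hy⟩ := Subtype.ext hzy
    rwa [← this]
  · show onLetter ONMEleven.onWords 0 ≠ 1
    exact onLetter_ne_one (i := 2) (by decide +kernel) (by decide +kernel) (by decide +kernel)

end MEleven

end CfsgLib.Presented.ONPerm
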