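import Cfsg.Agent.Lib.Presented.ONSimple
import Cfsg.Agent.Lib.Presented.ONPermJ
import Cfsg.Agent.Lib.Presented.ONPermM

/-!
The O'Nan group as permutations of 122760 points, with its subgroups J1 and M11.
-/
set_option autoImplicit false
set_option maxRecDepth 8000

namespace CfsgLib.Presented.ONPerm

open Cfsg

theorem exists_realization : ∃ H : Subgroup (Equiv.Perm (Fin 122760)), Cfsg.IsON H ∧
    MulAction.IsPretransitive H (Fin 122760) ∧
    Nat.card (MulAction.stabilizer H (0 : Fin 122760)) = 3753792 ∧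
    (∃ K : Subgroup H, Cfsg.IsJ1 K) ∧ (∃ K : Subgroup H, Cfsg.IsM11 K) := by
  let φ : Cfsg.Spor.ON →* Equiv.Perm (Fin 122760) := ONCosets.phi
  let e : Cfsg.Spor.ON ≃* φ.range := MonoidHom.ofInjective ONOrder.phi_injective
  have hcard : Nat.card φ.range = 460815505920 := by
    rw [← Nat.card_congr e.toEquiv, ONOrder.card_eq]
  have : IsSimpleGroup Cfsg.Spor.ON := ONSimple.simple
  have htr : MulAction.IsPretransitive φ.range (Fin 122760) := by
    have hmv : ∀ j : Fin 122760, ∃ g : φ.range, g • (0 : Fin 122760) = j := fun j => by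
      obtain ⟨g, hg⟩ := ONSimple.transitive j
      exact ⟨⟨φ g, ⟨g, rfl⟩⟩, hg⟩
    refine ⟨fun i j => ?_⟩
    obtain ⟨a, ha⟩ := hmv i
    obtain ⟨b, hb⟩ := hmv j
    exact ⟨b * a⁻¹, by rw [mul_smul, ← ha, inv_smul_smul, hb]⟩
  have hsub : ∀ S : Subgroup Cfsg.Spor.ON, ∃ K : Subgroup φ.range, Nonempty (S ≃* K) := fun S =>
    ⟨S.map e.toMonoidHom, ⟨e.subgroupMap S⟩⟩
  refine ⟨φ.range, ⟨e.symm.isSimpleGroup, hcard⟩, htr, ?_, ?_, ?_⟩
  · have h := Nat.card_congr (MulAction.orbitProdStabilizerEquivGroup φ.range (0 : Fin 122760))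
    rw [Nat.card_prod, MulAction.orbit_eq_univ, Nat.card_coe_set_eq, Set.ncard_univ, Nat.card_fin,
      hcard] at h
    omega
  · obtain ⟨S, hS⟩ := exists_j1
    obtain ⟨K, ⟨f⟩⟩ := hsub S
    have := hS.1
    exact ⟨K, f.symm.isSimpleGroup, by rw [← Nat.card_congr f.toEquiv, hS.2]⟩
  · obtain ⟨S, hS⟩ := exists_m11
    obtain ⟨K, ⟨f⟩⟩ := hsub S
    have := hS.1
    exact ⟨K, f.symm.isSimpleGroup, by rw [← Nat.card_congr f.toEquiv, hS.2]⟩

end CfsgLib.Presented.ONPerm
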