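import Cfsg.Agent.Lib.Presented.ONBase
import Cfsg.Agent.Lib.Presented.GraphEmbed

/-!
Words in the presented group and their values.
-/
set_option autoImplicit false
set_option maxRecDepth 8000

namespace CfsgLib.Presented.ONPerm

open Cfsg

/-- The value of a letter that is a word. -/
noncomputable def onLetter (ws : List (List ℕ)) (x : ℕ) : Cfsg.Spor.ON :=
  evW ONCosets.ev (ws.getD x [])

/-- Substitution. -/
def expand (ws : List (List ℕ)) (w : List ℕ) : List ℕ := w.flatMap fun x => ws.getD x []

theorem evW_expand {G : Type*} [Group G] (e : ℕ → G) (ws : List (List ℕ)) :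
    ∀ w : List ℕ, evW e (expand ws w) = evW (fun x => evW e (ws.getD x [])) w
  | [] => rfl
  | x :: w => by
    have := evW_expand e ws w
    simp only [expand] at this
    simp only [expand, List.flatMap_cons, evW_append, evW_cons, this]

theorem on_eq_one {ws rels : List (List ℕ)}
    (h : ∀ w ∈ rels, ONBase.ptsOK (expand ws w) = true) {w : List ℕ} (hw : w ∈ rels) :
    evW (onLetter ws) w = 1 := by
  have h' := ONBase.evW_eq_one_of_ptsOK (h w hw)
  rwa [evW_expand] at h'

theorem onLetter_ne_one {ws : List (List ℕ)} {x i : ℕ}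
    (hlt : ((ws.getD x []).all fun y => Nat.blt y ONCosets.letters.A.eps) = true)
    (hi : Nat.blt i ONCert.rep.N = true)
    (h : Nat.beq (ONBase.walkW ONCert.rep (ws.getD x []) i) i = false) :
    onLetter ws x ≠ 1 := by
  intro he
  have h1 := congrArg ONCosets.phi he
  rw [map_one] at h1
  simp only [List.all_eq_true, Nat.blt_eq] at hlt
  rw [onLetter, ONBase.phi_evW hlt] at h1
  rw [Nat.blt_eq] at hi
  have h3 := ONBase.walkW_eq ONCosets.rep_valid (ws.getD x []) ⟨i, hi⟩
  rw [h1, Equiv.Perm.one_apply] at h3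
  simp only at h3
  rw [h3] at h
  simp at h

theorem fst_evW {M G : Type*} [Group M] [Group G] (e : ℕ → M × G) :
    ∀ w : List ℕ, (evW e w).1 = evW (fun x => (e x).1) w ∧ (evW e w).2 = evW (fun x => (e x).2) w
  | [] => ⟨rfl, rfl⟩
  | x :: w => by simp [(fst_evW e w).1, (fst_evW e w).2]

theorem expand_lt {ws : List (List ℕ)} {b : ℕ} (h : (ws.all fun w => w.all fun i => Nat.blt i b) = true)
    (w : List ℕ) : ∀ i ∈ expand ws w, i < b := by
  simp only [List.all_eq_true, Nat.blt_eq] at h
  intro i hi
  obtain ⟨x, -, hx⟩ := List.mem_flatMap.1 hi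
  rcases lt_or_ge x ws.length with hl | hl
  · rw [List.getD_eq_getElem _ _ hl] at hx
    exact h _ (List.getElem_mem hl) i hx
  · rw [List.getD_eq_default _ _ hl] at hx
    exact absurd hx List.not_mem_nil

end CfsgLib.Presented.ONPerm
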