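import Cfsg.Agent.Lib.Presented.ONPermBase
import Cfsg.Agent.Lib.Presented.Cert.ONJOne

/-!
Relators of J1 hold in the table.
-/
set_option autoImplicit false
set_option maxRecDepth 8000
set_option Elab.async false

namespace CfsgLib.Presented.ONPerm

open Cfsg

theorem jon_rel0 : ONBase.ptsOK (expand ONJOne.onWords (ONJOne.relWords.getD 0 [])) = true := by
  decide +kernel

theorem jon_rel1 : ONBase.ptsOK (expand ONJOne.onWords (ONJOne.relWords.getD 1 [])) = true := by
  decide +kernel

theorem jon_rel2 : ONBase.ptsOK (expand ONJOne.onWords (ONJOne.relWords.getD 2 [])) = true := by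
  decide +kernel

theorem jon_rel3 : ONBase.ptsOK (expand ONJOne.onWords (ONJOne.relWords.getD 3 [])) = true := by
  decide +kernel

theorem jon_rel4 : ONBase.ptsOK (expand ONJOne.onWords (ONJOne.relWords.getD 4 [])) = true := by
  decide +kernel

theorem jon_rel5 : ONBase.ptsOK (expand ONJOne.onWords (ONJOne.relWords.getD 5 [])) = true := by
  decide +kernel

theorem jon_rel6 : ONBase.ptsOK (expand ONJOne.onWords (ONJOne.relWords.getD 6 [])) = true := by
  decide +kernel

theorem jon_rel7 : ONBase.ptsOK (expand ONJOne.onWords (ONJOne.relWords.getD 7 [])) = true := by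
  decide +kernel

theorem jon_rels : ∀ w ∈ ONJOne.relWords, ONBase.ptsOK (expand ONJOne.onWords w) = true := by
  intro w hw
  obtain ⟨k, hk, rfl⟩ := List.getElem_of_mem hw
  have hn : ONJOne.relWords.length = 8 := rfl
  rw [← List.getD_eq_getElem ONJOne.relWords [] hk]
  rcases (show k = 0 ∨ k = 1 ∨ k = 2 ∨ k = 3 ∨ k = 4 ∨ k = 5 ∨ k = 6 ∨ k = 7 by omega) with
    rfl | rfl | rfl | rfl | rfl | rfl | rfl | rfl
  exacts [jon_rel0, jon_rel1, jon_rel2, jon_rel3, jon_rel4, jon_rel5, jon_rel6, jon_rel7]

end CfsgLib.Presented.ONPerm
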