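import Cfsg.Agent.Lib.Presented.ONPermBase
import Cfsg.Agent.Lib.Presented.Cert.ONMEleven

/-!
Relators of M11 hold in the table.
-/
set_option autoImplicit false
set_option maxRecDepth 8000
set_option Elab.async false

namespace CfsgLib.Presented.ONPerm

open Cfsg

theorem mon_rel0 : ONBase.ptsOK (expand ONMEleven.onWords (ONMEleven.relWords.getD 0 [])) = true := by
  decide +kernel

theorem mon_rel1 : ONBase.ptsOK (expand ONMEleven.onWords (ONMEleven.relWords.getD 1 [])) = true := by
  decide +kernel

theorem mon_rel2 : ONBase.ptsOK (expand ONMEleven.onWords (ONMEleven.relWords.getD 2 [])) = true := by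
  decide +kernel

theorem mon_rel3 : ONBase.ptsOK (expand ONMEleven.onWords (ONMEleven.relWords.getD 3 [])) = true := by
  decide +kernel

theorem mon_rel4 : ONBase.ptsOK (expand ONMEleven.onWords (ONMEleven.relWords.getD 4 [])) = true := by
  decide +kernel

theorem mon_rel5 : ONBase.ptsOK (expand ONMEleven.onWords (ONMEleven.relWords.getD 5 [])) = true := by
  decide +kernel

theorem mon_rel6 : ONBase.ptsOK (expand ONMEleven.onWords (ONMEleven.relWords.getD 6 [])) = true := by
  decide +kernel

theorem mon_rel7 : ONBase.ptsOK (expand ONMEleven.onWords (ONMEleven.relWords.getD 7 [])) = true := by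
  decide +kernel

theorem mon_rels : ∀ w ∈ ONMEleven.relWords, ONBase.ptsOK (expand ONMEleven.onWords w) = true := by
  intro w hw
  obtain ⟨k, hk, rfl⟩ := List.getElem_of_mem hw
  have hn : ONMEleven.relWords.length = 8 := rfl
  rw [← List.getD_eq_getElem ONMEleven.relWords [] hk]
  rcases (show k = 0 ∨ k = 1 ∨ k = 2 ∨ k = 3 ∨ k = 4 ∨ k = 5 ∨ k = 6 ∨ k = 7 by omega) with
    rfl | rfl | rfl | rfl | rfl | rfl | rfl | rfl
  exacts [mon_rel0, mon_rel1, mon_rel2, mon_rel3, mon_rel4, mon_rel5, mon_rel6, mon_rel7]

end CfsgLib.Presented.ONPerm
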