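import Cfsg.Agent.Lib.Presented.VCert
import Mathlib.Data.ZMod.Basic
import Mathlib.Tactic.Ring

/-!
Twisted lifts of a table to three copies of its points: each letter negates the copy index and adds a
value read off two bit planes.  The total shift of a word is computed on bit planes with the networks.
-/
set_option autoImplicit false

namespace CfsgLib.Presented

open Vec

namespace Shift

/-- value of two plane bits -/
def bitVal (p q : Bool) : ZMod 3 := cond p 1 (cond q 2 0)

/-- value of two planes at a position -/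
def planeVal (s : ℕ × ℕ) (i : ℕ) : ZMod 3 := bitVal (s.1.testBit i) (s.2.testBit i)

/-- `a` without `b` -/
noncomputable def diff (a b : ℕ) : ℕ := Nat.xor a (Nat.land a b)

/-- first plane of the letter value minus the moved value -/
noncomputable def sub1 (a b c d : ℕ) : ℕ :=
  Nat.lor (Nat.lor (diff (diff b a) (Nat.lor c d)) (diff (diff c a) b)) (Nat.land a (diff d c))

/-- second plane of the letter value minus the moved value -/
noncomputable def sub2 (a b c d : ℕ) : ℕ :=
  Nat.lor (Nat.lor (diff a (Nat.lor c d)) (diff (diff (diff d c) a) b)) (Nat.land (diff b a) c)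

theorem testBit_diff (a b i : ℕ) : (diff a b).testBit i = (a.testBit i && !b.testBit i) := by
  show (a ^^^ (a &&& b)).testBit i = _
  rw [Nat.testBit_xor, Nat.testBit_and]
  cases a.testBit i <;> cases b.testBit i <;> rfl

theorem planeVal_sub (a b c d i : ℕ) :
    planeVal (sub1 a b c d, sub2 a b c d) i = planeVal (c, d) i - planeVal (a, b) i := by
  simp only [planeVal]
  have e1 : (sub1 a b c d).testBit i =
      ((diff (diff b a) (Nat.lor c d)).testBit i || (diff (diff c a) b).testBit i ||
        (Nat.land a (diff d c)).testBit i) := by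
    show ((_ ||| _) ||| _ : ℕ).testBit i = _
    rw [Nat.testBit_or, Nat.testBit_or]
  have e2 : (sub2 a b c d).testBit i =
      ((diff a (Nat.lor c d)).testBit i || (diff (diff (diff d c) a) b).testBit i ||
        (Nat.land (diff b a) c).testBit i) := by
    show ((_ ||| _) ||| _ : ℕ).testBit i = _
    rw [Nat.testBit_or, Nat.testBit_or]
  have e3 : ∀ p q : ℕ, (Nat.lor p q).testBit i = (p.testBit i || q.testBit i) := fun p q => Nat.testBit_or p q i
  have e4 : ∀ p q : ℕ, (Nat.land p q).testBit i = (p.testBit i && q.testBit i) := fun p q => Nat.testBit_and p q i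
  simp only [e1, e2, e3, e4, testBit_diff]
  cases a.testBit i <;> cases b.testBit i <;> cases c.testBit i <;> cases d.testBit i <;> decide

/-- the planes of a letter -/
def pl (al : List (ℕ × ℕ)) (x : ℕ) : ℕ × ℕ := al.getD x (0, 0)

variable (R : Rep) (al : List (ℕ × ℕ))

/-- one letter on two planes -/
noncomputable def step (x : ℕ) (s : ℕ × ℕ) : ℕ × ℕ :=
  (sub1 (applyNet (R.net x) s.1) (applyNet (R.net x) s.2) (pl al x).1 (pl al x).2,
    sub2 (applyNet (R.net x) s.1) (applyNet (R.net x) s.2) (pl al x).1 (pl al x).2)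

/-- run through a reversed word, evaluating as we go -/
noncomputable def go : List ℕ → ℕ → ℕ → (ℕ → ℕ → Bool) → Bool
  | [], a, b, f => f a b
  | x :: w, a, b, f =>
    force (applyNet (R.net x) a) fun a' => force (applyNet (R.net x) b) fun b' =>
      force (sub1 a' b' (pl al x).1 (pl al x).2) fun p =>
        force (sub2 a' b' (pl al x).1 (pl al x).2) fun q => go w p q f

theorem go_eq : ∀ (w : List ℕ) (a b : ℕ) (f : ℕ → ℕ → Bool), go R al w a b f =
    f (w.foldl (fun s x => step R al x s) (a, b)).1 (w.foldl (fun s x => step R al x s) (a, b)).2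
  | [], _, _, _ => rfl
  | x :: w, a, b, f => by
    rw [go, force_eq, force_eq, force_eq, force_eq, go_eq w]
    rfl

/-- the word turns the start planes into the end planes -/
noncomputable def chk (w : List ℕ) (s e : ℕ × ℕ) : Bool :=
  w.all (fun x => Nat.blt x R.A.eps && Nat.beq (R.A.invl x) x) &&
    go R al w.reverse s.1 s.2 fun p q => agreeOn R.N p e.1 && agreeOn R.N q e.2

variable {R} {al} (h : R.valid = true)

theorem perm_perm {x : ℕ} (hx : x < R.A.eps) (hi : R.A.invl x = x) (r : Fin R.N) :
    R.perm h x (R.perm h x r) = r := by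
  have := (Rep.perm_good h).2 x hx.le
  rw [hi] at this
  exact DFunLike.congr_fun this r

/-- the lift of a letter -/
def letter (x : ℕ) : Equiv.Perm (Fin R.N × ZMod 3) where
  toFun q := (R.perm h x q.1, planeVal (pl al x) (R.perm h x q.1 : ℕ) - q.2)
  invFun q := ((R.perm h x).symm q.1, planeVal (pl al x) (q.1 : ℕ) - q.2)
  left_inv q := Prod.ext (Equiv.symm_apply_apply _ _) (sub_sub_cancel _ _)
  right_inv q := Prod.ext (Equiv.apply_symm_apply _ _) (by
    show planeVal _ (R.perm h x ((R.perm h x).symm q.1) : ℕ) - (_ - q.2) = q.2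
    rw [Equiv.apply_symm_apply, sub_sub_cancel])

theorem step_val {x : ℕ} (hx : x < R.A.eps) (hi : R.A.invl x = x) (s : ℕ × ℕ) (r : Fin R.N) :
    planeVal (step R al x s) r = planeVal (pl al x) r - planeVal s (R.perm h x r : ℕ) := by
  have hok := (Rep.valid_spec h).2.2.1 x
  rw [step, planeVal_sub]
  congr 1
  simp only [planeVal, testBit_applyNet hok, Rep.perm_val]

/-- the shift of a word at a final point -/
noncomputable def val : List ℕ → Fin R.N → ZMod 3
  | [], _ => 0
  | x :: w, r => planeVal (pl al x) r - val w (R.perm h x r)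

theorem run_val {v : List ℕ} : ∀ {w : List ℕ}, (∀ x ∈ w, x < R.A.eps ∧ R.A.invl x = x) → ∀ {s : ℕ × ℕ},
    (∀ r : Fin R.N, planeVal s r = val (al := al) h v r) →
    ∀ r : Fin R.N, planeVal (w.foldr (fun x t => step R al x t) s) r = val (al := al) h (w ++ v) r
  | [], _, _, hs, r => hs r
  | x :: w, hw, s, hs, r => by
    rw [List.foldr_cons, step_val h (hw x List.mem_cons_self).1 (hw x List.mem_cons_self).2,
      run_val (fun y hy => hw y (List.mem_cons_of_mem _ hy)) hs]
    rfl

theorem chk_sound {v w : List ℕ} {s e : ℕ × ℕ} (hc : chk R al w s e = true)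
    (hs : ∀ r : Fin R.N, planeVal s r = val (al := al) h v r) :
    ∀ r : Fin R.N, planeVal e r = val (al := al) h (w ++ v) r := by
  intro r
  simp only [chk, Bool.and_eq_true, List.all_eq_true, Nat.blt_eq] at hc
  obtain ⟨hw, hgo⟩ := hc
  rw [go_eq, List.foldl_reverse] at hgo
  simp only [Bool.and_eq_true] at hgo
  rw [← run_val h (fun x hx => ⟨(hw x hx).1, Nat.eq_of_beq_eq_true (hw x hx).2⟩) hs r]
  simp only [planeVal, agreeOn_spec hgo.1 r.2, agreeOn_spec hgo.2 r.2]

theorem val_zero (r : Fin R.N) : planeVal (0, 0) r = val (al := al) h [] r := by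
  simp [planeVal, bitVal, val]

theorem evW_letter : ∀ {w : List ℕ}, (∀ x ∈ w, x < R.A.eps ∧ R.A.invl x = x) → ∀ q : Fin R.N × ZMod 3,
    evW (letter (al := al) h) w q = (evW (R.perm h) w q.1,
      (-1) ^ w.length * q.2 + val (al := al) h w (evW (R.perm h) w q.1))
  | [], _, q => by simp [val]
  | x :: w, hw, q => by
    rw [evW_cons, Equiv.Perm.mul_apply, evW_letter (fun y hy => hw y (List.mem_cons_of_mem _ hy)) q,
      evW_cons, Equiv.Perm.mul_apply]
    refine Prod.ext rfl ?_
    show planeVal _ _ - _ = _
    rw [val, perm_perm h (hw x List.mem_cons_self).1 (hw x List.mem_cons_self).2, List.length_cons, pow_succ]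
    ring

end Shift

end CfsgLib.Presented
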