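import Cfsg.Agent.Lib.Presented.SuzCosets
import Cfsg.Agent.Lib.Presented.Cert.SuzASeed
import Cfsg.Agent.Lib.Presented.Cert.SuzACert
import Cfsg.Agent.Lib.Presented.Cert.SuzBSeed
import Cfsg.Agent.Lib.Presented.Cert.SuzBCert
import Cfsg.Agent.Lib.Presented.Cert.SuzCSeed
import Cfsg.Agent.Lib.Presented.Cert.SuzCCert
import Cfsg.Agent.Lib.Presented.Cert.SuzPSeed
import Cfsg.Agent.Lib.Presented.Cert.SuzDCert
import Cfsg.Agent.Lib.Presented.Cert.SuzLow
import Cfsg.Agent.Lib.Presented.Order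

/-!
The order of the presented Suzuki sporadic group.
-/
set_option autoImplicit false
set_option maxRecDepth 8000

namespace CfsgLib.Presented.SuzOrder

open SuzCosets (ev ev_one ev_inv rels_hold gen_top phi phi_ev rep_valid)

theorem abc5_eq : evW ev [0, 1, 2, 0, 1, 2, 0, 1, 2, 0, 1, 2, 0, 1, 2] = 1 := by
  have h := mem_of_fix (H := (⊥ : Subgroup _)) (SuzPSeed.loop0 (Enum.interp_sub (ev := ev) (A := SuzCert.alphabet) (emb := [0, 1, 2, 3])
    ev_one ev_inv (by decide +kernel) (by decide +kernel) (rels_of_check rels_hold (by decide +kernel))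
    (fun w hw => by simp [SuzPSeed.enum, SuzPSeed.subWords] at hw)))
  rw [Subgroup.mem_bot, ← evW_map] at h
  exact h

theorem abc5_known : ∀ w ∈ SuzCert.relWords ++ [[0, 1, 2, 0, 1, 2, 0, 1, 2, 0, 1, 2, 0, 1, 2]], evW ev w = 1 := by
  intro w hw
  rcases List.mem_append.1 hw with h | h
  · exact rels_hold w h
  · rw [List.mem_singleton.1 h]
    exact abc5_eq

theorem indexA_seed : evW (subEv ev SuzCert.alphabet.eps [0, 1, 2, 3, 4, 5]) [5, 1, 0, 2, 1, 3, 2, 1, 4, 3, 2, 1, 0, 5, 3, 0, 1, 0, 1, 2, 3, 4, 1, 2, 3, 2, 0, 1, 5] ∈ genBy ev [0, 1, 2, 3, 4] :=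
  mem_of_fix (SuzASeed.loop0 (Enum.interp_sub ev_one ev_inv (by decide +kernel) (by decide +kernel)
    (rels_of_check rels_hold (by decide +kernel))
    (subs_of_check (seeds := []) (by simp) (by decide +kernel))))

theorem indexA : (genBy ev [0, 1, 2, 3, 4]).relIndex (genBy ev [0, 1, 2, 3, 4, 5]) ≠ 0 ∧
    (genBy ev [0, 1, 2, 3, 4]).relIndex (genBy ev [0, 1, 2, 3, 4, 5]) ≤ SuzACert.cert.R.N :=
  relIndex_le_of_subCert (A := SuzCert.alphabet) (emb := [0, 1, 2, 3, 4, 5]) SuzACert.cert_ok ev_one ev_inv (by decide +kernel)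
    (by decide +kernel) (by decide +kernel) (rels_of_check rels_hold (by decide +kernel))
    (subs_of_check (seeds := [[5, 1, 0, 2, 1, 3, 2, 1, 4, 3, 2, 1, 0, 5, 3, 0, 1, 0, 1, 2, 3, 4, 1, 2, 3, 2, 0, 1, 5]]) (fun w hw => List.mem_singleton.1 hw ▸ indexA_seed) (by decide +kernel))

theorem indexB_seed : evW (subEv ev SuzCert.alphabet.eps [0, 1, 2, 3, 4]) [4, 3, 2, 1, 0, 1, 0, 3, 2, 1, 3, 2, 3, 1, 3, 2, 3, 1, 2, 3, 0, 1, 0, 1, 2, 3, 4] ∈ genBy ev [0, 1, 2, 3] :=
  mem_of_fix (SuzBSeed.loop0 (Enum.interp_sub ev_one ev_inv (by decide +kernel) (by decide +kernel)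
    (rels_of_check rels_hold (by decide +kernel))
    (subs_of_check (seeds := []) (by simp) (by decide +kernel))))

theorem indexB : (genBy ev [0, 1, 2, 3]).relIndex (genBy ev [0, 1, 2, 3, 4]) ≠ 0 ∧
    (genBy ev [0, 1, 2, 3]).relIndex (genBy ev [0, 1, 2, 3, 4]) ≤ SuzBCert.cert.R.N :=
  relIndex_le_of_subCert (A := SuzCert.alphabet) (emb := [0, 1, 2, 3, 4]) SuzBCert.cert_ok ev_one ev_inv (by decide +kernel)
    (by decide +kernel) (by decide +kernel) (rels_of_check rels_hold (by decide +kernel))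
    (subs_of_check (seeds := [[4, 3, 2, 1, 0, 1, 0, 3, 2, 1, 3, 2, 3, 1, 3, 2, 3, 1, 2, 3, 0, 1, 0, 1, 2, 3, 4]]) (fun w hw => List.mem_singleton.1 hw ▸ indexB_seed) (by decide +kernel))

theorem indexC_seed : evW (subEv ev SuzCert.alphabet.eps [0, 1, 2, 3]) [3, 2, 1, 0, 3, 2, 1, 0, 1, 2, 1, 0, 1, 2, 3, 0, 1, 2, 3] ∈ genBy ev [0, 1, 2] :=
  mem_of_fix (SuzCSeed.loop0 (Enum.interp_sub ev_one ev_inv (by decide +kernel) (by decide +kernel)
    (rels_of_check rels_hold (by decide +kernel))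
    (subs_of_check (seeds := []) (by simp) (by decide +kernel))))

theorem indexC : (genBy ev [0, 1, 2]).relIndex (genBy ev [0, 1, 2, 3]) ≠ 0 ∧
    (genBy ev [0, 1, 2]).relIndex (genBy ev [0, 1, 2, 3]) ≤ SuzCCert.cert.R.N :=
  relIndex_le_of_subCert (A := SuzCert.alphabet) (emb := [0, 1, 2, 3]) SuzCCert.cert_ok ev_one ev_inv (by decide +kernel)
    (by decide +kernel) (by decide +kernel) (rels_of_check rels_hold (by decide +kernel))
    (subs_of_check (seeds := [[3, 2, 1, 0, 3, 2, 1, 0, 1, 2, 1, 0, 1, 2, 3, 0, 1, 2, 3]]) (fun w hw => List.mem_singleton.1 hw ▸ indexC_seed) (by decide +kernel))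

theorem indexD : (genBy ev []).relIndex (genBy ev [0, 1, 2]) ≠ 0 ∧
    (genBy ev []).relIndex (genBy ev [0, 1, 2]) ≤ SuzDCert.cert.R.N :=
  relIndex_le_of_subCert (A := SuzCert.alphabet) (emb := [0, 1, 2]) SuzDCert.cert_ok ev_one ev_inv (by decide +kernel)
    (by decide +kernel) (by decide +kernel) (rels_of_check abc5_known (by decide +kernel))
    (subs_of_check (seeds := []) (by simp) (by decide +kernel))

theorem indexTop : (genBy ev [0, 1, 2, 3, 4, 5]).relIndex ⊤ ≠ 0 ∧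
    (genBy ev [0, 1, 2, 3, 4, 5]).relIndex ⊤ ≤ SuzCert.cert.R.N := by
  have e : SuzCosets.H = genBy ev [0, 1, 2, 3, 4, 5] := SuzCosets.H_eq.trans (closure_letters_eq ev [0, 1, 2, 3, 4, 5])
  rw [← e]
  exact relIndex_top_le SuzCert.cert_ok ev_one ev_inv rels_hold SuzCosets.subs_mem gen_top

theorem card_le : Nat.card Cfsg.Spor.Suz ≠ 0 ∧ Nat.card Cfsg.Spor.Suz ≤ 448345497600 :=
  card_top_le (card_le_mul (genBy_mono ev (by decide)) (card_le_mul (genBy_mono ev (by decide)) (card_le_mul (genBy_mono ev (by decide)) (card_le_mul (genBy_mono ev (by decide)) (card_bot_le ev) indexD) indexC) indexB) indexA) indexTop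

theorem card_ge : 448345497600 ≤ Nat.card phi.range :=
  SuzLow.levels_prod.symm.le.trans (chainProd_le_card_range rep_valid SuzLow.rep_valid phi phi_ev (L := SuzLow.level0) rfl
    SuzLow.chain_ok (by decide +kernel))

/-- The order. -/
theorem card_eq : Nat.card Cfsg.Spor.Suz = 448345497600 := (card_eq_and_injective phi card_le card_ge).1

theorem phi_injective : Function.Injective phi := (card_eq_and_injective phi card_le card_ge).2

end CfsgLib.Presented.SuzOrder
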